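import Mathlib

set_option autoImplicit false

namespace Cfsg.Agent.Lib.Helper1

open scoped Pointwise

variable {G : Type*} [Group G]

theorem conj_smul_eq_map (g : G) (H : Subgroup G) :
    MulAut.conj g • H = H.map (MulAut.conj g : G →* G) := rfl

theorem mem_normalizer_iff_smul {H : Subgroup G} {g : G} :
    g ∈ Subgroup.normalizer (H : Set G) ↔ MulAut.conj g • H = H := by
  rw [Subgroup.mem_normalizer_iff_map_conj_eq, conj_smul_eq_map]

theorem card_conj_smul (g : G) (H : Subgroup G) :
    Nat.card (MulAut.conj g • H : Subgroup G) = Nat.card H :=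
  Nat.card_congr (Subgroup.equivSMul (MulAut.conj g) H).toEquiv.symm

theorem le_normalizer_of_conj (B S : Subgroup G)
    (h : ∀ g ∈ B, ∀ x ∈ S, g * x * g⁻¹ ∈ S) : B ≤ Subgroup.normalizer (S : Set G) := by
  intro g hg
  rw [Subgroup.mem_normalizer_iff]
  intro x
  constructor
  · exact h g hg x
  · intro hx
    have := h g⁻¹ (B.inv_mem hg) _ hx
    have e : g⁻¹ * (g * x * g⁻¹) * g⁻¹⁻¹ = x := by group
    rw [e] at this
    exact this

theorem conj_mem_smul {g x : G} {H : Subgroup G} (hx : x ∈ H) :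
    g * x * g⁻¹ ∈ MulAut.conj g • H := by
  have := Subgroup.smul_mem_pointwise_smul x (MulAut.conj g) H hx
  simpa [MulAut.smul_def] using this

theorem exists_of_mem_conj_smul {g t : G} {H : Subgroup G} (ht : t ∈ MulAut.conj g • H) :
    ∃ x ∈ H, t = g * x * g⁻¹ := by
  obtain ⟨x, hx, rfl⟩ := (Subgroup.mem_smul_pointwise_iff_exists _ _ _).mp ht
  exact ⟨x, hx, by simp [MulAut.smul_def]⟩

end Cfsg.Agent.Lib.Helper1
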