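import Mathlib
import Cfsg.Agent.Lib.Helper1.Conj

set_option autoImplicit false

namespace Cfsg.Agent.Lib.Helper1

open scoped Pointwise

variable {G : Type*} [Group G]

theorem mem_normalizer_of_conj_le [Finite G] {P : Subgroup G} {n : G}
    (h : ∀ u ∈ P, n * u * n⁻¹ ∈ P) : n ∈ Subgroup.normalizer (P : Set G) := by
  rw [mem_normalizer_iff_smul]
  apply Subgroup.eq_of_le_of_card_ge
  · intro t ht
    obtain ⟨x, hx, rfl⟩ := exists_of_mem_conj_smul ht
    exact h x hx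
  · rw [card_conj_smul]

theorem exists_conj_of_sylow_card [Finite G] {p : ℕ} [Fact p.Prime] {K P Q : Subgroup G}
    (hP : P ≤ K) (hQ : Q ≤ K) (hPc : Nat.card P = p ^ (Nat.card K).factorization p)
    (hQc : Nat.card Q = p ^ (Nat.card K).factorization p) :
    ∃ y ∈ K, ∀ u ∈ P, y * u * y⁻¹ ∈ Q := by
  have hP' : Nat.card (P.subgroupOf K) = p ^ (Nat.card K).factorization p := by
    rw [← hPc]; exact Nat.card_congr (Subgroup.subgroupOfEquivOfLe hP).toEquiv
  have hQ' : Nat.card (Q.subgroupOf K) = p ^ (Nat.card K).factorization p := by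
    rw [← hQc]; exact Nat.card_congr (Subgroup.subgroupOfEquivOfLe hQ).toEquiv
  obtain ⟨y, hy⟩ := MulAction.exists_smul_eq K (Sylow.ofCard _ hP') (Sylow.ofCard _ hQ')
  refine ⟨y, y.2, ?_⟩
  intro u hu
  have h1 : (⟨u, hP hu⟩ : K) ∈ (Sylow.ofCard _ hP' : Subgroup K) := by
    rw [Sylow.coe_ofCard]; exact Subgroup.mem_subgroupOf.mpr hu
  have h2 : y * ⟨u, hP hu⟩ * y⁻¹ ∈ ((y • Sylow.ofCard _ hP' : Sylow p K) : Subgroup K) := by
    rw [Sylow.coe_subgroup_smul]
    exact conj_mem_smul h1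
  rw [hy, Sylow.coe_ofCard] at h2
  exact Subgroup.mem_subgroupOf.mp h2

theorem exists_normalizing_of_lt [Finite G] {p : ℕ} [Fact p.Prime] {P Q : Subgroup G}
    (hQ : IsPGroup p Q) (hlt : P < Q) :
    ∃ z ∈ Q, z ∉ P ∧ z ∈ Subgroup.normalizer (P : Set G) := by
  have hnil : Group.IsNilpotent Q := hQ.isNilpotent
  have hnc : NormalizerCondition Q := Group.normalizerCondition_of_isNilpotent
  have hlt' : P.subgroupOf Q < ⊤ := by
    rw [lt_top_iff_ne_top]
    intro h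
    rw [Subgroup.subgroupOf_eq_top] at h
    exact (not_le_of_gt hlt) h
  obtain ⟨z', hz'N, hz'P⟩ := SetLike.exists_of_lt (hnc _ hlt')
  refine ⟨z', z'.2, ?_, ?_⟩
  · intro h; exact hz'P (Subgroup.mem_subgroupOf.mpr h)
  · apply mem_normalizer_of_conj_le
    intro u hu
    have h1 : (⟨u, hlt.le hu⟩ : Q) ∈ P.subgroupOf Q := Subgroup.mem_subgroupOf.mpr hu
    have h2 := (Subgroup.mem_normalizer_iff.mp hz'N ⟨u, hlt.le hu⟩).mp h1
    exact Subgroup.mem_subgroupOf.mp h2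

end Cfsg.Agent.Lib.Helper1
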