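import Mathlib
import Cfsg.Prelude.Def_SylowControl
import Cfsg.Agent.S2955

set_option autoImplicit false

namespace Cfsg.Agent.Lib.Helper1

theorem sc_conj_one {G : Type*} [Group G] (X : Subgroup G) : Cfsg.subgroupConjRight 1 X = X := by
  ext y
  rw [Cfsg.Agent.S2955.conjRight_mem_iff]
  simp

theorem sc_conj_mul {G : Type*} [Group G] (g h : G) (X : Subgroup G) :
    Cfsg.subgroupConjRight (g * h) X = Cfsg.subgroupConjRight h (Cfsg.subgroupConjRight g X) := by
  ext y
  rw [Cfsg.Agent.S2955.conjRight_mem_iff, Cfsg.Agent.S2955.conjRight_mem_iff,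
    Cfsg.Agent.S2955.conjRight_mem_iff]
  have e : g * h * y * (g * h)⁻¹ = g * (h * y * h⁻¹) * g⁻¹ := by group
  rw [e]

theorem sc_conj_self {G : Type*} [Group G] (x : G) (X : Subgroup G) (hx : x ∈ X) :
    Cfsg.subgroupConjRight x X = X := by
  ext y
  rw [Cfsg.Agent.S2955.conjRight_mem_iff]
  constructor
  · intro h
    have e : y = x⁻¹ * (x * y * x⁻¹) * x := by group
    rw [e]
    exact mul_mem (mul_mem (inv_mem hx) h) hx
  · intro h
    exact mul_mem (mul_mem hx h) (inv_mem hx)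

theorem sc_conj_smul {G : Type*} [Group G] {p : ℕ} (h : G) (U : Sylow p G) :
    Cfsg.subgroupConjRight h⁻¹ (U : Subgroup G) = ((h • U : Sylow p G) : Subgroup G) := by
  ext z
  rw [Cfsg.Agent.S2955.conjRight_mem_iff, Cfsg.Agent.Lib.Helper5.mem_sylow_smul_iff, inv_inv]

theorem sc_members_conj {G : Type*} [Group G] [Finite G] (p : ℕ) [Fact p.Prime]
    (𝓕 : Set (Subgroup G)) (h𝓕 : Cfsg.IsNormalSet 𝓕) (S X : Subgroup G) (h : G)
    (hX : X ∈ Cfsg.sylowMembers p 𝓕 S) :
    Cfsg.subgroupConjRight h X ∈ Cfsg.sylowMembers p 𝓕 (Cfsg.subgroupConjRight h S) := by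
  obtain ⟨hXF, hXP⟩ := hX
  refine ⟨h𝓕 _ hXF h, ?_⟩
  rw [Cfsg.Agent.S2955.sylow_member_iff p _ _ inf_le_right] at hXP
  rw [Cfsg.Agent.S2955.sylow_member_iff p _ _ inf_le_right, Cfsg.Agent.S2955.card_conjRight, ← hXP,
    ← Cfsg.Agent.S2955.conjRight_inf, Cfsg.Agent.S2955.card_conjRight]

theorem sc_mem_conjRight {G : Type*} [Group G] (g : G) (A : Set G) (a : G) (ha : a ∈ A) :
    g⁻¹ * a * g ∈ Cfsg.conjRight g A := ⟨a, ha, rfl⟩

theorem sc_conjRight_elim {G : Type*} [Group G] (g : G) (A : Set G) (b : G)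
    (hb : b ∈ Cfsg.conjRight g A) : ∃ a ∈ A, b = g⁻¹ * a * g := by
  obtain ⟨a, ha, rfl⟩ := hb
  exact ⟨a, ha, rfl⟩

/-- partial products along a chain -/
def scV {G : Type*} [Group G] {n : ℕ} (x : Fin n → G) : ℕ → G
  | 0 => 1
  | k + 1 => (if h : k < n then x ⟨k, h⟩ else 1) * scV x k

theorem scV_succ {G : Type*} [Group G] {n : ℕ} (x : Fin n → G) (i : Fin n) :
    scV x (i.val + 1) = x i * scV x i.val := by
  show (if h : i.val < n then x ⟨i.val, h⟩ else 1) * scV x i.val = x i * scV x i.val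
  rw [dif_pos i.isLt]

theorem scV_take {G : Type*} [Group G] {n : ℕ} (x : Fin n → G) (k : ℕ) (hk : k ≤ n) :
    ((List.ofFn fun i : Fin n => (scV x i.val)⁻¹ * x i * scV x i.val).take k).prod = scV x k := by
  induction k with
  | zero => simp [scV]
  | succ k ih =>
    have hk' : k < n := hk
    have hlen : k < (List.ofFn fun i : Fin n => (scV x i.val)⁻¹ * x i * scV x i.val).length := by
      rw [List.length_ofFn]; exact hk'
    rw [List.take_succ_eq_append_getElem hlen, List.prod_append, ih (le_of_lt hk'),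
      List.prod_singleton, List.getElem_ofFn]
    have e : scV x (k + 1) = x ⟨k, hk'⟩ * scV x k := scV_succ x ⟨k, hk'⟩
    rw [e]
    show scV x k * ((scV x k)⁻¹ * x ⟨k, hk'⟩ * scV x k) = x ⟨k, hk'⟩ * scV x k
    group

theorem sc_controls_to_strong {G : Type*} [Group G] [Finite G] {p : ℕ} [Fact p.Prime]
    (𝓕 : Set (Subgroup G)) (h𝓕 : Cfsg.IsNormalSet 𝓕)
    (hc : Cfsg.ControlsSylowIntersections p 𝓕) : Cfsg.FamilyStronglyControlsFusion p 𝓕 := by
  intro S A g hAS hA1 hgA
  obtain ⟨a, haA, ha1⟩ := hA1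
  obtain ⟨T, hT⟩ : ∃ T : Sylow p G, g • S = T := ⟨_, rfl⟩
  have hAT : ∀ b ∈ A, b ∈ (T : Subgroup G) := by
    intro b hb
    rw [← hT, Cfsg.Agent.Lib.Helper5.mem_sylow_smul_iff]
    exact hgA (sc_mem_conjRight g A b hb)
  by_cases hST : S = T
  · have hgN : g ∈ Subgroup.normalizer ((S : Subgroup G) : Set G) :=
      Sylow.smul_eq_iff_mem_normalizer.mp (hT.trans hST.symm)
    refine ⟨0, Fin.elim0, Fin.elim0, g, hgN, fun i => i.elim0, ?_, fun i => i.elim0⟩
    simp
  · have hne : (S : Subgroup G) ⊓ (T : Subgroup G) ≠ ⊥ := by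
      intro hbot
      have h1 : a ∈ (S : Subgroup G) ⊓ (T : Subgroup G) :=
        Subgroup.mem_inf.mpr ⟨hAS haA, hAT a haA⟩
      rw [hbot, Subgroup.mem_bot] at h1
      exact ha1 h1
    obtain ⟨n, c, X, x, h0, hl, hi⟩ := hc S T hST hne
    have hV : ∀ i : Fin (n + 1),
        Cfsg.subgroupConjRight (scV x i.val) (c i : Subgroup G) = (S : Subgroup G) := by
      intro i
      induction i using Fin.induction with
      | zero =>
        have e0 : scV x (0 : Fin (n + 1)).val = 1 := by rw [Fin.val_zero]; rfl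
        rw [e0, h0]
        exact sc_conj_one _
      | succ i ih =>
        obtain ⟨-, -, -, hconj, -⟩ := hi i
        have e : scV x (i.succ).val = x i * scV x i.val := by
          rw [Fin.val_succ]; exact scV_succ x i
        rw [e, sc_conj_mul, hconj]
        exact ih
    have hlast : ((scV x n)⁻¹ • T : Sylow p G) = S := by
      apply Sylow.ext
      rw [← sc_conj_smul, inv_inv, ← hl]
      exact hV (Fin.last n)
    have hy0 : (scV x n)⁻¹ * g ∈ Subgroup.normalizer ((S : Subgroup G) : Set G) := by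
      apply Sylow.smul_eq_iff_mem_normalizer.mp
      rw [mul_smul, hT]
      exact hlast
    refine ⟨n, fun i => Cfsg.subgroupConjRight (scV x i.val) (X i),
      fun i => (scV x i.val)⁻¹ * x i * scV x i.val, (scV x n)⁻¹ * g, hy0, ?_, ?_, ?_⟩
    · intro i
      obtain ⟨hX1, -, hx, -, -⟩ := hi i
      refine ⟨?_, ?_⟩
      · show Cfsg.subgroupConjRight (scV x i.val) (X i) ∈ Cfsg.sylowMembers p 𝓕 (S : Subgroup G)
        have h1 := sc_members_conj p 𝓕 h𝓕 _ _ (scV x i.val) hX1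
        have hVi : Cfsg.subgroupConjRight (scV x i.val) (c i.castSucc : Subgroup G) =
            (S : Subgroup G) := hV i.castSucc
        rw [hVi] at h1
        exact h1
      · show (scV x i.val)⁻¹ * x i * scV x i.val ∈ Cfsg.subgroupConjRight (scV x i.val) (X i)
        rw [Cfsg.Agent.S2955.conjRight_mem_iff]
        have e : scV x i.val * ((scV x i.val)⁻¹ * x i * scV x i.val) * (scV x i.val)⁻¹ = x i := by
          group
        rw [e]; exact hx
    · have e := scV_take x n le_rfl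
      have e2 : (List.ofFn fun i : Fin n => (scV x i.val)⁻¹ * x i * scV x i.val).take n =
          List.ofFn fun i : Fin n => (scV x i.val)⁻¹ * x i * scV x i.val := by
        apply List.take_of_length_le
        rw [List.length_ofFn]
      rw [e2] at e
      rw [e]
      group
    · intro i b hb
      obtain ⟨hX1, hX2, hx, hconj, hle⟩ := hi i
      rw [scV_take x (i.val + 1) (Nat.succ_le_of_lt i.isLt)] at hb
      obtain ⟨a', ha', rfl⟩ := sc_conjRight_elim _ _ _ hb
      have ha'ST : a' ∈ (S : Subgroup G) ⊓ (T : Subgroup G) :=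
        Subgroup.mem_inf.mpr ⟨hAS ha', hAT a' ha'⟩
      obtain ⟨h3, h4⟩ := Subgroup.mem_inf.mp (hle ha'ST)
      refine Set.mem_inter ?_ ?_
      · have hVi : Cfsg.subgroupConjRight (scV x (i.val + 1)) (c i.succ : Subgroup G) =
            (S : Subgroup G) := hV i.succ
        show (scV x (i.val + 1))⁻¹ * a' * scV x (i.val + 1) ∈ (S : Subgroup G)
        rw [← hVi, Cfsg.Agent.S2955.conjRight_mem_iff]
        have e : scV x (i.val + 1) * ((scV x (i.val + 1))⁻¹ * a' * scV x (i.val + 1)) *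
            (scV x (i.val + 1))⁻¹ = a' := by group
        rw [e]; exact h3
      · show (scV x (i.val + 1))⁻¹ * a' * scV x (i.val + 1) ∈
          Cfsg.subgroupConjRight (scV x i.val) (X i)
        rw [Cfsg.Agent.S2955.conjRight_mem_iff, scV_succ]
        have e : scV x i.val * ((x i * scV x i.val)⁻¹ * a' * (x i * scV x i.val)) *
            (scV x i.val)⁻¹ = (x i)⁻¹ * a' * x i := by group
        rw [e]
        exact mul_mem (mul_mem (inv_mem hx) h4) hx

theorem sc_strong_to_controls {G : Type*} [Group G] [Finite G] {p : ℕ} [Fact p.Prime]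
    (𝓕 : Set (Subgroup G)) (h𝓕 : Cfsg.IsNormalSet 𝓕)
    (hs : Cfsg.FamilyStronglyControlsFusion p 𝓕) : Cfsg.ControlsSylowIntersections p 𝓕 := by
  intro S T hST hne
  obtain ⟨g, hg⟩ := MulAction.exists_smul_eq G S T
  have hA1 : ∃ a ∈ (((S : Subgroup G) ⊓ (T : Subgroup G) : Subgroup G) : Set G), a ≠ 1 := by
    by_contra hcon
    push Not at hcon
    apply hne
    rw [eq_bot_iff]
    intro z hz
    rw [Subgroup.mem_bot]
    exact hcon z hz
  have hAS : (((S : Subgroup G) ⊓ (T : Subgroup G) : Subgroup G) : Set G) ⊆ (S : Set G) := by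
    intro z hz
    exact (Subgroup.mem_inf.mp hz).1
  have hgA : Cfsg.conjRight g (((S : Subgroup G) ⊓ (T : Subgroup G) : Subgroup G) : Set G) ⊆
      (S : Set G) := by
    intro b hb
    obtain ⟨z, hz, rfl⟩ := sc_conjRight_elim _ _ _ hb
    have hzT : z ∈ (T : Subgroup G) := (Subgroup.mem_inf.mp hz).2
    rw [← hg, Cfsg.Agent.Lib.Helper5.mem_sylow_smul_iff] at hzT
    exact hzT
  obtain ⟨n, Y, y, y₀, hy₀, hY, hgeq, hlast⟩ := hs S _ g hAS hA1 hgA
  obtain ⟨u, hu⟩ : ∃ u : ℕ → G, ∀ k, u k = ((List.ofFn y).take k).prod := ⟨_, fun k => rfl⟩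
  have hu0 : u 0 = 1 := by rw [hu]; simp
  have husucc : ∀ i : Fin n, u (i.val + 1) = u i.val * y i := by
    intro i
    have hlen : i.val < (List.ofFn y).length := by rw [List.length_ofFn]; exact i.isLt
    rw [hu, hu, List.take_succ_eq_append_getElem hlen, List.prod_append, List.prod_singleton,
      List.getElem_ofFn]
  have hun : u n = g * y₀⁻¹ := by
    rw [hu, List.take_of_length_le (by rw [List.length_ofFn]), hgeq]
    group
  have hyN : y₀⁻¹ • S = S := Sylow.smul_eq_iff_mem_normalizer.mpr (inv_mem hy₀)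
  refine ⟨n, fun i => u i.val • S, fun i => Cfsg.subgroupConjRight (u (i.val + 1))⁻¹ (Y i),
    fun i => u i.val * y i * (u i.val)⁻¹, ?_, ?_, ?_⟩
  · show u (0 : Fin (n + 1)).val • S = S
    rw [Fin.val_zero, hu0, one_smul]
  · show u (Fin.last n).val • S = T
    rw [Fin.val_last, hun, mul_smul, hyN, hg]
  · intro i
    obtain ⟨hYi, hyi⟩ := hY i
    have hXeq : Cfsg.subgroupConjRight (u (i.val + 1))⁻¹ (Y i) =
        Cfsg.subgroupConjRight (u i.val)⁻¹ (Y i) := by
      rw [husucc i, mul_inv_rev, sc_conj_mul, sc_conj_self _ _ (inv_mem hyi)]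
    refine ⟨?_, ?_, ?_, ?_, ?_⟩
    · show Cfsg.subgroupConjRight (u (i.val + 1))⁻¹ (Y i) ∈
        Cfsg.sylowMembers p 𝓕 ((u i.val • S : Sylow p G) : Subgroup G)
      rw [hXeq, ← sc_conj_smul]
      exact sc_members_conj p 𝓕 h𝓕 _ _ _ hYi
    · show Cfsg.subgroupConjRight (u (i.val + 1))⁻¹ (Y i) ∈
        Cfsg.sylowMembers p 𝓕 ((u (i.val + 1) • S : Sylow p G) : Subgroup G)
      rw [← sc_conj_smul]
      exact sc_members_conj p 𝓕 h𝓕 _ _ _ hYi
    · show u i.val * y i * (u i.val)⁻¹ ∈ Cfsg.subgroupConjRight (u (i.val + 1))⁻¹ (Y i)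
      rw [hXeq, Cfsg.Agent.S2955.conjRight_mem_iff]
      have e : (u i.val)⁻¹ * (u i.val * y i * (u i.val)⁻¹) * ((u i.val)⁻¹)⁻¹ = y i := by group
      rw [e]; exact hyi
    · show Cfsg.subgroupConjRight (u i.val * y i * (u i.val)⁻¹)
          ((u (i.val + 1) • S : Sylow p G) : Subgroup G) =
        ((u i.val • S : Sylow p G) : Subgroup G)
      rw [← sc_conj_smul, ← sc_conj_smul, ← sc_conj_mul, husucc i]
      have e : (u i.val * y i)⁻¹ * (u i.val * y i * (u i.val)⁻¹) = (u i.val)⁻¹ := by group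
      rw [e]
    · intro z hz
      have h1 := hlast i (sc_mem_conjRight _ _ z hz)
      rw [← hu] at h1
      obtain ⟨h2, h3⟩ := h1
      refine Subgroup.mem_inf.mpr ⟨?_, ?_⟩
      · show z ∈ ((u (i.val + 1) • S : Sylow p G) : Subgroup G)
        rw [Cfsg.Agent.Lib.Helper5.mem_sylow_smul_iff]
        exact h2
      · show z ∈ Cfsg.subgroupConjRight (u (i.val + 1))⁻¹ (Y i)
        rw [Cfsg.Agent.S2955.conjRight_mem_iff, inv_inv]
        exact h3

theorem sc_main {G : Type*} [Group G] [Finite G] {p : ℕ} [Fact p.Prime]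
    (𝓕 : Set (Subgroup G)) (h𝓕 : Cfsg.IsNormalSet 𝓕) :
    Cfsg.ControlsSylowIntersections p 𝓕 ↔ Cfsg.FamilyStronglyControlsFusion p 𝓕 :=
  ⟨sc_controls_to_strong 𝓕 h𝓕, sc_strong_to_controls 𝓕 h𝓕⟩

end Cfsg.Agent.Lib.Helper1
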