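import Mathlib
import Cfsg.Prelude.Def_SylowChains
import Cfsg.Agent.Lib.Helper1.SC1
import Cfsg.Agent.S2940

set_option autoImplicit false

namespace Cfsg.Agent.Lib.Helper1

open Relation

theorem rtg_mono {α : Type*} {r q : α → α → Prop} (h : ∀ a b, r a b → q a b) {a b : α}
    (hab : ReflTransGen r a b) : ReflTransGen q a b := by
  induction hab with
  | refl => exact ReflTransGen.refl
  | tail _ hbc ih => exact ReflTransGen.tail ih (h _ _ hbc)

theorem rtg_lift {α β : Type*} {r : α → α → Prop} {q : β → β → Prop} (φ : α → β)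
    (h : ∀ a b, r a b → q (φ a) (φ b)) {a b : α} (hab : ReflTransGen r a b) :
    ReflTransGen q (φ a) (φ b) := by
  induction hab with
  | refl => exact ReflTransGen.refl
  | tail _ hbc ih => exact ReflTransGen.tail ih (h _ _ hbc)

theorem rtg_of_eq {α : Type*} {r : α → α → Prop} {a b : α} (h : b = a) : ReflTransGen r a b := by
  subst h; exact ReflTransGen.refl

section FR
variable {G : Type*} [Group G]

/-- one link of a chain of Sylow subgroups, inside `M`, over `D` -/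
def frStep (p : ℕ) (f : Subgroup G → Set (Subgroup G)) (M D : Subgroup G) (C C' : Sylow p G) :
    Prop :=
  (C' : Subgroup G) ≤ M ∧ D ≤ (C' : Subgroup G) ∧ ∃ (Fv : Subgroup G) (x : G),
    (∃ P : Sylow p G, (P : Subgroup G) ≤ M ∧ Fv ∈ f (P : Subgroup G)) ∧
    (C : Subgroup G) ≤ Subgroup.normalizer (Fv : Set G) ∧
    (C' : Subgroup G) ≤ Subgroup.normalizer (Fv : Set G) ∧
    x ∈ M ∧ x ∈ Subgroup.normalizer (Fv : Set G) ∧
    Cfsg.subgroupConjRight x (C' : Subgroup G) = (C : Subgroup G)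

theorem frStep_top_mono {p : ℕ} {f : Subgroup G → Set (Subgroup G)} {M D D' : Subgroup G}
    (hD : D' ≤ D) {C C' : Sylow p G} (h : frStep p f M D C C') : frStep p f ⊤ D' C C' := by
  obtain ⟨-, h2, Fv, x, ⟨P, -, hP⟩, h4, h5, -, h7, h8⟩ := h
  exact ⟨le_top, hD.trans h2, Fv, x, ⟨P, le_top, hP⟩, h4, h5, Subgroup.mem_top _, h7, h8⟩

theorem fr_smul_coe {p : ℕ} (g : G) (U : Sylow p G) :
    ((g⁻¹ • U : Sylow p G) : Subgroup G) = Cfsg.subgroupConjRight g (U : Subgroup G) := by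
  ext z
  rw [Cfsg.Agent.Lib.Helper5.mem_sylow_smul_iff, Cfsg.Agent.S2955.conjRight_mem_iff, inv_inv]

theorem fr_normalizer_conj (g z : G) (Fv : Subgroup G)
    (hz : z ∈ Subgroup.normalizer (Fv : Set G)) :
    g⁻¹ * z * g ∈ Subgroup.normalizer ((Cfsg.subgroupConjRight g Fv : Subgroup G) : Set G) := by
  rw [Subgroup.mem_normalizer_iff] at hz ⊢
  intro h
  rw [Cfsg.Agent.S2955.conjRight_mem_iff, Cfsg.Agent.S2955.conjRight_mem_iff]
  have e : g * (g⁻¹ * z * g * h * (g⁻¹ * z * g)⁻¹) * g⁻¹ = z * (g * h * g⁻¹) * z⁻¹ := by group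
  rw [e]
  exact hz (g * h * g⁻¹)

theorem frStep_conj {p : ℕ} [Fact p.Prime] {f : Subgroup G → Set (Subgroup G)}
    (hf : Cfsg.IsNormalizerFunctor p f) {M D : Subgroup G} (g : G) {C C' : Sylow p G}
    (h : frStep p f M D C C') :
    frStep p f ⊤ (Cfsg.subgroupConjRight g D) (g⁻¹ • C) (g⁻¹ • C') := by
  obtain ⟨-, h2, Fv, x, ⟨P, -, hP⟩, h4, h5, -, h7, h8⟩ := h
  refine ⟨le_top, ?_, Cfsg.subgroupConjRight g Fv, g⁻¹ * x * g, ⟨g⁻¹ • P, le_top, ?_⟩, ?_, ?_,
    Subgroup.mem_top _, fr_normalizer_conj g x Fv h7, ?_⟩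
  · rw [fr_smul_coe]
    exact Subgroup.map_mono h2
  · rw [fr_smul_coe]
    have h1 := (hf (P : Subgroup G) P.isPGroup').2 g⁻¹
    show Cfsg.subgroupConjRight g Fv ∈ f ((P : Subgroup G).map (MulAut.conj g⁻¹).toMonoidHom)
    rw [h1]
    exact ⟨Fv, hP, rfl⟩
  · intro y hy
    rw [Cfsg.Agent.Lib.Helper5.mem_sylow_smul_iff, inv_inv] at hy
    have h1 := fr_normalizer_conj g _ Fv (h4 hy)
    have e : g⁻¹ * (g * y * g⁻¹) * g = y := by group
    rw [e] at h1
    exact h1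
  · intro y hy
    rw [Cfsg.Agent.Lib.Helper5.mem_sylow_smul_iff, inv_inv] at hy
    have h1 := fr_normalizer_conj g _ Fv (h5 hy)
    have e : g⁻¹ * (g * y * g⁻¹) * g = y := by group
    rw [e] at h1
    exact h1
  · rw [fr_smul_coe, fr_smul_coe, ← sc_conj_mul]
    have e : g * (g⁻¹ * x * g) = x * g := by group
    rw [e, sc_conj_mul, h8]

/-- regularity, stated inside the ambient group -/
def frReg (p : ℕ) (f : Subgroup G → Set (Subgroup G)) (M : Subgroup G) : Prop :=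
  ∀ A B : Sylow p G, (A : Subgroup G) ≤ M → (B : Subgroup G) ≤ M →
    (A : Subgroup G) ⊓ (B : Subgroup G) ≠ ⊥ →
    ReflTransGen (frStep p f M ((A : Subgroup G) ⊓ (B : Subgroup G))) A B

theorem frReg_top [Finite G] {p : ℕ} [Fact p.Prime] {f : Subgroup G → Set (Subgroup G)}
    (hf : Cfsg.IsNormalizerFunctor p f) (S : Sylow p G) (G₁ G₂ : Subgroup G)
    (h₁ : (S : Subgroup G) ≤ G₁) (h₂ : (S : Subgroup G) ≤ G₂)
    (hprod : ∀ g : G, ∃ g₁ ∈ G₁, ∃ g₂ ∈ G₂, g = g₁ * g₂)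
    (hr₁ : frReg p f G₁) (hr₂ : frReg p f G₂) : frReg p f ⊤ := by
  have key : ∀ B₀ : Sylow p G, (S : Subgroup G) ⊓ (B₀ : Subgroup G) ≠ ⊥ →
      ReflTransGen (frStep p f ⊤ ((S : Subgroup G) ⊓ (B₀ : Subgroup G))) S B₀ := by
    intro B₀ hne
    obtain ⟨g, hg⟩ := MulAction.exists_smul_eq G S B₀
    obtain ⟨h, hh⟩ : ∃ h : G, h⁻¹ • S = B₀ := ⟨g⁻¹, by rw [inv_inv]; exact hg⟩
    have hB₀ : (B₀ : Subgroup G) = Cfsg.subgroupConjRight h (S : Subgroup G) := by
      rw [← hh, fr_smul_coe]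
    obtain ⟨U, hU1, hU2⟩ := Cfsg.Agent.S2940.result S G₁ G₂ h₁ h₂ hprod h
    rw [← hB₀] at hU1
    have hD1 : (S : Subgroup G) ⊓ (B₀ : Subgroup G) ≤ (S : Subgroup G) ⊓ (U : Subgroup G) :=
      le_inf inf_le_left hU1
    have hne1 : (S : Subgroup G) ⊓ (U : Subgroup G) ≠ ⊥ := by
      intro hbot
      apply hne
      rw [eq_bot_iff, ← hbot]
      exact hD1
    have c1 : ReflTransGen (frStep p f ⊤ ((S : Subgroup G) ⊓ (B₀ : Subgroup G))) S U :=
      rtg_mono (fun _ _ hs => frStep_top_mono hD1 hs)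
        (hr₁ S U h₁ (hU2.trans inf_le_left) hne1)
    have hU'G₂ : ((h • U : Sylow p G) : Subgroup G) ≤ G₂ := by
      intro z hz
      rw [Cfsg.Agent.Lib.Helper5.mem_sylow_smul_iff] at hz
      have h3 := (Subgroup.mem_inf.mp (hU2 hz)).2
      rw [Cfsg.Agent.S2955.conjRight_mem_iff] at h3
      have e : h * (h⁻¹ * z * h) * h⁻¹ = z := by group
      rw [e] at h3
      exact h3
    have hconjmem : ∀ z : G, z ∈ (S : Subgroup G) ⊓ (B₀ : Subgroup G) →
        h * z * h⁻¹ ∈ ((h • U : Sylow p G) : Subgroup G) ⊓ (S : Subgroup G) := by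
      intro z hz
      obtain ⟨hz1, hz2⟩ := Subgroup.mem_inf.mp hz
      refine Subgroup.mem_inf.mpr ⟨?_, ?_⟩
      · rw [Cfsg.Agent.Lib.Helper5.mem_sylow_smul_iff]
        have e : h⁻¹ * (h * z * h⁻¹) * h = z := by group
        rw [e]
        exact hU1 hz
      · rw [hB₀, Cfsg.Agent.S2955.conjRight_mem_iff] at hz2
        exact hz2
    have hne2 : ((h • U : Sylow p G) : Subgroup G) ⊓ (S : Subgroup G) ≠ ⊥ := by
      intro hbot
      apply hne
      rw [eq_bot_iff]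
      intro z hz
      have h3 := hconjmem z hz
      rw [hbot, Subgroup.mem_bot] at h3
      rw [Subgroup.mem_bot]
      have e : z = h⁻¹ * (h * z * h⁻¹) * h := by group
      rw [e, h3]; group
    have c2' := hr₂ (h • U) S hU'G₂ h₂ hne2
    have c2'' : ReflTransGen (frStep p f ⊤ (Cfsg.subgroupConjRight h
        (((h • U : Sylow p G) : Subgroup G) ⊓ (S : Subgroup G)))) (h⁻¹ • (h • U)) (h⁻¹ • S) :=
      rtg_lift (fun C : Sylow p G => h⁻¹ • C) (fun _ _ hs => frStep_conj hf h hs) c2'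
    rw [inv_smul_smul, hh] at c2''
    have hD2 : (S : Subgroup G) ⊓ (B₀ : Subgroup G) ≤
        Cfsg.subgroupConjRight h (((h • U : Sylow p G) : Subgroup G) ⊓ (S : Subgroup G)) := by
      intro z hz
      rw [Cfsg.Agent.S2955.conjRight_mem_iff]
      exact hconjmem z hz
    have c2 : ReflTransGen (frStep p f ⊤ ((S : Subgroup G) ⊓ (B₀ : Subgroup G))) U B₀ :=
      rtg_mono (fun _ _ hs => frStep_top_mono hD2 hs) c2''
    exact c1.trans c2
  intro A B _ _ hne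
  obtain ⟨a, ha⟩ := MulAction.exists_smul_eq G S A
  have hmem : ∀ z : G, z ∈ (A : Subgroup G) ⊓ (B : Subgroup G) →
      a⁻¹ * z * a ∈ (S : Subgroup G) ⊓ ((a⁻¹ • B : Sylow p G) : Subgroup G) := by
    intro z hz
    obtain ⟨hz1, hz2⟩ := Subgroup.mem_inf.mp hz
    refine Subgroup.mem_inf.mpr ⟨?_, ?_⟩
    · rw [← ha, Cfsg.Agent.Lib.Helper5.mem_sylow_smul_iff] at hz1
      exact hz1
    · rw [Cfsg.Agent.Lib.Helper5.mem_sylow_smul_iff, inv_inv]
      have e : a * (a⁻¹ * z * a) * a⁻¹ = z := by group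
      rw [e]
      exact hz2
  have hne0 : (S : Subgroup G) ⊓ ((a⁻¹ • B : Sylow p G) : Subgroup G) ≠ ⊥ := by
    intro hbot
    apply hne
    rw [eq_bot_iff]
    intro z hz
    have h3 := hmem z hz
    rw [hbot, Subgroup.mem_bot] at h3
    rw [Subgroup.mem_bot]
    have e : z = a * (a⁻¹ * z * a) * a⁻¹ := by group
    rw [e, h3]; group
  have c0 := key (a⁻¹ • B) hne0
  have c1 : ReflTransGen (frStep p f ⊤ (Cfsg.subgroupConjRight a⁻¹
      ((S : Subgroup G) ⊓ ((a⁻¹ • B : Sylow p G) : Subgroup G)))) ((a⁻¹)⁻¹ • S)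
      ((a⁻¹)⁻¹ • (a⁻¹ • B)) :=
    rtg_lift (fun C : Sylow p G => (a⁻¹)⁻¹ • C) (fun _ _ hs => frStep_conj hf a⁻¹ hs) c0
  rw [inv_inv, smul_inv_smul, ha] at c1
  have hD : (A : Subgroup G) ⊓ (B : Subgroup G) ≤
      Cfsg.subgroupConjRight a⁻¹ ((S : Subgroup G) ⊓ ((a⁻¹ • B : Sylow p G) : Subgroup G)) := by
    intro z hz
    rw [Cfsg.Agent.S2955.conjRight_mem_iff, inv_inv]
    exact hmem z hz
  exact rtg_mono (fun _ _ hs => frStep_top_mono hD hs) c1

theorem fr_factorization_eq {H : Type*} [Group H] [Finite H] {p : ℕ} [Fact p.Prime]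
    (X : Subgroup H) (P : Sylow p H) (hP : (P : Subgroup H) ≤ X) :
    (Nat.card X).factorization p = (Nat.card H).factorization p := by
  have hp : p.Prime := Fact.out
  have hX0 : Nat.card X ≠ 0 := Nat.card_pos.ne'
  have hH0 : Nat.card H ≠ 0 := Nat.card_pos.ne'
  apply le_antisymm
  · exact (Nat.factorization_le_iff_dvd hX0 hH0).mpr (Subgroup.card_subgroup_dvd_card _) p
  · have h3 : p ^ (Nat.card H).factorization p ∣ Nat.card X := by
      rw [← Sylow.card_eq_multiplicity P]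
      exact Subgroup.card_dvd_of_le hP
    exact (Nat.Prime.pow_dvd_iff_le_factorization hp hX0).mp h3

theorem fr_member_iff {H : Type*} [Group H] [Finite H] {p : ℕ} [Fact p.Prime] (X : Subgroup H)
    (P c : Sylow p H) (hP : (P : Subgroup H) ≤ X) :
    (∃ Q : Sylow p ↥X, (Q : Subgroup ↥X).map X.subtype = (c : Subgroup H) ⊓ X) ↔
      (c : Subgroup H) ≤ X := by
  rw [Cfsg.Agent.S2955.sylow_member_iff p X _ inf_le_right, fr_factorization_eq X P hP]
  constructor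
  · intro h
    have h1 : (c : Subgroup H) ⊓ X = (c : Subgroup H) := by
      apply Subgroup.eq_of_le_of_card_ge inf_le_left
      exact (by rw [h, Sylow.card_eq_multiplicity c] :
        Nat.card ↥(c : Subgroup H) = Nat.card ↥((c : Subgroup H) ⊓ X)).le
    rw [← h1]
    exact inf_le_right
  · intro h
    rw [inf_eq_left.mpr h]
    exact Sylow.card_eq_multiplicity c

theorem fr_card_up [Finite G] {p : ℕ} [Fact p.Prime] (M : Subgroup G) (S₀ : Sylow p G)
    (hS₀ : (S₀ : Subgroup G) ≤ M) (c : Sylow p ↥M) :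
    Nat.card ((c : Subgroup ↥M).map M.subtype) = p ^ (Nat.card G).factorization p := by
  rw [Subgroup.card_map_of_injective M.subtype_injective, Sylow.card_eq_multiplicity c,
    fr_factorization_eq M S₀ hS₀]

/-- a Sylow subgroup of `M`, viewed in `G` -/
noncomputable def frUp [Finite G] {p : ℕ} [Fact p.Prime] (M : Subgroup G) (S₀ : Sylow p G)
    (hS₀ : (S₀ : Subgroup G) ≤ M) (c : Sylow p ↥M) : Sylow p G :=
  Sylow.ofCard ((c : Subgroup ↥M).map M.subtype) (fr_card_up M S₀ hS₀ c)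

theorem frUp_coe [Finite G] {p : ℕ} [Fact p.Prime] (M : Subgroup G) (S₀ : Sylow p G)
    (hS₀ : (S₀ : Subgroup G) ≤ M) (c : Sylow p ↥M) :
    ((frUp M S₀ hS₀ c : Sylow p G) : Subgroup G) = (c : Subgroup ↥M).map M.subtype :=
  Sylow.coe_ofCard _ _

theorem frUp_subtype [Finite G] {p : ℕ} [Fact p.Prime] (M : Subgroup G) (S₀ : Sylow p G)
    (hS₀ : (S₀ : Subgroup G) ≤ M) (A : Sylow p G) (hA : (A : Subgroup G) ≤ M) :
    frUp M S₀ hS₀ (A.subtype hA) = A := by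
  apply Sylow.ext
  rw [frUp_coe, Sylow.coe_subtype, Subgroup.map_subgroupOf_eq_of_le hA]

theorem frUp_le [Finite G] {p : ℕ} [Fact p.Prime] (M : Subgroup G) (S₀ : Sylow p G)
    (hS₀ : (S₀ : Subgroup G) ≤ M) (c : Sylow p ↥M) :
    ((frUp M S₀ hS₀ c : Sylow p G) : Subgroup G) ≤ M := by
  rw [frUp_coe]; exact Subgroup.map_subtype_le _

theorem fr_subtype_up [Finite G] {p : ℕ} [Fact p.Prime] (M : Subgroup G) (S₀ : Sylow p G)
    (hS₀ : (S₀ : Subgroup G) ≤ M) (c : Sylow p ↥M) (h : ((frUp M S₀ hS₀ c : Sylow p G) :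
      Subgroup G) ≤ M) : (frUp M S₀ hS₀ c).subtype h = c := by
  apply Sylow.ext
  rw [Sylow.coe_subtype, frUp_coe]
  exact Subgroup.comap_map_eq_self_of_injective M.subtype_injective _

theorem fr_subtype_congr {p : ℕ} {M : Subgroup G} {C₁ C₂ : Sylow p G} (h : C₁ = C₂)
    (h1 : (C₁ : Subgroup G) ≤ M) (h2 : (C₂ : Subgroup G) ≤ M) :
    C₁.subtype h1 = C₂.subtype h2 := by
  subst h; rfl

theorem frReg_of_regular [Finite G] {p : ℕ} [Fact p.Prime] (f : Subgroup G → Set (Subgroup G))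
    (hf : Cfsg.IsNormalizerFunctor p f) (M : Subgroup G) (S₀ : Sylow p G)
    (hS₀ : (S₀ : Subgroup G) ≤ M) (hreg : Cfsg.IsFunctorRegular p f M) : frReg p f M := by
  intro A B hA hB hne
  by_cases hAB : A = B
  · exact rtg_of_eq hAB.symm
  obtain ⟨z, hz, hz1⟩ : ∃ z ∈ (A : Subgroup G) ⊓ (B : Subgroup G), z ≠ 1 := by
    by_contra hcon
    push Not at hcon
    apply hne
    rw [eq_bot_iff]
    intro z hz
    rw [Subgroup.mem_bot]
    exact hcon z hz
  have hA'B' : A.subtype hA ≠ B.subtype hB := by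
    intro h
    apply hAB
    have h1 := congrArg (frUp M S₀ hS₀) h
    rw [frUp_subtype, frUp_subtype] at h1
    exact h1
  have hmemsub : ∀ (C : Sylow p G) (hC : (C : Subgroup G) ≤ M) (y : ↥M),
      y ∈ ((C.subtype hC : Sylow p ↥M) : Subgroup ↥M) ↔ (y : G) ∈ (C : Subgroup G) := by
    intro C hC y
    rw [Sylow.coe_subtype, Subgroup.mem_subgroupOf]
  have hAB' : ∀ (y : G) (hy : y ∈ (A : Subgroup G) ⊓ (B : Subgroup G)),
      (⟨y, hA (Subgroup.mem_inf.mp hy).1⟩ : ↥M) ∈ ((A.subtype hA : Sylow p ↥M) : Subgroup ↥M) ⊓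
        ((B.subtype hB : Sylow p ↥M) : Subgroup ↥M) := by
    intro y hy
    exact Subgroup.mem_inf.mpr ⟨(hmemsub A hA _).mpr (Subgroup.mem_inf.mp hy).1,
      (hmemsub B hB _).mpr (Subgroup.mem_inf.mp hy).2⟩
  have hne' : ((A.subtype hA : Sylow p ↥M) : Subgroup ↥M) ⊓
      ((B.subtype hB : Sylow p ↥M) : Subgroup ↥M) ≠ ⊥ := by
    intro hbot
    have h1 := hAB' z hz
    rw [hbot, Subgroup.mem_bot] at h1
    exact hz1 (congrArg Subtype.val h1)
  obtain ⟨n, c, X, x, h0, hl, hi⟩ := hreg (A.subtype hA) (B.subtype hB) hA'B' hne'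
  have hchain : ∀ i : Fin (n + 1),
      ReflTransGen (frStep p f M ((A : Subgroup G) ⊓ (B : Subgroup G))) A
        (frUp M S₀ hS₀ (c i)) := by
    intro i
    induction i using Fin.induction with
    | zero =>
      apply rtg_of_eq
      rw [h0]
      exact frUp_subtype M S₀ hS₀ A hA
    | succ i ih =>
      refine ReflTransGen.tail ih ?_
      obtain ⟨hX1, hX2, hx, hconj, hle⟩ := hi i
      obtain ⟨⟨Y, ⟨P, Fv, hFv, rfl⟩, hXY⟩, hSyl1⟩ := hX1
      obtain ⟨-, hSyl2⟩ := hX2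
      have hFv' : Fv ∈ f ((frUp M S₀ hS₀ P : Sylow p G) : Subgroup G) := by
        rw [frUp_coe]; exact hFv
      have hPN : ((frUp M S₀ hS₀ P : Sylow p G) : Subgroup G) ≤
          Subgroup.normalizer (Fv : Set G) :=
        Subgroup.le_normalizer.trans ((hf _ (frUp M S₀ hS₀ P).isPGroup').1 Fv hFv').2
      have hPX : (P : Subgroup ↥M) ≤ X i := by
        intro y hy
        rw [← hXY, Subgroup.mem_subgroupOf]
        have h1 : (y : G) ∈ ((frUp M S₀ hS₀ P : Sylow p G) : Subgroup G) := by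
          rw [frUp_coe]; exact ⟨y, hy, rfl⟩
        exact Subgroup.mem_inf.mpr ⟨y.2, hPN h1⟩
      have hc1 : ((c i.castSucc : Sylow p ↥M) : Subgroup ↥M) ≤ X i :=
        (fr_member_iff (X i) P _ hPX).mp hSyl1
      have hc2 : ((c i.succ : Sylow p ↥M) : Subgroup ↥M) ≤ X i :=
        (fr_member_iff (X i) P _ hPX).mp hSyl2
      have hXN : ∀ y : ↥M, y ∈ X i → (y : G) ∈ Subgroup.normalizer (Fv : Set G) := by
        intro y hy
        rw [← hXY, Subgroup.mem_subgroupOf] at hy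
        exact (Subgroup.mem_inf.mp hy).2
      refine ⟨frUp_le M S₀ hS₀ _, ?_, Fv, (x i : G),
        ⟨frUp M S₀ hS₀ P, frUp_le M S₀ hS₀ P, hFv'⟩, ?_, ?_, (x i).2, hXN _ hx, ?_⟩
      · intro y hy
        rw [frUp_coe]
        exact ⟨⟨y, hA (Subgroup.mem_inf.mp hy).1⟩, (Subgroup.mem_inf.mp (hle (hAB' y hy))).1, rfl⟩
      · intro y hy
        rw [frUp_coe] at hy
        obtain ⟨y', hy', rfl⟩ := hy
        exact hXN y' (hc1 hy')
      · intro y hy
        rw [frUp_coe] at hy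
        obtain ⟨y', hy', rfl⟩ := hy
        exact hXN y' (hc2 hy')
      · rw [frUp_coe, frUp_coe, ← hconj]
        ext y
        rw [Cfsg.Agent.S2955.conjRight_mem_iff]
        constructor
        · rintro ⟨y', hy', hyy⟩
          refine ⟨(x i)⁻¹ * y' * x i, ?_, ?_⟩
          · refine (Cfsg.Agent.S2955.conjRight_mem_iff _ _ _).mpr ?_
            have e : x i * ((x i)⁻¹ * y' * x i) * (x i)⁻¹ = y' := by group
            rw [e]; exact hy'
          · show ((x i : G))⁻¹ * (y' : G) * (x i : G) = y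
            have e2 : (y' : G) = (x i : G) * y * ((x i : G))⁻¹ := hyy
            rw [e2]; group
        · rintro ⟨y', hy', rfl⟩
          have hy'' := (Cfsg.Agent.S2955.conjRight_mem_iff _ _ _).mp hy'
          exact ⟨x i * y' * (x i)⁻¹, hy'', rfl⟩
  have hfin := hchain (Fin.last n)
  rw [hl, frUp_subtype] at hfin
  exact hfin

theorem fr_chain_of_rtg {p : ℕ} (f : Subgroup G → Set (Subgroup G)) (D : Subgroup G)
    (A B : Sylow p G) (h : ReflTransGen (frStep p f ⊤ D) A B) :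
    ∃ (n : ℕ) (C : Fin (n + 1) → Sylow p G) (Fv : Fin n → Subgroup G) (x : Fin n → G),
      C 0 = A ∧ C (Fin.last n) = B ∧ ∀ i : Fin n,
        D ≤ (C i.succ : Subgroup G) ∧ (∃ P : Sylow p G, Fv i ∈ f (P : Subgroup G)) ∧
        (C i.castSucc : Subgroup G) ≤ Subgroup.normalizer (Fv i : Set G) ∧
        (C i.succ : Subgroup G) ≤ Subgroup.normalizer (Fv i : Set G) ∧
        x i ∈ Subgroup.normalizer (Fv i : Set G) ∧
        Cfsg.subgroupConjRight (x i) (C i.succ : Subgroup G) = (C i.castSucc : Subgroup G) := by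
  induction h with
  | refl => exact ⟨0, fun _ => A, Fin.elim0, Fin.elim0, rfl, rfl, fun i => i.elim0⟩
  | @tail b c _ hbc ih =>
    obtain ⟨n, C, Fv, x, h0, hl, hi⟩ := ih
    obtain ⟨-, h2, Fn, xn, ⟨P, -, hP⟩, h4, h5, -, h7, h8⟩ := hbc
    refine ⟨n + 1, Fin.snoc (α := fun _ => Sylow p G) C c,
      Fin.snoc (α := fun _ => Subgroup G) Fv Fn, Fin.snoc (α := fun _ => G) x xn, ?_, ?_, ?_⟩
    · show Fin.snoc (α := fun _ => Sylow p G) C c (Fin.castSucc 0) = A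
      rw [Fin.snoc_castSucc]; exact h0
    · rw [Fin.snoc_last]
    · intro i
      induction i using Fin.lastCases with
      | last =>
        simp only [Fin.succ_last, Fin.snoc_last, Fin.snoc_castSucc, hl]
        exact ⟨h2, ⟨P, hP⟩, h4, h5, h7, h8⟩
      | cast j =>
        simp only [Fin.succ_castSucc, Fin.snoc_castSucc]
        exact hi j

theorem regular_top_of_frReg [Finite G] {p : ℕ} [Fact p.Prime]
    (f : Subgroup G → Set (Subgroup G)) (hreg : frReg p f ⊤) :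
    Cfsg.IsFunctorRegular p f ⊤ := by
  intro S' T' hST hne
  obtain ⟨S₀⟩ : Nonempty (Sylow p G) := inferInstance
  have hS₀ : (S₀ : Subgroup G) ≤ ⊤ := le_top
  obtain ⟨z, hz, hz1⟩ : ∃ z ∈ (S' : Subgroup ↥(⊤ : Subgroup G)) ⊓
      (T' : Subgroup ↥(⊤ : Subgroup G)), z ≠ 1 := by
    by_contra hcon
    push Not at hcon
    apply hne
    rw [eq_bot_iff]
    intro z hz
    rw [Subgroup.mem_bot]
    exact hcon z hz
  have hupmem : ∀ (c : Sylow p ↥(⊤ : Subgroup G)) (y : ↥(⊤ : Subgroup G)),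
      (y : G) ∈ ((frUp ⊤ S₀ hS₀ c : Sylow p G) : Subgroup G) ↔
        y ∈ (c : Subgroup ↥(⊤ : Subgroup G)) := by
    intro c y
    rw [frUp_coe]
    constructor
    · rintro ⟨y', hy', hyy⟩
      have e : y' = y := Subtype.ext hyy
      rw [← e]; exact hy'
    · intro hy
      exact ⟨y, hy, rfl⟩
  have hST' : ∀ y : ↥(⊤ : Subgroup G), y ∈ (S' : Subgroup ↥(⊤ : Subgroup G)) ⊓
      (T' : Subgroup ↥(⊤ : Subgroup G)) →
      (y : G) ∈ ((frUp ⊤ S₀ hS₀ S' : Sylow p G) : Subgroup G) ⊓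
        ((frUp ⊤ S₀ hS₀ T' : Sylow p G) : Subgroup G) := by
    intro y hy
    exact Subgroup.mem_inf.mpr ⟨(hupmem S' y).mpr (Subgroup.mem_inf.mp hy).1,
      (hupmem T' y).mpr (Subgroup.mem_inf.mp hy).2⟩
  have hne0 : ((frUp ⊤ S₀ hS₀ S' : Sylow p G) : Subgroup G) ⊓
      ((frUp ⊤ S₀ hS₀ T' : Sylow p G) : Subgroup G) ≠ ⊥ := by
    intro hbot
    have h1 := hST' z hz
    rw [hbot, Subgroup.mem_bot] at h1
    exact hz1 (Subtype.ext h1)
  obtain ⟨n, C, Fv, x, h0, hl, hi⟩ :=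
    fr_chain_of_rtg f _ _ _ (hreg _ _ le_top le_top hne0)
  have hdown : ∀ (C₁ : Sylow p G) (y : ↥(⊤ : Subgroup G)),
      y ∈ ((C₁.subtype le_top : Sylow p ↥(⊤ : Subgroup G)) : Subgroup ↥(⊤ : Subgroup G)) ↔
        (y : G) ∈ (C₁ : Subgroup G) := by
    intro C₁ y
    rw [Sylow.coe_subtype, Subgroup.mem_subgroupOf]
  refine ⟨n, fun i => (C i).subtype le_top,
    fun i => ((⊤ : Subgroup G) ⊓ Subgroup.normalizer (Fv i : Set G)).subgroupOf ⊤,
    fun i => ⟨x i, Subgroup.mem_top _⟩, ?_, ?_, ?_⟩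
  · exact (fr_subtype_congr h0 le_top (frUp_le ⊤ S₀ hS₀ S')).trans
      (fr_subtype_up ⊤ S₀ hS₀ S' _)
  · exact (fr_subtype_congr hl le_top (frUp_le ⊤ S₀ hS₀ T')).trans
      (fr_subtype_up ⊤ S₀ hS₀ T' _)
  · intro i
    obtain ⟨hD, ⟨P, hP⟩, hN1, hN2, hxN, hconj⟩ := hi i
    have hcX : ∀ C₁ : Sylow p G, (C₁ : Subgroup G) ≤ Subgroup.normalizer (Fv i : Set G) →
        ((C₁.subtype le_top : Sylow p ↥(⊤ : Subgroup G)) : Subgroup ↥(⊤ : Subgroup G)) ≤
          ((⊤ : Subgroup G) ⊓ Subgroup.normalizer (Fv i : Set G)).subgroupOf ⊤ := by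
      intro C₁ hC₁ y hy
      rw [Subgroup.mem_subgroupOf]
      exact Subgroup.mem_inf.mpr ⟨Subgroup.mem_top _, hC₁ ((hdown C₁ y).mp hy)⟩
    have hmemF : ((⊤ : Subgroup G) ⊓ Subgroup.normalizer (Fv i : Set G)).subgroupOf ⊤ ∈
        (fun X : Subgroup G => X.subgroupOf ⊤) '' Cfsg.functorFamily p f ⊤ := by
      refine ⟨_, ⟨P.subtype le_top, Fv i, ?_, rfl⟩, rfl⟩
      rw [Sylow.coe_subtype, Subgroup.map_subgroupOf_eq_of_le le_top]
      exact hP
    have hmember : ∀ C₁ : Sylow p G, (C₁ : Subgroup G) ≤ Subgroup.normalizer (Fv i : Set G) →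
        ((⊤ : Subgroup G) ⊓ Subgroup.normalizer (Fv i : Set G)).subgroupOf ⊤ ∈
          Cfsg.sylowMembers p ((fun X : Subgroup G => X.subgroupOf ⊤) '' Cfsg.functorFamily p f ⊤)
            ((C₁.subtype le_top : Sylow p ↥(⊤ : Subgroup G)) : Subgroup ↥(⊤ : Subgroup G)) := by
      intro C₁ hC₁
      exact ⟨hmemF, (fr_member_iff _ (C₁.subtype le_top) (C₁.subtype le_top)
        (hcX C₁ hC₁)).mpr (hcX C₁ hC₁)⟩
    refine ⟨hmember _ hN1, hmember _ hN2, ?_, ?_, ?_⟩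
    · show (⟨x i, Subgroup.mem_top _⟩ : ↥(⊤ : Subgroup G)) ∈
        ((⊤ : Subgroup G) ⊓ Subgroup.normalizer (Fv i : Set G)).subgroupOf ⊤
      rw [Subgroup.mem_subgroupOf]
      exact Subgroup.mem_inf.mpr ⟨Subgroup.mem_top _, hxN⟩
    · show Cfsg.subgroupConjRight (⟨x i, Subgroup.mem_top _⟩ : ↥(⊤ : Subgroup G))
          (((C i.succ).subtype le_top : Sylow p ↥(⊤ : Subgroup G)) :
            Subgroup ↥(⊤ : Subgroup G)) =
        (((C i.castSucc).subtype le_top : Sylow p ↥(⊤ : Subgroup G)) :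
          Subgroup ↥(⊤ : Subgroup G))
      ext y
      refine (Cfsg.Agent.S2955.conjRight_mem_iff _ _ _).trans ((hdown _ _).trans ?_)
      refine Iff.trans ?_ (hdown _ _).symm
      rw [← hconj]
      exact (Cfsg.Agent.S2955.conjRight_mem_iff _ _ _).symm
    · intro y hy
      have hy' : (y : G) ∈ (C i.succ : Subgroup G) := hD (hST' y hy)
      exact Subgroup.mem_inf.mpr ⟨(hdown _ y).mpr hy', hcX _ hN2 ((hdown _ y).mpr hy')⟩

theorem fr_main [Finite G] (p : ℕ) [Fact p.Prime] (f : Subgroup G → Set (Subgroup G))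
    (hf : Cfsg.IsNormalizerFunctor p f) (S : Sylow p G)
    (G₁ G₂ : Subgroup G) (h₁ : (S : Subgroup G) ≤ G₁) (h₂ : (S : Subgroup G) ≤ G₂)
    (hprod : ∀ g : G, ∃ g₁ ∈ G₁, ∃ g₂ ∈ G₂, g = g₁ * g₂)
    (hr₁ : Cfsg.IsFunctorRegular p f G₁) (hr₂ : Cfsg.IsFunctorRegular p f G₂) :
    Cfsg.IsFunctorRegular p f ⊤ :=
  regular_top_of_frReg f (frReg_top hf S G₁ G₂ h₁ h₂ hprod
    (frReg_of_regular f hf G₁ S h₁ hr₁) (frReg_of_regular f hf G₂ S h₂ hr₂))

end FR

end Cfsg.Agent.Lib.Helper1
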