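import Mathlib
import Cfsg.Prelude
import Cfsg.Agent.Lib.Helper1.FR1
import Cfsg.Agent.Lib.Helper1.Abel
import Cfsg.Agent.Lib.Helper5.SylowChain

set_option autoImplicit false

namespace Cfsg.Agent.Lib.Helper1

section FCN

open Relation

abbrev fcR (H : Type*) [Group H] : Subgroup H → Subgroup H → Prop :=
  fun A B => IsKleinFour A ∧ IsKleinFour B ∧ ∀ a ∈ A, ∀ b ∈ B, a * b = b * a

theorem fc_klein_iff {H : Type*} [Group H] (A : Subgroup H) :
    IsKleinFour A ↔ (Nat.card A = 4 ∧ ∀ a ∈ A, a * a = 1) := by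
  constructor
  · intro h
    refine ⟨h.card_four, fun a ha => ?_⟩
    have h1 := IsKleinFour.mul_self (⟨a, ha⟩ : A)
    exact congrArg Subtype.val h1
  · rintro ⟨hc, hsq⟩
    refine ⟨hc, ?_⟩
    haveI : Finite A := Nat.finite_of_card_ne_zero (by rw [hc]; norm_num)
    have hd : Monoid.exponent A ∣ 2 := by
      apply Monoid.exponent_dvd_of_forall_pow_eq_one
      intro g
      apply Subtype.ext
      rw [pow_two]
      exact hsq g g.2
    rcases (Nat.dvd_prime Nat.prime_two).mp hd with h | h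
    · exfalso
      rw [Monoid.exp_eq_one_iff] at h
      have h1 : Nat.card A ≤ 1 := Finite.card_le_one_iff_subsingleton.mpr h
      omega
    · exact h

theorem fc_comm_of_sq {H : Type*} [Group H] (a b : H) (ha : a * a = 1) (hb : b * b = 1)
    (hab : a * b * (a * b) = 1) : a * b = b * a := by
  symm
  calc b * a = (a * a) * (b * a) * (b * b) := by rw [ha, hb, one_mul, mul_one]
    _ = a * (a * b * (a * b)) * b := by group
    _ = a * 1 * b := by rw [hab]
    _ = a * b := by group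

variable {G : Type*} [Group G]

def fcCj (g : G) (A : Subgroup G) : Subgroup G := A.map (MulAut.conj g).toMonoidHom

theorem fc_mem_cj (g x : G) (A : Subgroup G) : x ∈ fcCj g A ↔ g⁻¹ * x * g ∈ A := by
  unfold fcCj
  rw [Subgroup.mem_map]
  constructor
  · rintro ⟨y, hy, rfl⟩
    have h1 : g⁻¹ * ((MulAut.conj g).toMonoidHom y) * g = y := by
      simp [MulAut.conj_apply, mul_assoc]
    rw [h1]; exact hy
  · intro h
    refine ⟨g⁻¹ * x * g, h, ?_⟩
    simp [MulAut.conj_apply, mul_assoc]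

theorem fc_cj_one (A : Subgroup G) : fcCj 1 A = A := by
  ext x; rw [fc_mem_cj]; simp

theorem fc_cj_mul (g h : G) (A : Subgroup G) : fcCj (g * h) A = fcCj g (fcCj h A) := by
  ext x
  rw [fc_mem_cj, fc_mem_cj, fc_mem_cj]
  have h1 : (g * h)⁻¹ * x * (g * h) = h⁻¹ * (g⁻¹ * x * g) * h := by group
  rw [h1]

theorem fc_cj_mono (g : G) {A B : Subgroup G} (h : A ≤ B) : fcCj g A ≤ fcCj g B :=
  Subgroup.map_mono h

theorem fc_cj_inv_cj (g : G) (A : Subgroup G) : fcCj g (fcCj g⁻¹ A) = A := by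
  rw [← fc_cj_mul, mul_inv_cancel, fc_cj_one]

theorem fc_cj_inv_cj' (g : G) (A : Subgroup G) : fcCj g⁻¹ (fcCj g A) = A := by
  rw [← fc_cj_mul, inv_mul_cancel, fc_cj_one]

theorem fc_card_cj (g : G) (A : Subgroup G) : Nat.card (fcCj g A) = Nat.card A :=
  (Nat.card_congr ((MulAut.conj g).subgroupMap A).toEquiv).symm

theorem fc_klein_cj (g : G) (A : Subgroup G) (hA : IsKleinFour A) : IsKleinFour (fcCj g A) := by
  rw [fc_klein_iff] at hA ⊢
  refine ⟨by rw [fc_card_cj]; exact hA.1, fun a ha => ?_⟩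
  rw [fc_mem_cj] at ha
  have h1 := hA.2 _ ha
  calc a * a = g * ((g⁻¹ * a * g) * (g⁻¹ * a * g)) * g⁻¹ := by group
    _ = g * 1 * g⁻¹ := by rw [h1]
    _ = 1 := by group

theorem fc_rel_cj (g : G) (A B : Subgroup G) (h : fcR G A B) :
    fcR G (fcCj g A) (fcCj g B) := by
  refine ⟨fc_klein_cj g A h.1, fc_klein_cj g B h.2.1, fun a ha b hb => ?_⟩
  rw [fc_mem_cj] at ha hb
  have h1 := h.2.2 _ ha _ hb
  calc a * b = g * ((g⁻¹ * a * g) * (g⁻¹ * b * g)) * g⁻¹ := by group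
    _ = g * ((g⁻¹ * b * g) * (g⁻¹ * a * g)) * g⁻¹ := by rw [h1]
    _ = b * a := by group

theorem fc_conn_cj (g : G) {A B : Subgroup G} (h : ReflTransGen (fcR G) A B) :
    ReflTransGen (fcR G) (fcCj g A) (fcCj g B) :=
  rtg_lift (fcCj g) (fun a b hab => fc_rel_cj g a b hab) h

theorem fc_conn_symm {A B : Subgroup G} (h : ReflTransGen (fcR G) A B) :
    ReflTransGen (fcR G) B A := by
  induction h with
  | refl => exact ReflTransGen.refl
  | tail _ hbc ih =>
    exact ReflTransGen.head ⟨hbc.2.1, hbc.1, fun a ha b hb => (hbc.2.2 b hb a ha).symm⟩ ih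

theorem fc_klein_subgroupOf (S A : Subgroup G) (hA : IsKleinFour A) (hAS : A ≤ S) :
    IsKleinFour (A.subgroupOf S) := by
  rw [fc_klein_iff] at hA ⊢
  refine ⟨by rw [Nat.card_congr (Subgroup.subgroupOfEquivOfLe hAS).toEquiv]; exact hA.1,
    fun a ha => ?_⟩
  apply Subtype.ext
  exact hA.2 _ (Subgroup.mem_subgroupOf.mp ha)

theorem fc_klein_map (S : Subgroup G) (X : Subgroup S) (hX : IsKleinFour X) :
    IsKleinFour (X.map S.subtype) := by
  rw [fc_klein_iff] at hX ⊢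
  refine ⟨by
    rw [← Nat.card_congr (Subgroup.equivMapOfInjective X S.subtype
      (Subgroup.subtype_injective S)).toEquiv]; exact hX.1, fun a ha => ?_⟩
  obtain ⟨x, hx, rfl⟩ := Subgroup.mem_map.mp ha
  exact congrArg Subtype.val (hX.2 x hx)

theorem fc_conn_in_S (S : Subgroup G) (hS : Cfsg.IsFourConnected S) {A B : Subgroup G}
    (hA : IsKleinFour A) (hB : IsKleinFour B) (hAS : A ≤ S) (hBS : B ≤ S) :
    ReflTransGen (fcR G) A B := by
  have h := hS (A.subgroupOf S) (B.subgroupOf S) (fc_klein_subgroupOf S A hA hAS)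
    (fc_klein_subgroupOf S B hB hBS)
  have h2 : ReflTransGen (fcR G) ((A.subgroupOf S).map S.subtype)
      ((B.subgroupOf S).map S.subtype) := by
    refine rtg_lift (fun X : Subgroup S => X.map S.subtype) ?_ h
    intro X Y hXY
    refine ⟨fc_klein_map S X hXY.1, fc_klein_map S Y hXY.2.1, fun a ha b hb => ?_⟩
    obtain ⟨x, hx, rfl⟩ := Subgroup.mem_map.mp ha
    obtain ⟨y, hy, rfl⟩ := Subgroup.mem_map.mp hb
    exact congrArg Subtype.val (hXY.2.2 x hx y hy)
  rwa [Subgroup.map_subgroupOf_eq_of_le hAS, Subgroup.map_subgroupOf_eq_of_le hBS] at h2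

theorem fc_klein_pgroup (A : Subgroup G) (hA : IsKleinFour A) : IsPGroup 2 A :=
  IsPGroup.of_card (n := 2) (by rw [hA.card_four]; norm_num)

theorem fc_exists_klein (H : Type*) [Group H] [Finite H] (h : ¬ Cfsg.PRankLE 2 1 H) :
    ∃ W : Subgroup H, IsKleinFour W := by
  unfold Cfsg.PRankLE at h
  push_neg at h
  obtain ⟨A, _, hexp, hcard⟩ := h
  haveI : Fact (Nat.Prime 2) := ⟨Nat.prime_two⟩
  have hpg : IsPGroup 2 A := by
    intro g
    refine ⟨1, Subtype.ext ?_⟩
    rw [pow_one]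
    exact hexp g g.2
  obtain ⟨k, hk⟩ := IsPGroup.iff_card.mp hpg
  have hk2 : 2 ≤ k := by
    by_contra hlt
    have hle : k ≤ 1 := by omega
    have h1 : 2 ^ k ≤ 2 ^ 1 := Nat.pow_le_pow_right (by norm_num) hle
    omega
  have hdvd : 2 ^ 2 ∣ Nat.card A := by rw [hk]; exact pow_dvd_pow 2 hk2
  obtain ⟨K, hK⟩ := Sylow.exists_subgroup_card_pow_prime 2 hdvd
  refine ⟨K.map A.subtype, ?_⟩
  rw [fc_klein_iff]
  refine ⟨by
    rw [← Nat.card_congr (Subgroup.equivMapOfInjective K A.subtype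
      (Subgroup.subtype_injective A)).toEquiv, hK]; norm_num, fun a ha => ?_⟩
  obtain ⟨x, _, rfl⟩ := Subgroup.mem_map.mp ha
  have h1 := hexp x x.2
  rw [pow_two] at h1
  exact h1

theorem fc_exists_klein_le [Finite G] (Q : Subgroup G) (h : ¬ Cfsg.PRankLE 2 1 Q) :
    ∃ W : Subgroup G, IsKleinFour W ∧ W ≤ Q := by
  obtain ⟨W', hW'⟩ := fc_exists_klein Q h
  refine ⟨W'.map Q.subtype, fc_klein_map Q W' hW', ?_⟩
  rintro _ ⟨x, _, rfl⟩
  exact x.2

theorem fc_rank_of_klein (Q W : Subgroup G) (hW : IsKleinFour W) (hWQ : W ≤ Q) :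
    ¬ Cfsg.PRankLE 2 1 Q := by
  intro h
  have hk := fc_klein_subgroupOf Q W hW hWQ
  have hk' := (fc_klein_iff _).mp hk
  have hcomm : IsMulCommutative (W.subgroupOf Q) := by
    apply isMulCommutative_of_comm
    intro a ha b hb
    exact fc_comm_of_sq a b (hk'.2 a ha) (hk'.2 b hb) (hk'.2 _ (Subgroup.mul_mem _ ha hb))
  have h1 := h (W.subgroupOf Q) hcomm (fun a ha => by rw [pow_two]; exact hk'.2 a ha)
  rw [hk'.1] at h1
  norm_num at h1

theorem fc_sylow [Finite G] (S : Sylow 2 G) (W : Subgroup G) (hW : IsPGroup 2 W) :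
    ∃ g : G, W ≤ fcCj g (S : Subgroup G) := by
  haveI : Fact (Nat.Prime 2) := ⟨Nat.prime_two⟩
  obtain ⟨P', hP'⟩ := hW.exists_le_sylow
  obtain ⟨g, rfl⟩ := MulAction.exists_smul_eq G S P'
  refine ⟨g, fun x hx => ?_⟩
  rw [fc_mem_cj]
  exact (Cfsg.Agent.Lib.Helper5.mem_sylow_smul_iff g x S).mp (hP' hx)

theorem fc_card_lt [Finite G] (I K : Subgroup G) (hIK : I ≤ K) (n : G) (hnK : n ∈ K)
    (hnI : n ∉ I) : Nat.card I < Nat.card K := by
  by_contra h
  have h1 : I = K := Subgroup.eq_of_le_of_card_ge hIK (by omega)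
  rw [h1] at hnI
  exact hnI hnK

theorem fc_grow [Finite G] (T I : Subgroup G) (hT : IsPGroup 2 T) (hIT : I ≤ T) (hne : I ≠ T) :
    ∃ n ∈ T, n ∉ I ∧ n ∈ Subgroup.normalizer (I : Set G) := by
  haveI : Fact (Nat.Prime 2) := ⟨Nat.prime_two⟩
  haveI : Group.IsNilpotent T := hT.isNilpotent
  have hlt : I.subgroupOf T < ⊤ := by
    rw [lt_top_iff_ne_top]
    intro h
    rw [Subgroup.subgroupOf_eq_top] at h
    exact hne (le_antisymm hIT h)
  have hgrow := Group.normalizerCondition_of_isNilpotent (I.subgroupOf T) hlt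
  obtain ⟨n, hnN, hnH⟩ := SetLike.exists_of_lt hgrow
  have hnN' := Subgroup.mem_normalizer_iff.mp hnN
  refine ⟨(n : G), n.2, fun h => hnH (Subgroup.mem_subgroupOf.mpr h), ?_⟩
  apply Subgroup.mem_normalizer_iff.mpr
  intro i
  constructor
  · intro hi
    have h1 := (hnN' ⟨i, hIT hi⟩).mp (Subgroup.mem_subgroupOf.mpr hi)
    exact Subgroup.mem_subgroupOf.mp h1
  · intro hi
    have hiT : i ∈ T := by
      have h1 : i = (n : G)⁻¹ * ((n : G) * i * (n : G)⁻¹) * (n : G) := by group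
      rw [h1]
      exact T.mul_mem (T.mul_mem (T.inv_mem n.2) (hIT hi)) n.2
    have h2 := (hnN' ⟨i, hiT⟩).mpr (Subgroup.mem_subgroupOf.mpr hi)
    exact Subgroup.mem_subgroupOf.mp h2

theorem fc_norm_cj (x m : G) (I : Subgroup G) (hm : m ∈ Subgroup.normalizer (I : Set G)) :
    x⁻¹ * m * x ∈ Subgroup.normalizer ((fcCj x⁻¹ I : Subgroup G) : Set G) := by
  have hm' := Subgroup.mem_normalizer_iff.mp hm
  apply Subgroup.mem_normalizer_iff.mpr
  intro h
  have e1 : (x⁻¹)⁻¹ * h * x⁻¹ = x * h * x⁻¹ := by group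
  have e2 : (x⁻¹)⁻¹ * (x⁻¹ * m * x * h * (x⁻¹ * m * x)⁻¹) * x⁻¹ = m * (x * h * x⁻¹) * m⁻¹ := by
    group
  constructor
  · intro hh
    have h1 := (fc_mem_cj x⁻¹ h I).mp hh
    rw [e1] at h1
    apply (fc_mem_cj x⁻¹ _ I).mpr
    rw [e2]
    exact (hm' _).mp h1
  · intro hh
    have h1 := (fc_mem_cj x⁻¹ _ I).mp hh
    rw [e2] at h1
    apply (fc_mem_cj x⁻¹ h I).mpr
    rw [e1]
    exact (hm' _).mpr h1

theorem fc_alperin [Finite G] (S : Sylow 2 G) (Γ : Subgroup G)
    (hΓ : ∀ Q : Subgroup G, Q ≤ (S : Subgroup G) → (∃ W : Subgroup G, IsKleinFour W ∧ W ≤ Q) →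
      Subgroup.normalizer (Q : Set G) ≤ Γ) :
    ∀ d : ℕ, ∀ x y : G,
      Nat.card (S : Subgroup G) - Nat.card ↥(fcCj x (S : Subgroup G) ⊓ fcCj y (S : Subgroup G)) = d →
      (∃ W : Subgroup G, IsKleinFour W ∧ W ≤ fcCj x (S : Subgroup G) ⊓ fcCj y (S : Subgroup G)) →
      x ∈ Γ → y ∈ Γ := by
  haveI : Fact (Nat.Prime 2) := ⟨Nat.prime_two⟩
  intro d
  induction d using Nat.strong_induction_on with
  | _ d ih =>
    intro x y hd hW hx
    obtain ⟨W, hWk, hWI⟩ := hW
    have hcT : Nat.card (fcCj x (S : Subgroup G)) = Nat.card (S : Subgroup G) := fc_card_cj x _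
    have hcT' : Nat.card (fcCj y (S : Subgroup G)) = Nat.card (S : Subgroup G) := fc_card_cj y _
    have hTp : IsPGroup 2 (fcCj x (S : Subgroup G)) := S.isPGroup'.map _
    have hT'p : IsPGroup 2 (fcCj y (S : Subgroup G)) := S.isPGroup'.map _
    have hSk : ∃ W₀ : Subgroup G, IsKleinFour W₀ ∧ W₀ ≤ (S : Subgroup G) := by
      refine ⟨fcCj x⁻¹ W, fc_klein_cj _ _ hWk, ?_⟩
      have h1 := fc_cj_mono x⁻¹ (hWI.trans inf_le_left)
      rwa [fc_cj_inv_cj'] at h1
    by_cases hIT : fcCj x (S : Subgroup G) ⊓ fcCj y (S : Subgroup G) = fcCj x (S : Subgroup G)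
    · have hle : fcCj x (S : Subgroup G) ≤ fcCj y (S : Subgroup G) := by
        rw [← hIT]; exact inf_le_right
      have heq : fcCj x (S : Subgroup G) = fcCj y (S : Subgroup G) :=
        Subgroup.eq_of_le_of_card_ge hle (by rw [hcT, hcT'])
      have hn : x⁻¹ * y ∈ Subgroup.normalizer ((S : Subgroup G) : Set G) := by
        apply Subgroup.mem_normalizer_iff.mpr
        intro s
        have e1 : y⁻¹ * (y * s * y⁻¹) * y = s := by group
        have e2 : x⁻¹ * (y * s * y⁻¹) * x = x⁻¹ * y * s * (x⁻¹ * y)⁻¹ := by group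
        have h1 : y * s * y⁻¹ ∈ fcCj y (S : Subgroup G) ↔ s ∈ (S : Subgroup G) := by
          rw [fc_mem_cj, e1]
        have h2 : y * s * y⁻¹ ∈ fcCj x (S : Subgroup G) ↔
            x⁻¹ * y * s * (x⁻¹ * y)⁻¹ ∈ (S : Subgroup G) := by
          rw [fc_mem_cj, e2]
        rw [heq] at h2
        exact h1.symm.trans h2
      have h3 := hΓ (S : Subgroup G) le_rfl hSk hn
      have e3 : y = x * (x⁻¹ * y) := by group
      rw [e3]
      exact Γ.mul_mem hx h3
    · have hIT' : fcCj x (S : Subgroup G) ⊓ fcCj y (S : Subgroup G) ≠ fcCj y (S : Subgroup G) := by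
        intro h
        have hle : fcCj y (S : Subgroup G) ≤ fcCj x (S : Subgroup G) := by
          rw [← h]; exact inf_le_left
        have heq : fcCj y (S : Subgroup G) = fcCj x (S : Subgroup G) :=
          Subgroup.eq_of_le_of_card_ge hle (by rw [hcT, hcT'])
        apply hIT
        rw [heq, inf_idem]
      obtain ⟨I, hI⟩ : ∃ I : Subgroup G, I = fcCj x (S : Subgroup G) ⊓ fcCj y (S : Subgroup G) :=
        ⟨_, rfl⟩
      rw [← hI] at hIT hIT' hd hWI
      have hIT_le : I ≤ fcCj x (S : Subgroup G) := by rw [hI]; exact inf_le_left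
      have hIT'_le : I ≤ fcCj y (S : Subgroup G) := by rw [hI]; exact inf_le_right
      obtain ⟨n, hnT, hnI, hnN⟩ := fc_grow _ I hTp hIT_le hIT
      obtain ⟨n', hn'T, hn'I, hn'N⟩ := fc_grow _ I hT'p hIT'_le hIT'
      have hNΓ : Subgroup.normalizer (I : Set G) ≤ Γ := by
        intro m hm
        have h1 := fc_norm_cj x m I hm
        have hle : fcCj x⁻¹ I ≤ (S : Subgroup G) := by
          have h2 := fc_cj_mono x⁻¹ hIT_le
          rwa [fc_cj_inv_cj'] at h2
        have h3 := hΓ (fcCj x⁻¹ I) hle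
          ⟨fcCj x⁻¹ W, fc_klein_cj _ _ hWk, fc_cj_mono x⁻¹ hWI⟩ h1
        have e : m = x * (x⁻¹ * m * x) * x⁻¹ := by group
        rw [e]
        exact Γ.mul_mem (Γ.mul_mem hx h3) (Γ.inv_mem hx)
      -- Sylow theory inside the normalizer
      obtain ⟨N, hN⟩ : ∃ N : Subgroup G, N = Subgroup.normalizer (I : Set G) := ⟨_, rfl⟩
      rw [← hN] at hnN hn'N hNΓ
      have hIN : I ≤ N := by rw [hN]; exact Subgroup.le_normalizer
      have hJp : IsPGroup 2 ((fcCj x (S : Subgroup G) ⊓ N).subgroupOf N) :=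
        (hTp.to_le inf_le_left).comap_subtype
      have hJ'p : IsPGroup 2 ((fcCj y (S : Subgroup G) ⊓ N).subgroupOf N) :=
        (hT'p.to_le inf_le_left).comap_subtype
      obtain ⟨Y, hY⟩ := hJp.exists_le_sylow
      obtain ⟨Y', hY'⟩ := hJ'p.exists_le_sylow
      obtain ⟨m, rfl⟩ := MulAction.exists_smul_eq N Y Y'
      have hYp : IsPGroup 2 ((Y : Subgroup N).map N.subtype) := Y.isPGroup'.map _
      obtain ⟨z, hz⟩ := fc_sylow S _ hYp
      have hJz : fcCj x (S : Subgroup G) ⊓ N ≤ fcCj z (S : Subgroup G) := by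
        intro j hj
        apply hz
        exact Subgroup.mem_map.mpr ⟨⟨j, hj.2⟩, hY (Subgroup.mem_subgroupOf.mpr hj), rfl⟩
      have hJ'z : fcCj y (S : Subgroup G) ⊓ N ≤ fcCj ((m : G) * z) (S : Subgroup G) := by
        intro j hj
        have h1 : (⟨j, hj.2⟩ : N) ∈ ((m • Y : Sylow 2 N) : Subgroup N) :=
          hY' (Subgroup.mem_subgroupOf.mpr hj)
        have h2 := (Cfsg.Agent.Lib.Helper5.mem_sylow_smul_iff m (⟨j, hj.2⟩ : N) Y).mp h1
        have h3 : (m : G)⁻¹ * j * (m : G) ∈ fcCj z (S : Subgroup G) := by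
          apply hz
          exact Subgroup.mem_map.mpr ⟨_, h2, rfl⟩
        rw [fc_mem_cj] at h3 ⊢
        have e : ((m : G) * z)⁻¹ * j * ((m : G) * z) = z⁻¹ * ((m : G)⁻¹ * j * (m : G)) * z := by
          group
        rw [e]; exact h3
      have hcard_le : ∀ K : Subgroup G, K ≤ fcCj x (S : Subgroup G) ∨ K ≤ fcCj y (S : Subgroup G) →
          Nat.card K ≤ Nat.card (S : Subgroup G) := by
        intro K hK
        rcases hK with h | h
        · rw [← hcT]; exact Subgroup.card_le_of_le h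
        · rw [← hcT']; exact Subgroup.card_le_of_le h
      have hIS : Nat.card I < Nat.card (S : Subgroup G) := by
        rw [← hcT]; exact fc_card_lt I _ hIT_le n hnT hnI
      -- first induction: (x, z)
      have hz_mem : z ∈ Γ := by
        have hlt : Nat.card I <
            Nat.card ↥(fcCj x (S : Subgroup G) ⊓ fcCj z (S : Subgroup G)) :=
          fc_card_lt I _ (le_inf hIT_le ((le_inf hIT_le hIN).trans hJz)) n
            ⟨hnT, hJz ⟨hnT, hnN⟩⟩ hnI
        have hle := hcard_le (fcCj x (S : Subgroup G) ⊓ fcCj z (S : Subgroup G))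
          (Or.inl inf_le_left)
        exact ih _ (by omega) x z rfl
          ⟨W, hWk, hWI.trans (le_inf hIT_le ((le_inf hIT_le hIN).trans hJz))⟩ hx
      have hmz : (m : G) * z ∈ Γ := Γ.mul_mem (hNΓ m.2) hz_mem
      have hlt2 : Nat.card I <
          Nat.card ↥(fcCj ((m : G) * z) (S : Subgroup G) ⊓ fcCj y (S : Subgroup G)) :=
        fc_card_lt I _ (le_inf ((le_inf hIT'_le hIN).trans hJ'z) hIT'_le) n'
          ⟨hJ'z ⟨hn'T, hn'N⟩, hn'T⟩ hn'I
      have hle2 := hcard_le (fcCj ((m : G) * z) (S : Subgroup G) ⊓ fcCj y (S : Subgroup G))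
        (Or.inr inf_le_right)
      exact ih _ (by omega) ((m : G) * z) y rfl
        ⟨W, hWk, hWI.trans (le_inf ((le_inf hIT'_le hIN).trans hJ'z) hIT'_le)⟩ hmz

theorem fc_main [Finite G] (h2 : ¬ Cfsg.PRankLE 2 1 G) (S : Sylow 2 G)
    (hS : Cfsg.IsFourConnected (S : Subgroup G)) :
    ¬ Cfsg.IsFourConnected G ↔
      (⨆ Q : {Q : Subgroup G // Q ≤ (S : Subgroup G) ∧ ¬ Cfsg.PRankLE 2 1 Q},
          Subgroup.normalizer ((Q : Subgroup G) : Set G)) ≠ ⊤ := by
  haveI : Fact (Nat.Prime 2) := ⟨Nat.prime_two⟩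
  -- a Klein four-subgroup inside S
  obtain ⟨W₁, hW₁⟩ := fc_exists_klein G h2
  obtain ⟨g₁, hg₁⟩ := fc_sylow S W₁ (fc_klein_pgroup W₁ hW₁)
  have hU₀ : ∃ U₀ : Subgroup G, IsKleinFour U₀ ∧ U₀ ≤ (S : Subgroup G) := by
    refine ⟨fcCj g₁⁻¹ W₁, fc_klein_cj _ _ hW₁, ?_⟩
    have h1 := fc_cj_mono g₁⁻¹ hg₁
    rwa [fc_cj_inv_cj'] at h1
  obtain ⟨U₀, hU₀k, hU₀S⟩ := hU₀
  have hgen : ∀ Q : Subgroup G, Q ≤ (S : Subgroup G) → (∃ W : Subgroup G, IsKleinFour W ∧ W ≤ Q) →
      Subgroup.normalizer (Q : Set G) ≤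
        (⨆ Q : {Q : Subgroup G // Q ≤ (S : Subgroup G) ∧ ¬ Cfsg.PRankLE 2 1 Q},
          Subgroup.normalizer ((Q : Subgroup G) : Set G)) := by
    intro Q hQS hW
    obtain ⟨W, hWk, hWQ⟩ := hW
    exact le_iSup (fun Q : {Q : Subgroup G // Q ≤ (S : Subgroup G) ∧ ¬ Cfsg.PRankLE 2 1 Q} =>
      Subgroup.normalizer ((Q : Subgroup G) : Set G)) ⟨Q, hQS, fc_rank_of_klein Q W hWk hWQ⟩
  apply not_congr
  constructor
  · -- connected → Γ = ⊤
    intro hconn
    rw [eq_top_iff]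
    intro g _
    have hchain : ReflTransGen (fcR G) U₀ (fcCj g U₀) := hconn U₀ (fcCj g U₀) hU₀k
      (fc_klein_cj g U₀ hU₀k)
    have hP : ∀ V : Subgroup G, ReflTransGen (fcR G) U₀ V →
        ∀ y : G, V ≤ fcCj y (S : Subgroup G) → y ∈
          (⨆ Q : {Q : Subgroup G // Q ≤ (S : Subgroup G) ∧ ¬ Cfsg.PRankLE 2 1 Q},
            Subgroup.normalizer ((Q : Subgroup G) : Set G)) := by
      intro V hV
      induction hV with
      | refl =>
        intro y hy
        refine fc_alperin S _ hgen _ 1 y rfl ⟨U₀, hU₀k, le_inf ?_ hy⟩ (Subgroup.one_mem _)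
        rw [fc_cj_one]; exact hU₀S
      | @tail b c _ hbc ih =>
        intro y hy
        have hb2 := fc_klein_pgroup b hbc.1
        have hc2 := fc_klein_pgroup c hbc.2.1
        have hle : b ≤ Subgroup.normalizer (c : Set G) := by
          intro u hu
          apply Subgroup.centralizer_le_normalizer
          rw [Subgroup.mem_centralizer_iff]
          intro v hv
          exact (hbc.2.2 u hu v hv).symm
        have hsup : IsPGroup 2 (b ⊔ c : Subgroup G) := hb2.to_sup_of_normal_right' hc2 hle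
        obtain ⟨x, hx⟩ := fc_sylow S _ hsup
        have hxΓ := ih x (le_sup_left.trans hx)
        exact fc_alperin S _ hgen _ x y rfl ⟨c, hbc.2.1, le_inf (le_sup_right.trans hx) hy⟩ hxΓ
    exact hP _ hchain g (fc_cj_mono g hU₀S)
  · -- Γ = ⊤ → connected
    intro hΓ
    have hC : ∀ g : G, ∀ A B : Subgroup G, IsKleinFour A → IsKleinFour B →
        A ≤ (S : Subgroup G) → B ≤ fcCj g (S : Subgroup G) → ReflTransGen (fcR G) A B := by
      intro g
      have hg : g ∈ (⨆ Q : {Q : Subgroup G // Q ≤ (S : Subgroup G) ∧ ¬ Cfsg.PRankLE 2 1 Q},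
          Subgroup.normalizer ((Q : Subgroup G) : Set G)) := by rw [hΓ]; trivial
      refine Subgroup.iSup_induction _ (C := fun g => ∀ A B : Subgroup G, IsKleinFour A →
        IsKleinFour B → A ≤ (S : Subgroup G) → B ≤ fcCj g (S : Subgroup G) →
        ReflTransGen (fcR G) A B) hg ?_ ?_ ?_
      · rintro ⟨Q, hQS, hQr⟩ n hn A B hA hB hAS hBg
        obtain ⟨W, hWk, hWQ⟩ := fc_exists_klein_le Q hQr
        have hn' := Subgroup.mem_normalizer_iff.mp hn
        have hWn : fcCj n W ≤ (S : Subgroup G) := by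
          intro w hw
          rw [fc_mem_cj] at hw
          apply hQS
          have h1 := (hn' (n⁻¹ * w * n)).mp (hWQ hw)
          have e : n * (n⁻¹ * w * n) * n⁻¹ = w := by group
          rwa [e] at h1
        have h1 : ReflTransGen (fcR G) A (fcCj n W) :=
          fc_conn_in_S _ hS hA (fc_klein_cj n W hWk) hAS hWn
        have hB' : fcCj n⁻¹ B ≤ (S : Subgroup G) := by
          have h3 := fc_cj_mono n⁻¹ hBg
          rwa [fc_cj_inv_cj'] at h3
        have h2 : ReflTransGen (fcR G) W (fcCj n⁻¹ B) :=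
          fc_conn_in_S _ hS hWk (fc_klein_cj n⁻¹ B hB) (hWQ.trans hQS) hB'
        have h3 := fc_conn_cj n h2
        rw [fc_cj_inv_cj] at h3
        exact h1.trans h3
      · intro A B hA hB hAS hBg
        rw [fc_cj_one] at hBg
        exact fc_conn_in_S _ hS hA hB hAS hBg
      · intro x y hx hy A B hA hB hAS hBg
        rw [fc_cj_mul] at hBg
        have hB' : fcCj x⁻¹ B ≤ fcCj y (S : Subgroup G) := by
          have h3 := fc_cj_mono x⁻¹ hBg
          rwa [fc_cj_inv_cj'] at h3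
        have h1 := hy U₀ (fcCj x⁻¹ B) hU₀k (fc_klein_cj x⁻¹ B hB) hU₀S hB'
        have h2 := fc_conn_cj x h1
        rw [fc_cj_inv_cj] at h2
        have h3 := hx A (fcCj x U₀) hA (fc_klein_cj x U₀ hU₀k) hAS (fc_cj_mono x hU₀S)
        exact h3.trans h2
    intro A B hA hB
    obtain ⟨a, ha⟩ := fc_sylow S A (fc_klein_pgroup A hA)
    obtain ⟨b, hb⟩ := fc_sylow S B (fc_klein_pgroup B hB)
    have h1 := hC a U₀ A hU₀k hA hU₀S ha
    have h2 := hC b U₀ B hU₀k hB hU₀S hb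
    exact (fc_conn_symm h1).trans h2

end FCN

end Cfsg.Agent.Lib.Helper1
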