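import Mathlib
import Cfsg.Prelude
import Cfsg.Agent.Lib.Helper1.Abel
import Cfsg.Agent.Lib.Helper5.SylowChain

set_option autoImplicit false

namespace Cfsg.Agent.Lib.Helper1

section NCV

open scoped Pointwise

theorem ncv_zpowers_pgroup {H : Type*} [Group H] (p : ℕ) (x : H) (k : ℕ)
    (hk : x ^ (p ^ k) = 1) : IsPGroup p (Subgroup.zpowers x) := by
  rintro ⟨g, hg⟩
  obtain ⟨n, rfl⟩ := Subgroup.mem_zpowers_iff.mp hg
  refine ⟨k, Subtype.ext ?_⟩
  show (x ^ n) ^ (p ^ k) = 1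
  rw [← zpow_natCast, ← zpow_mul, mul_comm, zpow_mul, zpow_natCast, hk, one_zpow]

theorem ncv_cyc_comm {H : Type*} [Group H] [IsCyclic H] (a b : H) : a * b = b * a := by
  obtain ⟨g, hg⟩ := IsCyclic.exists_generator (α := H)
  obtain ⟨m, rfl⟩ := Subgroup.mem_zpowers_iff.mp (hg a)
  obtain ⟨n, rfl⟩ := Subgroup.mem_zpowers_iff.mp (hg b)
  rw [← zpow_add, ← zpow_add, add_comm]

variable {G : Type*} [Group G] [Finite G] {p : ℕ} [Fact p.Prime] {𝓐 : Finset (Subgroup G)}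

theorem ncv_K1 (hprop : ∀ A ∈ 𝓐, A ≠ ⊤) (hcov : ∀ g : G, ∃ A ∈ 𝓐, g ∈ A)
    (hmin : ∀ 𝓑 : Finset (Subgroup G), (∀ A ∈ 𝓑, A ≠ ⊤) ∧ (∀ g : G, ∃ A ∈ 𝓑, g ∈ A) →
      𝓐.card ≤ 𝓑.card)
    (H : Subgroup G) (hH : H ≠ ⊤) {A A' : Subgroup G} (hA : A ∈ 𝓐) (hA' : A' ∈ 𝓐)
    (hAH : A ≤ H) (hA'H : A' ≤ H) : A = A' := by
  classical
  by_contra hne
  have hA'mem : A' ∈ 𝓐.erase A := Finset.mem_erase.mpr ⟨fun h => hne h.symm, hA'⟩
  have hp2 : ∀ B ∈ insert H ((𝓐.erase A).erase A'), B ≠ ⊤ := by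
    intro B hB
    rcases Finset.mem_insert.mp hB with h | h
    · rw [h]; exact hH
    · exact hprop B (Finset.mem_of_mem_erase (Finset.mem_of_mem_erase h))
  have hc2 : ∀ g : G, ∃ B ∈ insert H ((𝓐.erase A).erase A'), g ∈ B := by
    intro g
    obtain ⟨B, hB, hg⟩ := hcov g
    by_cases h1 : B = A
    · exact ⟨H, Finset.mem_insert_self _ _, hAH (h1 ▸ hg)⟩
    · by_cases h2 : B = A'
      · exact ⟨H, Finset.mem_insert_self _ _, hA'H (h2 ▸ hg)⟩
      · exact ⟨B, Finset.mem_insert_of_mem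
          (Finset.mem_erase.mpr ⟨h2, Finset.mem_erase.mpr ⟨h1, hB⟩⟩), hg⟩
  have hc := hmin _ ⟨hp2, hc2⟩
  have h1 := Finset.card_insert_le H ((𝓐.erase A).erase A')
  have h2 := Finset.card_erase_of_mem hA'mem
  have h3 := Finset.card_erase_of_mem hA
  have h4 : 0 < (𝓐.erase A).card := Finset.card_pos.mpr ⟨A', hA'mem⟩
  omega

theorem ncv_ab (P : Sylow p G)
    (hab : ∀ a ∈ (P : Subgroup G), ∀ b ∈ (P : Subgroup G), a * b = b * a)
    (R : Subgroup G) (hR : IsPGroup p R) : ∀ a ∈ R, ∀ b ∈ R, a * b = b * a := by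
  intro a ha b hb
  obtain ⟨P', hP'⟩ := hR.exists_le_sylow
  obtain ⟨g, rfl⟩ := MulAction.exists_smul_eq G P P'
  have ha' := (Cfsg.Agent.Lib.Helper5.mem_sylow_smul_iff g a P).mp (hP' ha)
  have hb' := (Cfsg.Agent.Lib.Helper5.mem_sylow_smul_iff g b P).mp (hP' hb)
  have h := hab _ ha' _ hb'
  calc a * b = g * (g⁻¹ * a * g * (g⁻¹ * b * g)) * g⁻¹ := by group
    _ = g * (g⁻¹ * b * g * (g⁻¹ * a * g)) * g⁻¹ := by rw [h]
    _ = b * a := by group

theorem ncv_le_sylow (P : Sylow p G) (R : Subgroup G) (hR : IsPGroup p R)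
    (h : R ≤ Subgroup.normalizer ((P : Subgroup G) : Set G)) : R ≤ (P : Subgroup G) :=
  hR.sylow_mem_fixedPoints_iff.mp ((Subgroup.sylow_mem_fixedPoints_iff R).mpr h)

theorem ncv_mem_normalizer (P : Sylow p G) (g : G)
    (hle : ((g • P : Sylow p G) : Subgroup G) ≤ (P : Subgroup G)) :
    g ∈ Subgroup.normalizer ((P : Subgroup G) : Set G) := by
  have h1 : (P : Subgroup G) = ((g • P : Sylow p G) : Subgroup G) :=
    (g • P).is_maximal' P.isPGroup' hle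
  have h2 : g • P = P := Sylow.ext h1.symm
  exact Sylow.smul_eq_iff_mem_normalizer.mp h2

theorem ncv_comm
    (hall_ab : ∀ R : Subgroup G, IsPGroup p R → ∀ a ∈ R, ∀ b ∈ R, a * b = b * a)
    (A : Subgroup G) [Group.IsNilpotent ↥A] (y : G) (hy : y ∈ A) (k : ℕ)
    (hyk : y ^ (p ^ k) = 1) : ∀ a ∈ A, a * y = y * a := by
  intro a ha
  obtain ⟨y', hy'⟩ : ∃ y' : ↥A, (y' : G) = y := ⟨⟨y, hy⟩, rfl⟩
  have hy'k : y' ^ (p ^ k) = 1 := by
    apply Subtype.ext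
    rw [Subgroup.coe_pow, hy']
    exact hyk
  obtain ⟨Qp, hQp⟩ := (ncv_zpowers_pgroup p y' k hy'k).exists_le_sylow
  have hy'Q : y' ∈ (Qp : Subgroup ↥A) := hQp (Subgroup.mem_zpowers y')
  have hQple : (Qp : Subgroup ↥A) ≤ Subgroup.centralizer ({y'} : Set ↥A) := by
    intro b hb
    rw [Subgroup.mem_centralizer_iff]
    intro z hz
    rw [Set.mem_singleton_iff] at hz
    rw [hz]
    have hmap : IsPGroup p ((Qp : Subgroup ↥A).map A.subtype) := Qp.isPGroup'.map _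
    have h1 := hall_ab _ hmap (y' : G) (Subgroup.mem_map_of_mem _ hy'Q) (b : G)
      (Subgroup.mem_map_of_mem _ hb)
    exact Subtype.ext h1
  have hC : Subgroup.centralizer ({y'} : Set ↥A) = ⊤ := by
    rw [← Subgroup.index_eq_one, Nat.eq_one_iff_not_exists_prime_dvd]
    intro q hq hdvd
    by_cases hqp : q = p
    · rw [hqp] at hdvd
      exact (Sylow.not_dvd_index Qp) (dvd_trans hdvd (Subgroup.index_dvd_of_le hQple))
    · haveI : Fact q.Prime := ⟨hq⟩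
      obtain ⟨Q⟩ : Nonempty (Sylow q ↥A) := inferInstance
      have hQle : (Q : Subgroup ↥A) ≤ Subgroup.centralizer ({y'} : Set ↥A) := by
        intro b hb
        rw [Subgroup.mem_centralizer_iff]
        intro z hz
        rw [Set.mem_singleton_iff] at hz
        rw [hz]
        have hdis := IsPGroup.disjoint_of_ne p q (Ne.symm hqp) _ _ Qp.isPGroup' Q.isPGroup'
        exact Subgroup.commute_of_normal_of_disjoint _ _ inferInstance inferInstance hdis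
          y' b hy'Q hb
      exact (Sylow.not_dvd_index Q) (dvd_trans hdvd (Subgroup.index_dvd_of_le hQle))
  have hmem : (⟨a, ha⟩ : ↥A) ∈ Subgroup.centralizer ({y'} : Set ↥A) := by
    rw [hC]; trivial
  have h2 := congrArg Subtype.val (Subgroup.mem_centralizer_iff.mp hmem y' rfl)
  simp only [Subgroup.coe_mul, hy'] at h2
  exact h2.symm

theorem ncv_unique (hprop : ∀ A ∈ 𝓐, A ≠ ⊤) (hcov : ∀ g : G, ∃ A ∈ 𝓐, g ∈ A)
    (hmin : ∀ 𝓑 : Finset (Subgroup G), (∀ A ∈ 𝓑, A ≠ ⊤) ∧ (∀ g : G, ∃ A ∈ 𝓑, g ∈ A) →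
      𝓐.card ≤ 𝓑.card)
    (hZ : Subgroup.center G = ⊥)
    (hcomm : ∀ A ∈ 𝓐, ∀ y ∈ A, ∀ k : ℕ, y ^ (p ^ k) = 1 → ∀ a ∈ A, a * y = y * a)
    (y : G) (hy1 : y ≠ 1) (k : ℕ) (hyk : y ^ (p ^ k) = 1) {A A' : Subgroup G}
    (hA : A ∈ 𝓐) (hA' : A' ∈ 𝓐) (hyA : y ∈ A) (hyA' : y ∈ A') : A = A' := by
  have hC : Subgroup.centralizer ({y} : Set G) ≠ ⊤ := by
    intro h
    apply hy1
    have hyc : y ∈ Subgroup.center G := by
      rw [Subgroup.mem_center_iff]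
      intro g
      have hg : g ∈ Subgroup.centralizer ({y} : Set G) := by rw [h]; trivial
      exact (Subgroup.mem_centralizer_iff.mp hg y rfl).symm
    rw [hZ] at hyc
    exact Subgroup.mem_bot.mp hyc
  refine ncv_K1 hprop hcov hmin _ hC hA hA' ?_ ?_
  · intro a ha
    rw [Subgroup.mem_centralizer_iff]
    intro z hz
    rw [Set.mem_singleton_iff] at hz
    rw [hz]
    exact (hcomm A hA y hyA k hyk a ha).symm
  · intro a ha
    rw [Subgroup.mem_centralizer_iff]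
    intro z hz
    rw [Set.mem_singleton_iff] at hz
    rw [hz]
    exact (hcomm A' hA' y hyA' k hyk a ha).symm

theorem ncv_pel (S : Sylow p G) : ∀ y ∈ (S : Subgroup G), ∃ k : ℕ, y ^ (p ^ k) = 1 := by
  intro y hy
  obtain ⟨k, hk⟩ := S.isPGroup' ⟨y, hy⟩
  exact ⟨k, by simpa using congrArg Subtype.val hk⟩

theorem ncv_cent
    (hU : ∀ (y : G), y ≠ 1 → ∀ k : ℕ, y ^ (p ^ k) = 1 → ∀ A ∈ 𝓐, ∀ A' ∈ 𝓐,
      y ∈ A → y ∈ A' → A = A')
    (hcov : ∀ g : G, ∃ A ∈ 𝓐, g ∈ A)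
    (hcomm : ∀ A ∈ 𝓐, ∀ y ∈ A, ∀ k : ℕ, y ^ (p ^ k) = 1 → ∀ a ∈ A, a * y = y * a)
    (S : Sylow p G) (hS1 : ∃ x ∈ (S : Subgroup G), x ≠ 1) (A₀ : Subgroup G) (hA₀ : A₀ ∈ 𝓐)
    (hSA : (S : Subgroup G) ≤ A₀) :
    Subgroup.centralizer ((S : Subgroup G) : Set G) = A₀ := by
  have hp := (Fact.out : p.Prime)
  obtain ⟨x₀, hx₀S, hx₀1⟩ := hS1
  have hpel := ncv_pel S
  apply le_antisymm
  · intro g hg
    have hgc : ∀ y ∈ (S : Subgroup G), y * g = g * y :=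
      fun y hy => Subgroup.mem_centralizer_iff.mp hg y hy
    obtain ⟨e, m, hpm, hord⟩ :=
      Nat.exists_eq_pow_mul_and_not_dvd (orderOf_pos g).ne' p hp.ne_one
    have hgm : (g ^ m) ^ (p ^ e) = 1 := by
      rw [← pow_mul, mul_comm, ← hord]; exact pow_orderOf_eq_one g
    have hgmS : g ^ m ∈ (S : Subgroup G) := by
      apply ncv_le_sylow S (Subgroup.zpowers (g ^ m)) (ncv_zpowers_pgroup p _ e hgm) ?_
        (Subgroup.mem_zpowers _)
      rw [Subgroup.zpowers_le]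
      exact Subgroup.centralizer_le_normalizer _ (Subgroup.pow_mem _ hg m)
    by_cases h1 : g ^ m = 1
    · obtain ⟨B, hB, hwB⟩ := hcov (g * x₀)
      have hcm : Commute g x₀ := (hgc x₀ hx₀S).symm
      have hwm : (g * x₀) ^ m = x₀ ^ m := by rw [hcm.mul_pow, h1, one_mul]
      obtain ⟨k, hk⟩ := hpel x₀ hx₀S
      have hx₀m : x₀ ^ m ≠ 1 := by
        intro h
        apply hx₀1
        have hd1 : orderOf x₀ ∣ m := orderOf_dvd_of_pow_eq_one h
        have hd2 : orderOf x₀ ∣ p ^ k := orderOf_dvd_of_pow_eq_one hk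
        have hcop : Nat.Coprime (p ^ k) m :=
          Nat.Coprime.pow_left k ((Nat.Prime.coprime_iff_not_dvd hp).mpr hpm)
        have h1' : orderOf x₀ = 1 := Nat.eq_one_of_dvd_coprimes hcop hd2 hd1
        exact orderOf_eq_one_iff.mp h1'
      have hBA : B = A₀ := hU (x₀ ^ m) hx₀m k
        (by rw [← pow_mul, mul_comm, pow_mul, hk, one_pow]) B hB A₀ hA₀
        (by rw [← hwm]; exact B.pow_mem hwB m) (A₀.pow_mem (hSA hx₀S) m)
      rw [hBA] at hwB
      have hg' : g = (g * x₀) * x₀⁻¹ := by group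
      rw [hg']
      exact A₀.mul_mem hwB (A₀.inv_mem (hSA hx₀S))
    · obtain ⟨B, hB, hgB⟩ := hcov g
      have hBA : B = A₀ := hU (g ^ m) h1 e hgm B hB A₀ hA₀ (B.pow_mem hgB m) (hSA hgmS)
      rw [← hBA]; exact hgB
  · intro a ha
    rw [Subgroup.mem_centralizer_iff]
    intro y hy
    obtain ⟨k, hk⟩ := hpel y hy
    exact (hcomm A₀ hA₀ y (hSA hy) k hk a ha).symm

theorem ncv_member
    (hU : ∀ (y : G), y ≠ 1 → ∀ k : ℕ, y ^ (p ^ k) = 1 → ∀ A ∈ 𝓐, ∀ A' ∈ 𝓐,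
      y ∈ A → y ∈ A' → A = A')
    (hcov : ∀ g : G, ∃ A ∈ 𝓐, g ∈ A)
    (S : Sylow p G)
    (habS : ∀ a ∈ (S : Subgroup G), ∀ b ∈ (S : Subgroup G), a * b = b * a)
    (hS : (∃ x ∈ (S : Subgroup G), x ^ p ≠ 1) ∨
      (∃ x : G, (S : Subgroup G) ≤ Subgroup.zpowers x)) :
    ∃ A ∈ 𝓐, (S : Subgroup G) ≤ A := by
  rcases hS with ⟨x, hxS, hxp⟩ | ⟨x, hx⟩
  · obtain ⟨A₀, hA₀, hxA⟩ := hcov x
    refine ⟨A₀, hA₀, ?_⟩
    have hpel := ncv_pel S
    obtain ⟨kx, hkx⟩ := hpel (x ^ p) (Subgroup.pow_mem _ hxS p)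
    have hzA : x ^ p ∈ A₀ := A₀.pow_mem hxA p
    have step1 : ∀ y ∈ (S : Subgroup G), y ^ p = 1 → y ∈ A₀ := by
      intro y hy hyp
      obtain ⟨B, hB, hwB⟩ := hcov (x * y)
      have hw : (x * y) ^ p = x ^ p := by
        have hc : Commute x y := habS x hxS y hy
        rw [hc.mul_pow, hyp, mul_one]
      have hBA : B = A₀ := hU (x ^ p) hxp kx hkx B hB A₀ hA₀
        (by rw [← hw]; exact B.pow_mem hwB p) hzA
      rw [hBA] at hwB
      have hy' : y = x⁻¹ * (x * y) := by group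
      rw [hy']
      exact A₀.mul_mem (A₀.inv_mem hxA) hwB
    have step2 : ∀ k : ℕ, ∀ y ∈ (S : Subgroup G), y ^ (p ^ k) = 1 → y ∈ A₀ := by
      intro k
      induction k with
      | zero =>
        intro y _ hy
        rw [pow_zero, pow_one] at hy
        rw [hy]; exact A₀.one_mem
      | succ k ih =>
        intro y hy hyk
        have hyp : (y ^ p) ^ (p ^ k) = 1 := by
          rw [← pow_mul, ← pow_succ']; exact hyk
        have h1 := ih (y ^ p) (Subgroup.pow_mem _ hy p) hyp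
        by_cases h2 : y ^ p = 1
        · exact step1 y hy h2
        · obtain ⟨B, hB, hyB⟩ := hcov y
          have hBA : B = A₀ := hU (y ^ p) h2 k hyp B hB A₀ hA₀ (B.pow_mem hyB p) h1
          rw [← hBA]; exact hyB
    intro y hy
    obtain ⟨k, hk⟩ := hpel y hy
    exact step2 k y hy hk
  · obtain ⟨A₀, hA₀, hxA⟩ := hcov x
    exact ⟨A₀, hA₀, hx.trans (Subgroup.zpowers_le.mpr hxA)⟩

theorem ncv_hyp_conj (P : Sylow p G) (g : G)
    (hS : (∃ x ∈ (P : Subgroup G), x ^ p ≠ 1) ∨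
      (∃ x : G, (P : Subgroup G) ≤ Subgroup.zpowers x)) :
    (∃ x ∈ ((g • P : Sylow p G) : Subgroup G), x ^ p ≠ 1) ∨
      (∃ x : G, ((g • P : Sylow p G) : Subgroup G) ≤ Subgroup.zpowers x) := by
  rcases hS with ⟨x, hxS, hxp⟩ | ⟨x, hx⟩
  · left
    refine ⟨g * x * g⁻¹, ?_, ?_⟩
    · rw [Cfsg.Agent.Lib.Helper5.mem_sylow_smul_iff]
      have h0 : g⁻¹ * (g * x * g⁻¹) * g = x := by group
      rw [h0]; exact hxS
    · intro h
      apply hxp
      have h2 : (g * x * g⁻¹) ^ p = g * x ^ p * g⁻¹ := conj_pow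
      rw [h2] at h
      have h3 : x ^ p = g⁻¹ * (g * x ^ p * g⁻¹) * g := by group
      rw [h3, h]; group
  · right
    refine ⟨g * x * g⁻¹, ?_⟩
    intro y hy
    rw [Cfsg.Agent.Lib.Helper5.mem_sylow_smul_iff] at hy
    obtain ⟨n, hn⟩ := Subgroup.mem_zpowers_iff.mp (hx hy)
    rw [Subgroup.mem_zpowers_iff]
    refine ⟨n, ?_⟩
    rw [conj_zpow, hn]
    group

theorem ncv_core (hprop : ∀ A ∈ 𝓐, A ≠ ⊤) (hcov : ∀ g : G, ∃ A ∈ 𝓐, g ∈ A)
    (hmin : ∀ 𝓑 : Finset (Subgroup G), (∀ A ∈ 𝓑, A ≠ ⊤) ∧ (∀ g : G, ∃ A ∈ 𝓑, g ∈ A) →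
      𝓐.card ≤ 𝓑.card)
    (hnil : ∀ A ∈ 𝓐, Group.IsNilpotent ↥A)
    (hZ : Subgroup.center G = ⊥) (P : Sylow p G)
    (hab : ∀ a ∈ (P : Subgroup G), ∀ b ∈ (P : Subgroup G), a * b = b * a)
    (hnn : ¬ (P : Subgroup G).Normal)
    (hS : (∃ x ∈ (P : Subgroup G), x ^ p ≠ 1) ∨
      (∃ x : G, (P : Subgroup G) ≤ Subgroup.zpowers x)) :
    ∃ A₀ ∈ 𝓐, (P : Subgroup G) ≤ A₀ ∧
      Subgroup.centralizer ((P : Subgroup G) : Set G) = A₀ ∧
      IsCoatom (Subgroup.normalizer ((P : Subgroup G) : Set G)) ∧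
      (∀ M : Subgroup G, M ≠ ⊤ → Subgroup.centralizer ((P : Subgroup G) : Set G) ≤ M →
        M ≤ Subgroup.normalizer ((P : Subgroup G) : Set G)) ∧
      (∀ g : G, g ∉ Subgroup.normalizer ((P : Subgroup G) : Set G) →
        ¬ p ∣ Nat.card ↥(Subgroup.normalizer ((P : Subgroup G) : Set G) ⊓
          (Subgroup.normalizer ((P : Subgroup G) : Set G)).map
            (MulAut.conj g).toMonoidHom)) := by
  classical
  have hp := (Fact.out : p.Prime)
  have hall_ab := ncv_ab P hab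
  have hcomm : ∀ A ∈ 𝓐, ∀ y ∈ A, ∀ k : ℕ, y ^ (p ^ k) = 1 → ∀ a ∈ A, a * y = y * a := by
    intro A hA y hy k hk
    haveI := hnil A hA
    exact ncv_comm hall_ab A y hy k hk
  have hU : ∀ (y : G), y ≠ 1 → ∀ k : ℕ, y ^ (p ^ k) = 1 → ∀ A ∈ 𝓐, ∀ A' ∈ 𝓐,
      y ∈ A → y ∈ A' → A = A' := by
    intro y hy1 k hk A hA A' hA' hyA hyA'
    exact ncv_unique hprop hcov hmin hZ hcomm y hy1 k hk hA hA' hyA hyA'
  have hmem : ∀ g : G, ∃ A ∈ 𝓐, ((g • P : Sylow p G) : Subgroup G) ≤ A := by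
    intro g
    exact ncv_member hU hcov (g • P)
      (fun a ha b hb => hall_ab _ (g • P).isPGroup' a ha b hb) (ncv_hyp_conj P g hS)
  have hPne : (P : Subgroup G) ≠ ⊥ := by
    intro h
    apply hnn
    rw [h]
    infer_instance
  obtain ⟨⟨x₀, hx₀P⟩, hx₀1'⟩ := (Subgroup.ne_bot_iff_exists_ne_one).mp hPne
  have hx₀1 : x₀ ≠ 1 := fun h => hx₀1' (Subtype.ext h)
  have hS1 : ∀ g : G, ∃ x ∈ ((g • P : Sylow p G) : Subgroup G), x ≠ 1 := by
    intro g
    refine ⟨g * x₀ * g⁻¹, ?_, ?_⟩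
    · rw [Cfsg.Agent.Lib.Helper5.mem_sylow_smul_iff]
      have h0 : g⁻¹ * (g * x₀ * g⁻¹) * g = x₀ := by group
      rw [h0]; exact hx₀P
    · intro h
      apply hx₀1
      have h3 : x₀ = g⁻¹ * (g * x₀ * g⁻¹) * g := by group
      rw [h3, h]; group
  have hcent : ∀ g : G, ∀ A ∈ 𝓐, ((g • P : Sylow p G) : Subgroup G) ≤ A →
      Subgroup.centralizer (((g • P : Sylow p G) : Subgroup G) : Set G) = A := by
    intro g A hA hle
    exact ncv_cent hU hcov hcomm (g • P) (hS1 g) A hA hle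
  obtain ⟨A₀, hA₀, hPA'⟩ := hmem 1
  have hPA : (P : Subgroup G) ≤ A₀ := by rwa [one_smul] at hPA'
  have hC : Subgroup.centralizer ((P : Subgroup G) : Set G) = A₀ := by
    have h := hcent 1 A₀ hA₀ hPA'
    rwa [one_smul] at h
  have hCN : Subgroup.centralizer ((P : Subgroup G) : Set G) ≤
      Subgroup.normalizer ((P : Subgroup G) : Set G) := Subgroup.centralizer_le_normalizer _
  have hA₀N : A₀ ≤ Subgroup.normalizer ((P : Subgroup G) : Set G) := by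
    rw [← hC]; exact hCN
  have hNtop : Subgroup.normalizer ((P : Subgroup G) : Set G) ≠ ⊤ := by
    intro h
    exact hnn (Subgroup.normalizer_eq_top_iff.mp h)
  have hkeyN : ∀ g : G, ((g • P : Sylow p G) : Subgroup G) ≤ A₀ →
      g ∈ Subgroup.normalizer ((P : Subgroup G) : Set G) := by
    intro g hle
    apply ncv_mem_normalizer P g
    apply ncv_le_sylow P _ (g • P).isPGroup'
    exact hle.trans hA₀N
  have hkey : ∀ M : Subgroup G, M ≠ ⊤ →
      Subgroup.centralizer ((P : Subgroup G) : Set G) ≤ M →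
      M ≤ Subgroup.normalizer ((P : Subgroup G) : Set G) := by
    intro M hM hCM h hh
    obtain ⟨B, hB, hle⟩ := hmem h
    have hBc := hcent h B hB hle
    have hBM : B ≤ M := by
      intro b hb
      rw [← hBc] at hb
      have h1 : h⁻¹ * b * h ∈ Subgroup.centralizer ((P : Subgroup G) : Set G) := by
        rw [Subgroup.mem_centralizer_iff]
        intro x hx
        have hx' : h * x * h⁻¹ ∈ ((h • P : Sylow p G) : Subgroup G) := by
          rw [Cfsg.Agent.Lib.Helper5.mem_sylow_smul_iff]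
          have h0 : h⁻¹ * (h * x * h⁻¹) * h = x := by group
          rw [h0]; exact hx
        have h2 := Subgroup.mem_centralizer_iff.mp hb _ hx'
        calc x * (h⁻¹ * b * h) = h⁻¹ * ((h * x * h⁻¹) * b) * h := by group
          _ = h⁻¹ * (b * (h * x * h⁻¹)) * h := by rw [h2]
          _ = h⁻¹ * b * h * x := by group
      have h3 := M.mul_mem (M.mul_mem hh (hCM h1)) (M.inv_mem hh)
      have h4 : h * (h⁻¹ * b * h) * h⁻¹ = b := by group
      rwa [h4] at h3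
    have hA₀M : A₀ ≤ M := by rw [← hC]; exact hCM
    have hBA : B = A₀ := ncv_K1 hprop hcov hmin M hM hB hA₀ hBM hA₀M
    apply hkeyN h
    rw [← hBA]; exact hle
  refine ⟨A₀, hA₀, hPA, hC, ⟨hNtop, ?_⟩, hkey, ?_⟩
  · intro K hK
    by_contra hKtop
    exact (not_le_of_gt hK) (hkey K hKtop (hCN.trans hK.le))
  · intro g hg hdvd
    apply hg
    obtain ⟨⟨y, hyN⟩, hyord⟩ := exists_prime_orderOf_dvd_card' p hdvd
    have hypow : y ^ p = 1 := by
      have h := pow_orderOf_eq_one (⟨y, hyN⟩ : ↥(Subgroup.normalizer ((P : Subgroup G) : Set G) ⊓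
          (Subgroup.normalizer ((P : Subgroup G) : Set G)).map (MulAut.conj g).toMonoidHom))
      rw [hyord] at h
      exact congrArg Subtype.val h
    have hy1 : y ≠ 1 := by
      intro h
      have h1 : (⟨y, hyN⟩ : ↥(Subgroup.normalizer ((P : Subgroup G) : Set G) ⊓
          (Subgroup.normalizer ((P : Subgroup G) : Set G)).map
            (MulAut.conj g).toMonoidHom)) = 1 := Subtype.ext h
      rw [h1, orderOf_one] at hyord
      exact hp.one_lt.ne hyord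
    have hyp : y ^ (p ^ 1) = 1 := by rw [pow_one]; exact hypow
    have hyP : y ∈ (P : Subgroup G) := by
      apply ncv_le_sylow P (Subgroup.zpowers y) (ncv_zpowers_pgroup p y 1 hyp) ?_
        (Subgroup.mem_zpowers y)
      rw [Subgroup.zpowers_le]
      exact hyN.1
    have hygP : y ∈ ((g • P : Sylow p G) : Subgroup G) := by
      rw [Cfsg.Agent.Lib.Helper5.mem_sylow_smul_iff]
      obtain ⟨n, hnN, hn⟩ := Subgroup.mem_map.mp hyN.2
      have hy' : g * n * g⁻¹ = y := by simpa [MulAut.conj_apply] using hn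
      have hn' : g⁻¹ * y * g = n := by rw [← hy']; group
      rw [hn']
      have h4 : g * n ^ (p ^ 1) * g⁻¹ = 1 := by rw [← conj_pow, hy', hyp]
      have hnp : n ^ (p ^ 1) = 1 := by
        have h5 : n ^ (p ^ 1) = g⁻¹ * (g * n ^ (p ^ 1) * g⁻¹) * g := by group
        rw [h5, h4]; group
      apply ncv_le_sylow P (Subgroup.zpowers n) (ncv_zpowers_pgroup p n 1 hnp) ?_
        (Subgroup.mem_zpowers n)
      rw [Subgroup.zpowers_le]
      exact hnN
    obtain ⟨B, hB, hle⟩ := hmem g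
    have hBA : B = A₀ := hU y hy1 1 hyp B hB A₀ hA₀ (hle hygP) (hPA hyP)
    apply hkeyN g
    rw [← hBA]; exact hle

theorem ncv_3891 (hZ : Subgroup.center G = ⊥) (𝓐 : Finset (Subgroup G))
    (h𝓐 : ((∀ A ∈ 𝓐, A ≠ ⊤) ∧ (∀ g : G, ∃ A ∈ 𝓐, g ∈ A)) ∧
      (∀ 𝓑 : Finset (Subgroup G), (∀ A ∈ 𝓑, A ≠ ⊤) ∧ (∀ g : G, ∃ A ∈ 𝓑, g ∈ A) →
        𝓐.card ≤ 𝓑.card) ∧ (∀ A ∈ 𝓐, Group.IsNilpotent ↥A))
    (P : Sylow p G)
    (hP : IsCyclic ↥(P : Subgroup G) ∨ (IsMulCommutative ↥(P : Subgroup G) ∧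
      ¬ Cfsg.IsElementaryAbelian p (P : Subgroup G)))
    (hnn : ¬ (P : Subgroup G).Normal) :
    Group.IsNilpotent ↥(Subgroup.centralizer ((P : Subgroup G) : Set G)) ∧
      IsCoatom (Subgroup.normalizer ((P : Subgroup G) : Set G)) ∧
      ∀ M : Subgroup G, IsCoatom M → Subgroup.centralizer ((P : Subgroup G) : Set G) ≤ M →
        M = Subgroup.normalizer ((P : Subgroup G) : Set G) := by
  obtain ⟨⟨hprop, hcov⟩, hmin, hnil⟩ := h𝓐
  have hab : ∀ a ∈ (P : Subgroup G), ∀ b ∈ (P : Subgroup G), a * b = b * a := by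
    rcases hP with hcyc | ⟨hcomm, _⟩
    · intro a ha b hb
      haveI := hcyc
      exact congrArg Subtype.val (ncv_cyc_comm (⟨a, ha⟩ : ↥(P : Subgroup G)) ⟨b, hb⟩)
    · exact comm_of_isMulCommutative hcomm
  have hS : (∃ x ∈ (P : Subgroup G), x ^ p ≠ 1) ∨
      (∃ x : G, (P : Subgroup G) ≤ Subgroup.zpowers x) := by
    rcases hP with hcyc | ⟨hcomm, hne⟩
    · right
      haveI := hcyc
      obtain ⟨g, hg⟩ := IsCyclic.exists_generator (α := ↥(P : Subgroup G))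
      refine ⟨(g : G), ?_⟩
      intro y hy
      obtain ⟨n, hn⟩ := Subgroup.mem_zpowers_iff.mp (hg ⟨y, hy⟩)
      rw [Subgroup.mem_zpowers_iff]
      exact ⟨n, by simpa using congrArg Subtype.val hn⟩
    · left
      by_contra hcon
      push_neg at hcon
      exact hne ⟨hcomm, hcon⟩
  obtain ⟨A₀, hA₀, hPA, hC, hco, hkey, -⟩ := ncv_core hprop hcov hmin hnil hZ P hab hnn hS
  refine ⟨?_, hco, ?_⟩
  · rw [hC]; exact hnil A₀ hA₀
  · intro M hM hCM
    have hle := hkey M hM.1 hCM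
    rcases eq_or_lt_of_le hle with h | h
    · exact h
    · exact absurd (hM.2 _ h) hco.1

theorem ncv_3890 (hZ : Subgroup.center G = ⊥) (𝓐 : Finset (Subgroup G))
    (h𝓐 : ((∀ A ∈ 𝓐, A ≠ ⊤) ∧ (∀ g : G, ∃ A ∈ 𝓐, g ∈ A)) ∧
      (∀ 𝓑 : Finset (Subgroup G), (∀ A ∈ 𝓑, A ≠ ⊤) ∧ (∀ g : G, ∃ A ∈ 𝓑, g ∈ A) →
        𝓐.card ≤ 𝓑.card) ∧ (∀ A ∈ 𝓐, Group.IsNilpotent ↥A))
    (P : Sylow p G) (hab : IsMulCommutative ↥(P : Subgroup G))
    (hnn : ¬ (P : Subgroup G).Normal) :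
    (Cfsg.IsElementaryAbelian p (P : Subgroup G) ∧ p < Nat.card ↥(P : Subgroup G)) ∨
    (∃ A ∈ 𝓐, (P : Subgroup G) ≤ A ∧ ¬ p ∣ ((P : Subgroup G).subgroupOf A).index ∧
      IsCoatom (Subgroup.normalizer ((P : Subgroup G) : Set G)) ∧
      (∀ g : G, g ∉ Subgroup.normalizer ((P : Subgroup G) : Set G) →
        ¬ p ∣ Nat.card ↥(Subgroup.normalizer ((P : Subgroup G) : Set G) ⊓
          (Subgroup.normalizer ((P : Subgroup G) : Set G)).map (MulAut.conj g).toMonoidHom)) ∧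
      Subgroup.centralizer ((P : Subgroup G) : Set G) = A) := by
  obtain ⟨⟨hprop, hcov⟩, hmin, hnil⟩ := h𝓐
  have hp := (Fact.out : p.Prime)
  have habel := comm_of_isMulCommutative hab
  by_cases hel : (∀ a ∈ (P : Subgroup G), a ^ p = 1) ∧ p < Nat.card ↥(P : Subgroup G)
  · left; exact ⟨⟨hab, hel.1⟩, hel.2⟩
  · right
    have hS : (∃ x ∈ (P : Subgroup G), x ^ p ≠ 1) ∨
        (∃ x : G, (P : Subgroup G) ≤ Subgroup.zpowers x) := by
      by_cases h1 : ∀ a ∈ (P : Subgroup G), a ^ p = 1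
      · right
        have hcard : Nat.card ↥(P : Subgroup G) ≤ p := by
          by_contra h; exact hel ⟨h1, by omega⟩
        have hPne : (P : Subgroup G) ≠ ⊥ := by
          intro h; apply hnn; rw [h]; infer_instance
        obtain ⟨⟨x, hxP⟩, hx1'⟩ := (Subgroup.ne_bot_iff_exists_ne_one).mp hPne
        have hx1 : x ≠ 1 := fun h => hx1' (Subtype.ext h)
        refine ⟨x, ?_⟩
        have hord : orderOf x = p := orderOf_eq_prime (h1 x hxP) hx1
        have hzle : Subgroup.zpowers x ≤ (P : Subgroup G) := Subgroup.zpowers_le.mpr hxP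
        have hzc : Nat.card ↥(Subgroup.zpowers x) = p := by rw [Nat.card_zpowers, hord]
        exact (Subgroup.eq_of_le_of_card_ge hzle (by rw [hzc]; exact hcard)).ge
      · left
        push_neg at h1
        exact h1
    obtain ⟨A₀, hA₀, hPA, hC, hco, -, hse⟩ :=
      ncv_core hprop hcov hmin hnil hZ P habel hnn hS
    refine ⟨A₀, hA₀, hPA, ?_, hco, hse, hC⟩
    intro hdvd
    apply Sylow.not_dvd_index P
    have h := Subgroup.relIndex_mul_index hPA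
    rw [← h]
    exact Dvd.dvd.mul_right hdvd _

end NCV

end Cfsg.Agent.Lib.Helper1
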