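import Mathlib
import Cfsg.Prelude
import Cfsg.Agent.Lib.Helper1.NCV
import Cfsg.Agent.Lib.Helper1.FCN
import Cfsg.Agent.Lib.Helper4.Basic
import Cfsg.Agent.Lib.Helper5.SylowChain

set_option autoImplicit false
set_option maxHeartbeats 1600000

namespace Cfsg.Agent.Lib.Helper1

section DQ

theorem dq_conj_invol {H : Type*} [Group H] (s s' : H) (hs : s * s = 1) (hs' : s' * s' = 1)
    (k : ℕ) (hk : (s * s') ^ (2 * k + 1) = 1) :
    ∃ w : H, w * s' * w⁻¹ = s ∧ ∃ m : ℕ, w = (s * s') ^ m := by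
  have hsi : s'⁻¹ = s' := inv_eq_of_mul_eq_one_right hs'
  have hsi2 : s⁻¹ = s := inv_eq_of_mul_eq_one_right hs
  refine ⟨(s * s') ^ (k + 1), ?_, k + 1, rfl⟩
  have h1 : s' * (s * s') * s'⁻¹ = (s * s')⁻¹ := by
    rw [mul_inv_rev, hsi, hsi2, mul_assoc, mul_assoc, hs', mul_one]
  have h2 : s' * (s * s') ^ (k + 1) * s'⁻¹ = ((s * s') ^ (k + 1))⁻¹ := by
    rw [← conj_pow, h1, inv_pow]
  have h3 : ((s * s') ^ (k + 1))⁻¹ = s' * (s * s') ^ (k + 1) * s' := by
    rw [← h2, hsi]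
  rw [h3]
  have h4 : (s * s') ^ (k + 1) * s' * (s' * (s * s') ^ (k + 1) * s') =
      (s * s') ^ (k + 1) * (s' * s') * (s * s') ^ (k + 1) * s' := by group
  have h5 : k + 1 + (k + 1) = (2 * k + 1) + 1 := by ring
  rw [h4, hs', mul_one, ← pow_add, h5, pow_succ, hk, one_mul, mul_assoc, hs', mul_one]

variable {G D : Type*} [Group G] [Finite G] [Group D] {r : ℕ} [Fact r.Prime]

theorem dq_main (hr : r ≠ 2) (hD1 : Nat.card D = 2 * r)
    (hD2 : ∀ s s' : D, orderOf s = 2 → orderOf s' = 2 → s ≠ s' → orderOf (s * s') = r)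
    (hD4 : ∃ s s' : D, orderOf s = 2 ∧ orderOf s' = 2 ∧ s ≠ s')
    (Q : Subgroup G) [Q.Normal] (hQ2 : IsPGroup 2 Q) (e : G ⧸ Q ≃* D) (R : Sylow r G)
    (hC : Q ⊓ Subgroup.centralizer ((R : Subgroup G) : Set G) = ⊥) :
    Nonempty (↥(Subgroup.normalizer ((R : Subgroup G) : Set G)) ≃* D) ∧
    ∀ a : G, a ∈ Subgroup.normalizer ((R : Subgroup G) : Set G) → orderOf a = 2 →
      (∀ b : G, orderOf b = 2 → b ∉ Q → ∃ g : G, g * a * g⁻¹ = b) ∧
      Nat.card ↥(Q ⊓ Subgroup.centralizer ({a} : Set G)) ^ 2 = Nat.card ↥Q := by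
  classical
  have hrp := (Fact.out : r.Prime)
  haveI : Fact (Nat.Prime 2) := ⟨Nat.prime_two⟩
  haveI : Finite D := Nat.finite_of_card_ne_zero (by rw [hD1]; have := hrp.pos; omega)
  have hr3 : 3 ≤ r := by have := hrp.two_le; omega
  obtain ⟨k, hk⟩ : ∃ k, r = 2 * k + 1 := by
    rcases hrp.eq_two_or_odd with h | h
    · exact absurd h hr
    · exact ⟨r / 2, by omega⟩
  obtain ⟨π, hπsurj, hπker⟩ : ∃ π : G →* D, Function.Surjective π ∧
      ∀ g : G, π g = 1 ↔ g ∈ Q := by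
    refine ⟨e.toMonoidHom.comp (QuotientGroup.mk' Q), ?_, ?_⟩
    · exact e.surjective.comp (QuotientGroup.mk'_surjective Q)
    · intro g
      show e (QuotientGroup.mk g) = 1 ↔ g ∈ Q
      rw [e.map_eq_one_iff, QuotientGroup.eq_one_iff]
  obtain ⟨N, hN⟩ : ∃ N : Subgroup G, N = Subgroup.normalizer ((R : Subgroup G) : Set G) :=
    ⟨_, rfl⟩
  rw [← hN]
  have hRN : (R : Subgroup G) ≤ N := by rw [hN]; exact Subgroup.le_normalizer
  have hdisj : Disjoint (R : Subgroup G) Q :=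
    IsPGroup.disjoint_of_ne r 2 hr _ _ R.isPGroup' hQ2
  have hNQ : ∀ n ∈ N, n ∈ Q → n = 1 := by
    intro n hn hnQ
    have hn2 : n ∈ Subgroup.normalizer ((R : Subgroup G) : Set G) := by rw [← hN]; exact hn
    have hn' := Subgroup.mem_normalizer_iff.mp hn2
    have hcent : n ∈ Subgroup.centralizer ((R : Subgroup G) : Set G) := by
      rw [Subgroup.mem_centralizer_iff]
      intro x hx
      have h1 : n * x * n⁻¹ * x⁻¹ ∈ (R : Subgroup G) :=
        (R : Subgroup G).mul_mem ((hn' x).mp hx) ((R : Subgroup G).inv_mem hx)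
      have h2 : n * x * n⁻¹ * x⁻¹ ∈ Q := by
        have h3 : x * n⁻¹ * x⁻¹ ∈ Q :=
          Subgroup.Normal.conj_mem inferInstance _ (Q.inv_mem hnQ) x
        have e1 : n * x * n⁻¹ * x⁻¹ = n * (x * n⁻¹ * x⁻¹) := by group
        rw [e1]; exact Q.mul_mem hnQ h3
      have h4 : n * x * n⁻¹ * x⁻¹ = 1 := Subgroup.disjoint_def.mp hdisj h1 h2
      have e2 : x * n = (n * x * n⁻¹ * x⁻¹)⁻¹ * (n * x) := by group
      rw [e2, h4, inv_one, one_mul]
    have h5 : n ∈ Q ⊓ Subgroup.centralizer ((R : Subgroup G) : Set G) := ⟨hnQ, hcent⟩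
    rw [hC] at h5
    exact Subgroup.mem_bot.mp h5
  have hinjN : ∀ n ∈ N, ∀ n' ∈ N, π n = π n' → n = n' := by
    intro n hn n' hn' h
    have h1 : n⁻¹ * n' ∈ Q := by
      rw [← hπker, map_mul, map_inv, h, inv_mul_cancel]
    have h2 := hNQ _ (N.mul_mem (N.inv_mem hn) hn') h1
    exact inv_mul_eq_one.mp h2
  obtain ⟨j, hj⟩ := IsPGroup.iff_card.mp (R.isPGroup'.map π)
  have hidx : ¬ r ∣ ((R : Subgroup G).map π).index :=
    Sylow.not_dvd_index (R.mapSurjective hπsurj)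
  have hmul : Nat.card ((R : Subgroup G).map π) * ((R : Subgroup G).map π).index = 2 * r := by
    rw [Subgroup.card_mul_index, hD1]
  have hj1 : j = 1 ∧ ((R : Subgroup G).map π).index = 2 := by
    rw [hj] at hmul
    rcases j with _ | j
    · exfalso
      rw [pow_zero, one_mul] at hmul
      exact hidx ⟨2, by rw [hmul]; ring⟩
    · rcases j with _ | j
      · refine ⟨rfl, ?_⟩
        rw [zero_add, pow_one] at hmul
        have h1 : r * ((R : Subgroup G).map π).index = r * 2 := by rw [hmul]; ring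
        exact Nat.eq_of_mul_eq_mul_left hrp.pos h1
      · exfalso
        have h1 : r * (r * (r ^ j * ((R : Subgroup G).map π).index)) = r * 2 := by
          calc r * (r * (r ^ j * ((R : Subgroup G).map π).index))
              = r ^ (j + 1 + 1) * ((R : Subgroup G).map π).index := by ring
            _ = 2 * r := hmul
            _ = r * 2 := by ring
        have h2 := Nat.eq_of_mul_eq_mul_left hrp.pos h1
        have h3 : r ∣ 2 := ⟨_, h2.symm⟩
        have h4 := Nat.le_of_dvd (by norm_num) h3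
        omega
  obtain ⟨hj1, hidx2⟩ := hj1
  rw [hj1, pow_one] at hj
  haveI hSDn : ((R : Subgroup G).map π).Normal := Subgroup.normal_of_index_eq_two hidx2
  obtain ⟨K, hK⟩ : ∃ K : Subgroup G, K = ((R : Subgroup G).map π).comap π := ⟨_, rfl⟩
  haveI hKn : K.Normal := by rw [hK]; infer_instance
  have hRK : (R : Subgroup G) ≤ K := by
    rw [hK]; intro x hx
    exact Subgroup.mem_comap.mpr (Subgroup.mem_map_of_mem π hx)
  have hfr : N ⊔ K = ⊤ := by
    rw [hN]; exact Sylow.normalizer_sup_eq_top' R hRK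
  have hsurjN : ∀ d : D, ∃ n ∈ N, π n = d := by
    intro d
    obtain ⟨g, rfl⟩ := hπsurj d
    have hg : g ∈ (↑(N ⊔ K) : Set G) := by rw [hfr]; exact Subgroup.mem_top g
    rw [Subgroup.mul_normal] at hg
    obtain ⟨n, hn, k', hk', rfl⟩ := Set.mem_mul.mp hg
    have hk2 : π k' ∈ (R : Subgroup G).map π := by
      have h1 : k' ∈ K := hk'
      rw [hK] at h1
      exact Subgroup.mem_comap.mp h1
    obtain ⟨x, hx, hxe⟩ := Subgroup.mem_map.mp hk2
    exact ⟨n * x, N.mul_mem hn (hRN hx), by rw [map_mul, map_mul, hxe]⟩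
  have hequiv : Nonempty (↥N ≃* D) := by
    refine ⟨MulEquiv.ofBijective (π.comp N.subtype) ⟨?_, ?_⟩⟩
    · intro n n' h
      exact Subtype.ext (hinjN n n.2 n' n'.2 h)
    · intro d
      obtain ⟨n, hn, rfl⟩ := hsurjN d
      exact ⟨⟨n, hn⟩, rfl⟩
  refine ⟨hequiv, ?_⟩
  have hcardR : Nat.card (R : Subgroup G) = r := by
    refine Eq.trans ?_ hj
    refine Nat.card_congr (Equiv.ofBijective
      (fun x : (R : Subgroup G) => (⟨π x, Subgroup.mem_map_of_mem π x.2⟩ :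
        (R : Subgroup G).map π)) ⟨?_, ?_⟩)
    · intro x x' h
      exact Subtype.ext (hinjN x (hRN x.2) x' (hRN x'.2) (congrArg Subtype.val h))
    · rintro ⟨d, hd⟩
      obtain ⟨x, hx, rfl⟩ := Subgroup.mem_map.mp hd
      exact ⟨⟨x, hx⟩, rfl⟩
  have hsq : ∀ x : G, orderOf x = 2 → x * x = 1 ∧ x ≠ 1 := by
    intro x hx
    refine ⟨by rw [← pow_two, ← hx]; exact pow_orderOf_eq_one x, ?_⟩
    intro h; rw [h, orderOf_one] at hx; omega
  have hπinv : ∀ x : G, x * x = 1 → x ∉ Q → orderOf (π x) = 2 := by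
    intro x hx hxQ
    apply orderOf_eq_prime
    · rw [pow_two, ← map_mul, hx, map_one]
    · intro h; exact hxQ ((hπker x).mp h)
  have hNnotQ : ∀ x ∈ N, x ≠ 1 → x ∉ Q := fun x hx hx1 hxQ => hx1 (hNQ x hx hxQ)
  have hconjN : ∀ a ∈ N, ∀ a' ∈ N, a * a = 1 → a ≠ 1 → a' * a' = 1 → a' ≠ 1 →
      ∃ n ∈ N, n * a * n⁻¹ = a' := by
    intro a ha a' ha' h1 h2 h3 h4
    by_cases hEq : a = a'
    · exact ⟨1, N.one_mem, by rw [hEq]; group⟩
    · have hne : π a' ≠ π a := fun h => hEq (hinjN a ha a' ha' h.symm)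
      have ho := hD2 (π a') (π a) (hπinv a' h3 (hNnotQ a' ha' h4))
        (hπinv a h1 (hNnotQ a ha h2)) hne
      have hpow : (a' * a) ^ (2 * k + 1) = 1 := by
        apply hNQ _ (N.pow_mem (N.mul_mem ha' ha) _)
        rw [← hπker, map_pow, map_mul, ← hk, ← ho]
        exact pow_orderOf_eq_one _
      obtain ⟨w, hw, m, hm⟩ := dq_conj_invol a' a h3 h1 k hpow
      exact ⟨w, by rw [hm]; exact N.pow_mem (N.mul_mem ha' ha) m, hw⟩
  -- G = Q N
  have hQN : ∀ g : G, ∃ q ∈ Q, ∃ n ∈ N, g = q * n := by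
    intro g
    obtain ⟨n, hn, hπn⟩ := hsurjN (π g)
    refine ⟨g * n⁻¹, ?_, n, hn, by group⟩
    rw [← hπker, map_mul, map_inv, hπn, mul_inv_cancel]
  -- key lemma
  have key : ∀ u v : G, u * u = 1 → v * v = 1 → orderOf (π u * π v) = r →
      ∃ q ∈ Q, q⁻¹ * u * q ∈ N ∧ q⁻¹ * v * q ∈ N := by
    intro u v hu hv ho
    have hui : u⁻¹ = u := inv_eq_of_mul_eq_one_right hu
    have hvi : v⁻¹ = v := inv_eq_of_mul_eq_one_right hv
    have hyrQ : (u * v) ^ r ∈ Q := by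
      rw [← hπker, map_pow, map_mul, ← ho]
      exact pow_orderOf_eq_one _
    obtain ⟨i, hi⟩ := hQ2 ⟨(u * v) ^ r, hyrQ⟩
    have hi' : ((u * v) ^ r) ^ (2 ^ i) = 1 := congrArg Subtype.val hi
    have hwr : ((u * v) ^ (2 ^ i)) ^ r = 1 := by
      rw [← pow_mul, mul_comm, pow_mul]; exact hi'
    have hw1 : (u * v) ^ (2 ^ i) ≠ 1 := by
      intro h
      have h1 : (π u * π v) ^ (2 ^ i) = 1 := by
        rw [← map_mul, ← map_pow, h, map_one]
      have h2 : r ∣ 2 ^ i := by rw [← ho]; exact orderOf_dvd_of_pow_eq_one h1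
      have h3 := Nat.le_of_dvd (by norm_num) (hrp.dvd_of_dvd_pow h2)
      omega
    have hword : orderOf ((u * v) ^ (2 ^ i)) = r := orderOf_eq_prime hwr hw1
    have hpg : IsPGroup r (Subgroup.zpowers ((u * v) ^ (2 ^ i))) :=
      ncv_zpowers_pgroup r _ 1 (by rw [pow_one]; exact hwr)
    obtain ⟨P', hP'⟩ := hpg.exists_le_sylow
    obtain ⟨g, rfl⟩ := MulAction.exists_smul_eq G R P'
    have hcj : ((g • R : Sylow r G) : Subgroup G) = fcCj g (R : Subgroup G) := by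
      ext x
      rw [fc_mem_cj, Cfsg.Agent.Lib.Helper5.mem_sylow_smul_iff]
    have hzeq : Subgroup.zpowers ((u * v) ^ (2 ^ i)) = ((g • R : Sylow r G) : Subgroup G) := by
      apply Subgroup.eq_of_le_of_card_ge hP'
      rw [hcj, fc_card_cj, hcardR, Nat.card_zpowers, hword]
    have hconjw : ∀ t : G, t⁻¹ = t → t * (u * v) * t⁻¹ = (u * v)⁻¹ →
        g⁻¹ * t * g ∈ N := by
      intro t hti ht
      rw [hN]
      apply ncv_mem_normalizer R
      intro x hx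
      rw [Cfsg.Agent.Lib.Helper5.mem_sylow_smul_iff] at hx
      have h1 : g * ((g⁻¹ * t * g)⁻¹ * x * (g⁻¹ * t * g)) * g⁻¹ ∈
          ((g • R : Sylow r G) : Subgroup G) := by
        rw [Cfsg.Agent.Lib.Helper5.mem_sylow_smul_iff]
        have e1 : g⁻¹ * (g * ((g⁻¹ * t * g)⁻¹ * x * (g⁻¹ * t * g)) * g⁻¹) * g =
            (g⁻¹ * t * g)⁻¹ * x * (g⁻¹ * t * g) := by group
        rw [e1]; exact hx
      rw [← hzeq] at h1
      obtain ⟨m, hm⟩ := Subgroup.mem_zpowers_iff.mp h1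
      have h2 : t * ((u * v) ^ (2 ^ i)) ^ m * t⁻¹ ∈ Subgroup.zpowers ((u * v) ^ (2 ^ i)) := by
        rw [← conj_zpow, ← conj_pow, ht, inv_pow, inv_zpow]
        exact Subgroup.inv_mem _ (Subgroup.zpow_mem _ (Subgroup.mem_zpowers _) m)
      rw [hzeq, Cfsg.Agent.Lib.Helper5.mem_sylow_smul_iff, hm] at h2
      have e2 : g⁻¹ * (t * (g * ((g⁻¹ * t * g)⁻¹ * x * (g⁻¹ * t * g)) * g⁻¹) * t⁻¹) * g = x := by
        group
      rwa [e2] at h2
    have hu' : g⁻¹ * u * g ∈ N := by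
      apply hconjw u hui
      rw [hui, mul_inv_rev, hui, hvi]
      calc u * (u * v) * u = (u * u) * v * u := by group
        _ = v * u := by rw [hu, one_mul]
    have hv' : g⁻¹ * v * g ∈ N := by
      apply hconjw v hvi
      rw [hvi, mul_inv_rev, hui, hvi]
      calc v * (u * v) * v = v * u * (v * v) := by group
        _ = v * u := by rw [hv, mul_one]
    obtain ⟨q, hq, n, hn, rfl⟩ := hQN g
    refine ⟨q, hq, ?_, ?_⟩
    · have e3 : q⁻¹ * u * q = n * ((q * n)⁻¹ * u * (q * n)) * n⁻¹ := by group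
      rw [e3]; exact N.mul_mem (N.mul_mem hn hu') (N.inv_mem hn)
    · have e3 : q⁻¹ * v * q = n * ((q * n)⁻¹ * v * (q * n)) * n⁻¹ := by group
      rw [e3]; exact N.mul_mem (N.mul_mem hn hv') (N.inv_mem hn)
  intro a haN ha2
  obtain ⟨haa, ha1⟩ := hsq a ha2
  have haQ : a ∉ Q := hNnotQ a haN ha1
  obtain ⟨s, s', hs, hs', hss'⟩ := hD4
  have hinvN : ∀ d : D, orderOf d = 2 → ∃ n ∈ N, π n = d ∧ n * n = 1 ∧ n ≠ 1 := by
    intro d hd
    obtain ⟨n, hn, rfl⟩ := hsurjN d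
    refine ⟨n, hn, rfl, ?_, ?_⟩
    · apply hNQ _ (N.mul_mem hn hn)
      rw [← hπker, map_mul, ← pow_two]
      have h1 := pow_orderOf_eq_one (π n)
      rwa [hd] at h1
    · intro h; rw [h, map_one, orderOf_one] at hd; omega
  have hother : ∀ d : D, ∃ n ∈ N, n * n = 1 ∧ n ≠ 1 ∧ π n ≠ d := by
    intro d
    by_cases h : s = d
    · obtain ⟨n, hn, hπn, h1, h2⟩ := hinvN s' hs'
      exact ⟨n, hn, h1, h2, by rw [hπn, ← h]; exact fun h' => hss' h'.symm⟩
    · obtain ⟨n, hn, hπn, h1, h2⟩ := hinvN s hs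
      exact ⟨n, hn, h1, h2, by rw [hπn]; exact h⟩
  constructor
  · intro b hb2 hbQ
    obtain ⟨hbb, hb1⟩ := hsq b hb2
    obtain ⟨a₁, ha₁N, ha₁sq, ha₁1, ha₁π⟩ := hother (π b)
    have ho := hD2 (π b) (π a₁) (hπinv b hbb hbQ) (hπinv a₁ ha₁sq (hNnotQ a₁ ha₁N ha₁1))
      (fun h => ha₁π h.symm)
    obtain ⟨q, hq, hbN, -⟩ := key b a₁ hbb ha₁sq ho
    have hb'sq : (q⁻¹ * b * q) * (q⁻¹ * b * q) = 1 := by
      calc (q⁻¹ * b * q) * (q⁻¹ * b * q) = q⁻¹ * (b * b) * q := by group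
        _ = 1 := by rw [hbb]; group
    have hb'1 : q⁻¹ * b * q ≠ 1 := by
      intro h
      apply hb1
      have e4 : b = q * (q⁻¹ * b * q) * q⁻¹ := by group
      rw [e4, h]; group
    obtain ⟨n, hn, hconj⟩ := hconjN a haN _ hbN haa ha1 hb'sq hb'1
    refine ⟨q * n, ?_⟩
    calc q * n * a * (q * n)⁻¹ = q * (n * a * n⁻¹) * q⁻¹ := by group
      _ = q * (q⁻¹ * b * q) * q⁻¹ := by rw [hconj]
      _ = b := by group
  · obtain ⟨a₁, ha₁N, ha₁sq, ha₁1, ha₁π⟩ := hother (π a)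
    obtain ⟨n₀, hn₀, hn₀c⟩ := hconjN a haN a₁ ha₁N haa ha1 ha₁sq ha₁1
    have hoa := hD2 (π a) (π a₁) (hπinv a haa haQ) (hπinv a₁ ha₁sq (hNnotQ a₁ ha₁N ha₁1))
      (fun h => ha₁π h.symm)
    have hπQ : ∀ q ∈ Q, π q = 1 := fun q hq => (hπker q).mpr hq
    -- trivial intersection
    have htriv : ∀ x ∈ Q, x * a = a * x → x * a₁ = a₁ * x → x = 1 := by
      intro x hxQ hxa hxa₁
      have hy₀N : a * a₁ ∈ N := N.mul_mem haN ha₁N
      have hy₀r : (a * a₁) ^ r = 1 := by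
        apply hNQ _ (N.pow_mem hy₀N _)
        rw [← hπker, map_pow, map_mul, ← hoa]
        exact pow_orderOf_eq_one _
      have hy₀1 : a * a₁ ≠ 1 := by
        intro h
        have h1 : π a * π a₁ = 1 := by rw [← map_mul, h, map_one]
        rw [h1, orderOf_one] at hoa
        omega
      have hzle : Subgroup.zpowers (a * a₁) ≤ (R : Subgroup G) := by
        apply ncv_le_sylow R _ (ncv_zpowers_pgroup r _ 1 (by rw [pow_one]; exact hy₀r))
        rw [Subgroup.zpowers_le, ← hN]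
        exact hy₀N
      have hzeq : Subgroup.zpowers (a * a₁) = (R : Subgroup G) := by
        apply Subgroup.eq_of_le_of_card_ge hzle
        rw [hcardR, Nat.card_zpowers, orderOf_eq_prime hy₀r hy₀1]
      have hxc : x ∈ Subgroup.centralizer ((R : Subgroup G) : Set G) := by
        rw [Subgroup.mem_centralizer_iff]
        intro z hz
        rw [← hzeq] at hz
        obtain ⟨m, rfl⟩ := Subgroup.mem_zpowers_iff.mp hz
        have hcomm : Commute x (a * a₁) := by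
          show x * (a * a₁) = a * a₁ * x
          rw [← mul_assoc, hxa, mul_assoc, hxa₁, mul_assoc]
        exact ((hcomm.zpow_right m).eq).symm
      have h5 : x ∈ Q ⊓ Subgroup.centralizer ((R : Subgroup G) : Set G) := ⟨hxQ, hxc⟩
      rw [hC] at h5
      exact Subgroup.mem_bot.mp h5
    -- decomposition
    have hdec : ∀ q ∈ Q, ∃ c ∈ Q, c * a = a * c ∧ ∃ c₁ ∈ Q, c₁ * a₁ = a₁ * c₁ ∧ q = c * c₁ := by
      intro q hq
      have hb₁sq : (q * a₁ * q⁻¹) * (q * a₁ * q⁻¹) = 1 := by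
        calc (q * a₁ * q⁻¹) * (q * a₁ * q⁻¹) = q * (a₁ * a₁) * q⁻¹ := by group
          _ = 1 := by rw [ha₁sq]; group
      have hπb₁ : π (q * a₁ * q⁻¹) = π a₁ := by
        rw [map_mul, map_mul, map_inv, hπQ q hq, one_mul, inv_one, mul_one]
      have ho' : orderOf (π a * π (q * a₁ * q⁻¹)) = r := by rw [hπb₁]; exact hoa
      obtain ⟨q₀, hq₀, h1, h2⟩ := key a (q * a₁ * q⁻¹) haa hb₁sq ho'
      have h3 : q₀⁻¹ * a * q₀ = a := by
        apply hinjN _ h1 _ haN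
        rw [map_mul, map_mul, map_inv, hπQ q₀ hq₀, inv_one, one_mul, mul_one]
      have h4 : q₀⁻¹ * (q * a₁ * q⁻¹) * q₀ = a₁ := by
        apply hinjN _ h2 _ ha₁N
        rw [map_mul, map_mul, map_inv, hπQ q₀ hq₀, inv_one, one_mul, mul_one, hπb₁]
      refine ⟨q₀, hq₀, ?_, q₀⁻¹ * q, Q.mul_mem (Q.inv_mem hq₀) hq, ?_, by group⟩
      · calc q₀ * a = q₀ * (q₀⁻¹ * a * q₀) := by rw [h3]
          _ = a * q₀ := by group
      · calc q₀⁻¹ * q * a₁ = (q₀⁻¹ * (q * a₁ * q⁻¹) * q₀) * (q₀⁻¹ * q) := by group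
          _ = a₁ * (q₀⁻¹ * q) := by rw [h4]
    -- counting
    have hmemC : ∀ c : G, c ∈ Q ⊓ Subgroup.centralizer ({a} : Set G) ↔ (c ∈ Q ∧ c * a = a * c) := by
      intro c
      constructor
      · rintro ⟨h1, h2⟩
        exact ⟨h1, (Subgroup.mem_centralizer_iff.mp h2 a rfl).symm⟩
      · rintro ⟨h1, h2⟩
        refine ⟨h1, Subgroup.mem_centralizer_iff.mpr ?_⟩
        intro z hz
        rw [Set.mem_singleton_iff] at hz
        rw [hz]; exact h2.symm
    have hn₀Q : ∀ c ∈ Q, n₀ * c * n₀⁻¹ ∈ Q := fun c hc =>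
      Subgroup.Normal.conj_mem inferInstance c hc n₀
    have hbij : Function.Bijective
        (fun p : ↥(Q ⊓ Subgroup.centralizer ({a} : Set G)) ×
            ↥(Q ⊓ Subgroup.centralizer ({a} : Set G)) =>
          (⟨(p.1 : G) * (n₀ * (p.2 : G) * n₀⁻¹),
            Q.mul_mem p.1.2.1 (hn₀Q _ p.2.2.1)⟩ : Q)) := by
      constructor
      · rintro ⟨⟨c, hc⟩, ⟨c', hc'⟩⟩ ⟨⟨d, hd⟩, ⟨d', hd'⟩⟩ h
        have h0 : c * (n₀ * c' * n₀⁻¹) = d * (n₀ * d' * n₀⁻¹) := congrArg Subtype.val h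
        obtain ⟨hcQ, hca⟩ := (hmemC c).mp hc
        obtain ⟨hc'Q, hc'a⟩ := (hmemC c').mp hc'
        obtain ⟨hdQ, hda⟩ := (hmemC d).mp hd
        obtain ⟨hd'Q, hd'a⟩ := (hmemC d').mp hd'
        have hx : d⁻¹ * c = n₀ * (d' * c'⁻¹) * n₀⁻¹ := by
          calc d⁻¹ * c = d⁻¹ * (c * (n₀ * c' * n₀⁻¹)) * (n₀ * c'⁻¹ * n₀⁻¹) := by group
            _ = d⁻¹ * (d * (n₀ * d' * n₀⁻¹)) * (n₀ * c'⁻¹ * n₀⁻¹) := by rw [h0]
            _ = n₀ * (d' * c'⁻¹) * n₀⁻¹ := by group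
        have hxa : d⁻¹ * c * a = a * (d⁻¹ * c) := by
          calc d⁻¹ * c * a = d⁻¹ * (c * a) := by group
            _ = d⁻¹ * (a * c) := by rw [hca]
            _ = d⁻¹ * (a * d) * (d⁻¹ * c) := by group
            _ = d⁻¹ * (d * a) * (d⁻¹ * c) := by rw [hda]
            _ = a * (d⁻¹ * c) := by group
        have hya : d' * c'⁻¹ * a = a * (d' * c'⁻¹) := by
          calc d' * c'⁻¹ * a = d' * (c'⁻¹ * (a * c') * c'⁻¹) := by group
            _ = d' * (c'⁻¹ * (c' * a) * c'⁻¹) := by rw [hc'a]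
            _ = (d' * a) * c'⁻¹ := by group
            _ = (a * d') * c'⁻¹ := by rw [hd'a]
            _ = a * (d' * c'⁻¹) := by group
        have hxa₁ : d⁻¹ * c * a₁ = a₁ * (d⁻¹ * c) := by
          rw [hx, ← hn₀c]
          calc n₀ * (d' * c'⁻¹) * n₀⁻¹ * (n₀ * a * n₀⁻¹) = n₀ * (d' * c'⁻¹ * a) * n₀⁻¹ := by group
            _ = n₀ * (a * (d' * c'⁻¹)) * n₀⁻¹ := by rw [hya]
            _ = n₀ * a * n₀⁻¹ * (n₀ * (d' * c'⁻¹) * n₀⁻¹) := by group
        have h1 := htriv (d⁻¹ * c) (Q.mul_mem (Q.inv_mem hdQ) hcQ) hxa hxa₁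
        have hcd : c = d := by
          have := inv_mul_eq_one.mp h1
          exact this.symm
        have hc'd' : c' = d' := by
          rw [h1] at hx
          have h2 : d' * c'⁻¹ = 1 := by
            calc d' * c'⁻¹ = n₀⁻¹ * (n₀ * (d' * c'⁻¹) * n₀⁻¹) * n₀ := by group
              _ = n₀⁻¹ * 1 * n₀ := by rw [← hx]
              _ = 1 := by group
          have := mul_inv_eq_one.mp h2
          exact this.symm
        subst hcd; subst hc'd'; rfl
      · rintro ⟨q, hq⟩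
        obtain ⟨c, hcQ, hca, c₁, hc₁Q, hc₁a, rfl⟩ := hdec q hq
        have hc' : n₀⁻¹ * c₁ * n₀ ∈ Q ⊓ Subgroup.centralizer ({a} : Set G) := by
          rw [hmemC]
          refine ⟨?_, ?_⟩
          · have := Subgroup.Normal.conj_mem (inferInstance : Q.Normal) c₁ hc₁Q n₀⁻¹
            rwa [inv_inv] at this
          · calc n₀⁻¹ * c₁ * n₀ * a = n₀⁻¹ * (c₁ * (n₀ * a * n₀⁻¹)) * n₀ := by group
              _ = n₀⁻¹ * (c₁ * a₁) * n₀ := by rw [hn₀c]
              _ = n₀⁻¹ * (a₁ * c₁) * n₀ := by rw [hc₁a]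
              _ = n₀⁻¹ * ((n₀ * a * n₀⁻¹) * c₁) * n₀ := by rw [hn₀c]
              _ = a * (n₀⁻¹ * c₁ * n₀) := by group
        refine ⟨(⟨c, (hmemC c).mpr ⟨hcQ, hca⟩⟩, ⟨n₀⁻¹ * c₁ * n₀, hc'⟩), ?_⟩
        apply Subtype.ext
        show c * (n₀ * (n₀⁻¹ * c₁ * n₀) * n₀⁻¹) = c * c₁
        group
    have hcard := Nat.card_congr (Equiv.ofBijective _ hbij)
    rw [Nat.card_prod] at hcard
    rw [pow_two]; exact hcard

theorem dq_dih_hD2 {r : ℕ} [Fact r.Prime] (hr : r ≠ 2) :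
    ∀ s s' : DihedralGroup r, orderOf s = 2 → orderOf s' = 2 → s ≠ s' → orderOf (s * s') = r := by
  have hrp := (Fact.out : r.Prime)
  haveI : NeZero r := ⟨hrp.ne_zero⟩
  have key : ∀ i : ZMod r, orderOf (DihedralGroup.r i) ≠ 2 := by
    intro i h
    rw [DihedralGroup.orderOf_r] at h
    rcases (Nat.dvd_prime hrp).mp (Nat.gcd_dvd_left r i.val) with h1 | h1
    · rw [h1, Nat.div_one] at h; exact hr h
    · rw [h1, Nat.div_self hrp.pos] at h; omega
  intro s s' hs hs' hne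
  cases s with
  | r i => exact absurd hs (key i)
  | sr i =>
    cases s' with
    | r j => exact absurd hs' (key j)
    | sr j =>
      have hij : j - i ≠ 0 := by
        intro h
        apply hne
        rw [sub_eq_zero] at h
        rw [h]
      rw [DihedralGroup.sr_mul_sr, DihedralGroup.orderOf_r]
      have hcop : Nat.gcd r (j - i).val = 1 := by
        apply (Nat.Prime.coprime_iff_not_dvd hrp).mpr
        intro hdvd
        have hlt := ZMod.val_lt (j - i)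
        have hpos : 0 < (j - i).val := by
          rw [Nat.pos_iff_ne_zero]; intro h0; exact hij ((ZMod.val_eq_zero _).mp h0)
        exact absurd (Nat.le_of_dvd hpos hdvd) (by omega)
      rw [hcop, Nat.div_one]

theorem dq_dih_hD4 {r : ℕ} [Fact r.Prime] :
    ∃ s s' : DihedralGroup r, orderOf s = 2 ∧ orderOf s' = 2 ∧ s ≠ s' := by
  have hrp := (Fact.out : r.Prime)
  haveI : Fact (1 < r) := ⟨hrp.one_lt⟩
  refine ⟨DihedralGroup.sr 0, DihedralGroup.sr 1, DihedralGroup.orderOf_sr 0,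
    DihedralGroup.orderOf_sr 1, ?_⟩
  intro h
  injection h with h
  exact zero_ne_one h

end DQ

end Cfsg.Agent.Lib.Helper1
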