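import Mathlib
import Cfsg.Agent.Lib.Helper1.GT6
import Cfsg.Agent.Lib.Helper1.EN1

/-!
# The action of `G / H` on an `H`-central elementary abelian section and Engel elements
(helper1)
-/

set_option autoImplicit false
open scoped commutatorElement

namespace Cfsg.Agent.Lib.Helper1

theorem iterCommutator_mono {G : Type*} [Group G] (U : Subgroup G) {A B : Subgroup G}
    (h : A ≤ B) (k : ℕ) : Cfsg.iterCommutator U A k ≤ Cfsg.iterCommutator U B k := by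
  induction k with
  | zero => exact le_rfl
  | succ k ih => exact Subgroup.commutator_mono ih h

theorem sec_act_engel {G : Type*} [Group G] [Finite G] {p : ℕ} [Fact p.Prime]
    (H : Subgroup G) [hHn : H.Normal] (Lb : Subgroup (G ⧸ H)) [hLn : Lb.Normal]
    (hLc : (Nat.card Lb).Coprime p) (hLab : ∀ a ∈ Lb, ∀ b ∈ Lb, a * b = b * a)
    (a : G) (hap : a ^ p ∈ H)
    (U W : Subgroup G) [hUn : U.Normal] [hWn : W.Normal] (hUH : U ≤ H)
    (hUHW : ⁅U, H⁆ ≤ W) (hUp : ∀ u ∈ U, u ^ p ∈ W)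
    (hE : Cfsg.iterCommutator U (Subgroup.zpowers a) (p - 1) ≤ W)
    (y : G) (hy : (QuotientGroup.mk' H) y ∈ Lb) (u : G) (hu : u ∈ U) :
    (a * y * a⁻¹ * y⁻¹) * u * (a * y * a⁻¹ * y⁻¹)⁻¹ * u⁻¹ ∈ W := by
  classical
  obtain ⟨πW, hπW⟩ : ∃ πW : G →* G ⧸ W, πW = QuotientGroup.mk' W := ⟨_, rfl⟩
  have hπWk : ∀ x : G, πW x = 1 ↔ x ∈ W := by
    intro x; rw [hπW]; exact QuotientGroup.eq_one_iff x
  have hπWs : Function.Surjective πW := by rw [hπW]; exact QuotientGroup.mk'_surjective _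
  obtain ⟨πH, hπH⟩ : ∃ πH : G →* G ⧸ H, πH = QuotientGroup.mk' H := ⟨_, rfl⟩
  have hπHk : ∀ x : G, πH x = 1 ↔ x ∈ H := by
    intro x; rw [hπH]; exact QuotientGroup.eq_one_iff x
  rw [← hπH] at hy
  obtain ⟨Ub, hUb⟩ : ∃ Ub : Subgroup (G ⧸ W), Ub = U.map πW := ⟨_, rfl⟩
  haveI hUbn : Ub.Normal := by rw [hUb]; exact hUn.map πW hπWs
  have hUbmem : ∀ v : ↥Ub, ∃ u ∈ U, πW u = (v : G ⧸ W) := by
    intro v; exact Subgroup.mem_map.mp (hUb.le v.2)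
  have hcommU : ∀ u ∈ U, ∀ v ∈ U, πW u * πW v = πW v * πW u := by
    intro u hu v hv
    have h1 : ⁅u, v⁆ ∈ W := hUHW (Subgroup.commutator_mem_commutator hu (hUH hv))
    have h2 : πW ⁅u, v⁆ = 1 := (hπWk _).mpr h1
    rw [commutatorElement_def, map_mul, map_mul, map_mul, map_inv, map_inv] at h2
    calc πW u * πW v = (πW u * πW v * (πW u)⁻¹ * (πW v)⁻¹) * (πW v * πW u) := by group
      _ = πW v * πW u := by rw [h2, one_mul]
  let φ₁ : G →* MulAut ↥Ub := (MulAut.conjNormal (H := Ub)).comp πW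
  have hφ₁ : ∀ (g : G) (v : ↥Ub),
      ((φ₁ g v : ↥Ub) : G ⧸ W) = πW g * (v : G ⧸ W) * (πW g)⁻¹ := fun g v => rfl
  have hker : ∀ h ∈ H, φ₁ h = 1 := by
    intro h hh
    apply MulEquiv.ext
    intro v
    apply Subtype.ext
    rw [hφ₁, MulAut.one_apply]
    obtain ⟨u, hu, huv⟩ := hUbmem v
    rw [← huv, ← map_inv, ← map_mul, ← map_mul]
    have h1 : ⁅u, h⁆ ∈ W := hUHW (Subgroup.commutator_mem_commutator hu hh)
    have h2 : h * u * h⁻¹ = (⁅u, h⁆)⁻¹ * u := by rw [commutatorElement_def]; group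
    rw [h2, map_mul, (hπWk _).mpr (W.inv_mem h1), one_mul]
  let φ : G ⧸ H →* MulAut ↥Ub := QuotientGroup.lift H φ₁ hker
  have hφ : ∀ g : G, φ (πH g) = φ₁ g := by intro g; rw [hπH]; rfl
  have hAc : ∀ v w : ↥Ub, v * w = w * v := by
    intro v w
    obtain ⟨u, hu, huv⟩ := hUbmem v
    obtain ⟨u', hu', huw⟩ := hUbmem w
    apply Subtype.ext
    rw [Subgroup.coe_mul, Subgroup.coe_mul, ← huv, ← huw]
    exact hcommU u hu u' hu'
  have hAp : ∀ v : ↥Ub, v ^ p = 1 := by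
    intro v
    obtain ⟨u, hu, huv⟩ := hUbmem v
    apply Subtype.ext
    rw [Subgroup.coe_pow, ← huv, ← map_pow]
    exact (hπWk _).mpr (hUp u hu)
  have hNc : ∀ m n : ↥Lb, m * n = n * m := by
    intro m n; exact Subtype.ext (hLab m m.2 n n.2)
  let α : MulAut ↥Lb := MulAut.conjNormal (H := Lb) (πH a)
  have hα : α ^ p = 1 := by
    show (MulAut.conjNormal (H := Lb) (πH a)) ^ p = 1
    rw [← map_pow, ← map_pow, (hπHk _).mpr hap, map_one]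
  have hαc : ∀ n : ↥Lb, ((α n : ↥Lb) : G ⧸ H) = πH a * (n : G ⧸ H) * (πH a)⁻¹ := fun n => rfl
  let ρ : ↥Lb →* MulAut ↥Ub := φ.comp Lb.subtype
  have hρ : ∀ n : ↥Lb, ρ n = φ (n : G ⧸ H) := fun n => rfl
  let ξ : MulAut ↥Ub := φ₁ a
  have hξ : ξ = φ (πH a) := (hφ a).symm
  have hξc : ∀ v : ↥Ub, ((ξ v : ↥Ub) : G ⧸ W) = πW a * (v : G ⧸ W) * (πW a)⁻¹ := fun v => rfl
  have hcomp : ∀ (n : ↥Lb) (v : ↥Ub), ξ (ρ n v) = ρ (α n) (ξ v) := by
    intro n v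
    rw [hξ, hρ, hρ, ← MulAut.mul_apply, ← MulAut.mul_apply, ← map_mul, ← map_mul, hαc]
    congr 2
    group
  have hiter : ∀ (k : ℕ) (v : ↥Ub), ∃ c ∈ Cfsg.iterCommutator U (Subgroup.zpowers a) k,
      (((fun v : ↥Ub => ξ v * v⁻¹)^[k] v : ↥Ub) : G ⧸ W) = πW c := by
    intro k
    induction k with
    | zero =>
      intro v
      obtain ⟨u, hu, huv⟩ := hUbmem v
      exact ⟨u, hu, huv.symm⟩
    | succ k ih =>
      intro v
      obtain ⟨c, hc, hcv⟩ := ih v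
      refine ⟨a * c * a⁻¹ * c⁻¹, ?_, ?_⟩
      · have h1 : ⁅c, a⁆ ∈ ⁅Cfsg.iterCommutator U (Subgroup.zpowers a) k, Subgroup.zpowers a⁆ :=
          Subgroup.commutator_mem_commutator hc (Subgroup.mem_zpowers a)
        have h2 : a * c * a⁻¹ * c⁻¹ = (⁅c, a⁆)⁻¹ := by rw [commutatorElement_def]; group
        rw [h2]
        exact Subgroup.inv_mem _ h1
      · rw [Function.iterate_succ_apply']
        rw [Subgroup.coe_mul, Subgroup.coe_inv, hξc, hcv]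
        simp only [map_mul, map_inv]
  have hE' : ∀ v : ↥Ub, (fun v : ↥Ub => ξ v * v⁻¹)^[p - 1] v = 1 := by
    intro v
    obtain ⟨c, hc, hcv⟩ := hiter (p - 1) v
    apply Subtype.ext
    rw [hcv, Subgroup.coe_one]
    exact (hπWk c).mpr (hE hc)
  have key := engel_frob hNc hAc hLc hAp α hα ρ ξ hcomp hE' ⟨πH y, hy⟩
    ⟨πW u, by rw [hUb]; exact ⟨u, hu, rfl⟩⟩
  have hz : ρ (α ⟨πH y, hy⟩ * (⟨πH y, hy⟩ : ↥Lb)⁻¹) = φ₁ (a * y * a⁻¹ * y⁻¹) := by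
    rw [hρ, ← hφ]
    congr 1
    rw [Subgroup.coe_mul, hαc, Subgroup.coe_inv]
    simp only [map_mul, map_inv]
  rw [hz] at key
  have key' := congrArg Subtype.val key
  rw [hφ₁] at key'
  simp only at key'
  have e : πW ((a * y * a⁻¹ * y⁻¹) * u * (a * y * a⁻¹ * y⁻¹)⁻¹ * u⁻¹) =
      (πW (a * y * a⁻¹ * y⁻¹) * πW u * (πW (a * y * a⁻¹ * y⁻¹))⁻¹) * (πW u)⁻¹ := by
    simp only [map_mul, map_inv]
  rw [← hπWk, e, key', mul_inv_cancel]

end Cfsg.Agent.Lib.Helper1
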