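import Mathlib
import Cfsg.Agent.Lib.Lead.Nilpotent

set_option autoImplicit false

namespace Cfsg.Agent.Lib.Helper1

open scoped commutatorElement

theorem es_comm_mul {G : Type*} [Group G] (s s' t : G)
    (hc : ∀ g : G, g * ⁅s', t⁆ = ⁅s', t⁆ * g) : ⁅s * s', t⁆ = ⁅s, t⁆ * ⁅s', t⁆ := by
  obtain ⟨w, hw⟩ : ∃ w, w = ⁅s', t⁆ := ⟨_, rfl⟩
  rw [← hw] at hc ⊢
  have e1 : s' * t * s'⁻¹ = w * t := by rw [hw, commutatorElement_def]; group
  rw [commutatorElement_def, commutatorElement_def]
  calc s * s' * t * (s * s')⁻¹ * t⁻¹ = s * (s' * t * s'⁻¹) * s⁻¹ * t⁻¹ := by group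
    _ = s * (w * t) * s⁻¹ * t⁻¹ := by rw [e1]
    _ = (s * w) * t * s⁻¹ * t⁻¹ := by group
    _ = (w * s) * t * s⁻¹ * t⁻¹ := by rw [hc s]
    _ = w * (s * t * s⁻¹ * t⁻¹) := by group
    _ = (s * t * s⁻¹ * t⁻¹) * w := (hc _).symm

theorem es_abelian_index_imp {S : Type*} [Group S] [Finite S] (p : ℕ) [Fact p.Prime] (n : ℕ)
    (Q : Subgroup S) (hcomm : commutator Q = Subgroup.center Q)
    (hZ : Nat.card (Subgroup.center Q) = p)
    (hQcard : Nat.card Q = p ^ (2 * n + 1)) (hn1 : 1 ≤ n) (hScard : Nat.card S = p ^ (2 + 2 * n))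
    (A : Subgroup S) (hA : IsMulCommutative A) (hAi : A.index = p) : n = 1 := by
  classical
  have hp : p.Prime := Fact.out
  haveI hAn : A.Normal := by
    apply Subgroup.normal_of_index_eq_minFac_card
    rw [hAi, hScard, hp.pow_minFac (by omega)]
  have hBidx : (A.subgroupOf Q).index ∣ p := by
    have h0 := Subgroup.relIndex_dvd_index_of_normal (H := A) (K := Q)
    rw [hAi] at h0; exact h0
  have hBcomm : ∀ a b : Q, a ∈ A.subgroupOf Q → b ∈ A.subgroupOf Q → a * b = b * a := by
    intro a b ha hb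
    haveI := hA
    have h1 := mul_comm' (⟨(a : S), Subgroup.mem_subgroupOf.mp ha⟩ : A)
      ⟨(b : S), Subgroup.mem_subgroupOf.mp hb⟩
    apply Subtype.ext
    have h2 : (a : S) * (b : S) = (b : S) * (a : S) := congrArg Subtype.val h1
    exact h2
  have hBne : (A.subgroupOf Q) ≠ ⊤ := by
    intro htop
    have hc : Subgroup.center Q = ⊤ := by
      rw [eq_top_iff]
      intro z _
      rw [Subgroup.mem_center_iff]
      intro g
      exact hBcomm g z (by rw [htop]; exact Subgroup.mem_top _)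
        (by rw [htop]; exact Subgroup.mem_top _)
    rw [hc, Subgroup.card_top, hQcard] at hZ
    have h2 : p ^ (2 * n + 1) = p ^ 1 := by rw [hZ, pow_one]
    have h3 := Nat.pow_right_injective hp.two_le h2
    omega
  have hBidx' : (A.subgroupOf Q).index = p := by
    rcases (Nat.dvd_prime hp).mp hBidx with h | h
    · exact absurd (Subgroup.index_eq_one.mp h) hBne
    · exact h
  have hBcard : Nat.card (A.subgroupOf Q) = p ^ (2 * n) := by
    have h1 := Subgroup.index_mul_card (A.subgroupOf Q)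
    rw [hBidx', hQcard, pow_succ'] at h1
    exact Nat.eq_of_mul_eq_mul_left hp.pos h1
  obtain ⟨c, hc⟩ : ∃ c : Q, c ∉ A.subgroupOf Q := by
    by_contra hno
    push Not at hno
    exact hBne (eq_top_iff.mpr (fun x _ => hno x))
  have hmem : ∀ q : Q, ⁅q, c⁆ ∈ Subgroup.center Q := by
    intro q
    rw [← hcomm]
    exact Subgroup.commutator_mem_commutator (Subgroup.mem_top q) (Subgroup.mem_top c)
  let φ : Q →* Subgroup.center Q :=
    { toFun := fun q => ⟨⁅q, c⁆, hmem q⟩
      map_one' := by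
        apply Subtype.ext
        show ⁅(1 : Q), c⁆ = 1
        simp [commutatorElement_def]
      map_mul' := by
        intro s s'
        apply Subtype.ext
        show ⁅s * s', c⁆ = ⁅s, c⁆ * ⁅s', c⁆
        exact es_comm_mul s s' c (fun g => (Subgroup.mem_center_iff.mp (hmem s') g)) }
  have hker : ∀ q : Q, q ∈ φ.ker ↔ q * c = c * q := by
    intro q
    rw [MonoidHom.mem_ker]
    constructor
    · intro h
      have h1 : ⁅q, c⁆ = 1 := congrArg Subtype.val h
      exact commutatorElement_eq_one_iff_mul_comm.mp h1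
    · intro h
      apply Subtype.ext
      exact commutatorElement_eq_one_iff_mul_comm.mpr h
  have hCidx : φ.ker.index ∣ p := by
    rw [Subgroup.index_ker, ← hZ]
    exact Subgroup.card_subgroup_dvd_card φ.range
  have hrel : φ.ker.relIndex (A.subgroupOf Q) ∣ p :=
    dvd_trans (Subgroup.relIndex_dvd_index_of_normal (H := φ.ker) (K := A.subgroupOf Q)) hCidx
  have hcen : ∀ d : A.subgroupOf Q, d ∈ φ.ker.subgroupOf (A.subgroupOf Q) →
      (d : Q) ∈ Subgroup.center Q := by
    intro d hd
    have hdc : (d : Q) * c = c * (d : Q) := (hker d).mp (Subgroup.mem_subgroupOf.mp hd)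
    have hK : Subgroup.centralizer ({(d : Q)} : Set Q) = ⊤ := by
      have hle : A.subgroupOf Q ≤ Subgroup.centralizer ({(d : Q)} : Set Q) := by
        intro b hb
        rw [Subgroup.mem_centralizer_iff]
        intro h hh
        rw [Set.mem_singleton_iff] at hh
        rw [hh]
        exact hBcomm _ _ d.2 hb
      have hcK : c ∈ Subgroup.centralizer ({(d : Q)} : Set Q) := by
        rw [Subgroup.mem_centralizer_iff]
        intro h hh
        rw [Set.mem_singleton_iff] at hh
        rw [hh]; exact hdc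
      have h1 := Subgroup.relIndex_mul_index hle
      rw [hBidx'] at h1
      have h2 : (Subgroup.centralizer ({(d : Q)} : Set Q)).index ∣ p :=
        ⟨_, by rw [mul_comm]; exact h1.symm⟩
      rcases (Nat.dvd_prime hp).mp h2 with h | h
      · exact Subgroup.index_eq_one.mp h
      · exfalso
        rw [h] at h1
        have h3 : (A.subgroupOf Q).relIndex (Subgroup.centralizer ({(d : Q)} : Set Q)) = 1 := by
          have h4 : (A.subgroupOf Q).relIndex (Subgroup.centralizer ({(d : Q)} : Set Q)) * p =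
              1 * p := by rw [h1, one_mul]
          exact Nat.eq_of_mul_eq_mul_right hp.pos h4
        exact hc (Subgroup.relIndex_eq_one.mp h3 hcK)
    rw [Subgroup.mem_center_iff]
    intro g
    have hg : g ∈ Subgroup.centralizer ({(d : Q)} : Set Q) := by rw [hK]; exact Subgroup.mem_top g
    exact (Subgroup.mem_centralizer_iff.mp hg (d : Q) rfl).symm
  have hDcard : Nat.card (φ.ker.subgroupOf (A.subgroupOf Q)) ≤ p := by
    rw [← hZ]
    apply Nat.card_le_card_of_injective
      (fun d : φ.ker.subgroupOf (A.subgroupOf Q) =>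
        (⟨((d : A.subgroupOf Q) : Q), hcen d.1 d.2⟩ : Subgroup.center Q))
    intro d d' h
    apply Subtype.ext
    apply Subtype.ext
    have h2 : ((d : A.subgroupOf Q) : Q) = ((d' : A.subgroupOf Q) : Q) :=
      congrArg (fun z : Subgroup.center Q => (z : Q)) h
    exact h2
  have h5 : Nat.card (φ.ker.subgroupOf (A.subgroupOf Q)) * φ.ker.relIndex (A.subgroupOf Q) =
      Nat.card (A.subgroupOf Q) := Subgroup.card_mul_index (φ.ker.subgroupOf (A.subgroupOf Q))
  have h6 : φ.ker.relIndex (A.subgroupOf Q) ≤ p := Nat.le_of_dvd hp.pos hrel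
  have h7 : Nat.card (A.subgroupOf Q) ≤ p * p := by
    rw [← h5]; exact Nat.mul_le_mul hDcard h6
  rw [hBcard, ← pow_two] at h7
  have h8 : 2 * n ≤ 2 := (Nat.pow_le_pow_iff_right hp.one_lt).mp h7
  omega

theorem es_abelian_index_of {S : Type*} [Group S] [Finite S] (p : ℕ) [Fact p.Prime]
    (hS : IsPGroup p S) (Q : Subgroup S) [Q.Normal]
    (hZ : Nat.card (Subgroup.center Q) = p) (hQcard : Nat.card Q = p ^ 3)
    (hScard : Nat.card S = p ^ 4) : ∃ A : Subgroup S, IsMulCommutative A ∧ A.index = p := by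
  classical
  have hp : p.Prime := Fact.out
  haveI : Group.IsNilpotent S := hS.isNilpotent
  obtain ⟨Z, hZdef⟩ : ∃ Z : Subgroup S, Z = (Subgroup.center Q).map Q.subtype := ⟨_, rfl⟩
  have hZcard : Nat.card Z = p := by
    rw [hZdef, ← hZ]
    exact (Nat.card_congr ((Subgroup.center Q).equivMapOfInjective Q.subtype
      (Subgroup.subtype_injective Q)).toEquiv).symm
  have hZmem : ∀ z : S, z ∈ Z ↔ ∃ hz : z ∈ Q, ∀ q : Q, q * ⟨z, hz⟩ = ⟨z, hz⟩ * q := by
    intro z
    rw [hZdef]
    constructor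
    · rintro ⟨z', hz', rfl⟩
      exact ⟨z'.2, fun q => Subgroup.mem_center_iff.mp hz' q⟩
    · rintro ⟨hz, h⟩
      exact ⟨⟨z, hz⟩, Subgroup.mem_center_iff.mpr h, rfl⟩
  haveI hZn : Z.Normal := by
    constructor
    intro z hz s
    obtain ⟨hzQ, hzc⟩ := (hZmem z).mp hz
    have hconj : s * z * s⁻¹ ∈ Q := ‹Q.Normal›.conj_mem z hzQ s
    refine (hZmem _).mpr ⟨hconj, fun q => ?_⟩
    apply Subtype.ext
    show (q : S) * (s * z * s⁻¹) = s * z * s⁻¹ * (q : S)
    have hq' : s⁻¹ * (q : S) * s ∈ Q := by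
      have h0 := ‹Q.Normal›.conj_mem (q : S) q.2 s⁻¹
      simpa using h0
    have h1 : s⁻¹ * (q : S) * s * z = z * (s⁻¹ * (q : S) * s) :=
      congrArg Subtype.val (hzc ⟨s⁻¹ * (q : S) * s, hq'⟩)
    calc (q : S) * (s * z * s⁻¹) = s * (s⁻¹ * (q : S) * s * z) * s⁻¹ := by group
      _ = s * (z * (s⁻¹ * (q : S) * s)) * s⁻¹ := by rw [h1]
      _ = s * z * s⁻¹ * (q : S) := by group
  have hZne : Z ≠ ⊥ := by
    intro h
    rw [h, Subgroup.card_bot] at hZcard
    exact hp.one_lt.ne hZcard
  have hZcen : Z ≤ Subgroup.center S := by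
    have h1 := Cfsg.Agent.Lib.Lead.normal_inf_center_ne_bot Z hZne
    have h2 : Z ⊓ Subgroup.center S = Z := by
      apply Subgroup.eq_of_le_of_card_ge inf_le_left
      have h3 : Nat.card (Z ⊓ Subgroup.center S : Subgroup S) ∣ p :=
        hZcard ▸ Subgroup.card_dvd_of_le inf_le_left
      rcases (Nat.dvd_prime hp).mp h3 with h | h
      · exact absurd (Subgroup.card_eq_one.mp h) h1
      · rw [h, hZcard]
    rw [← h2]; exact inf_le_right
  have hQbar_ne : Q.map (QuotientGroup.mk' Z) ≠ ⊥ := by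
    intro h
    have hle : Q ≤ Z := by
      intro q hq
      have h1 : QuotientGroup.mk' Z q ∈ Q.map (QuotientGroup.mk' Z) :=
        Subgroup.mem_map_of_mem _ hq
      rw [h, Subgroup.mem_bot] at h1
      exact (QuotientGroup.eq_one_iff q).mp h1
    have h2 := Subgroup.card_le_of_le hle
    rw [hQcard, hZcard] at h2
    have h3 : p ^ 1 < p ^ 3 := Nat.pow_lt_pow_right hp.one_lt (by norm_num)
    rw [pow_one] at h3; omega
  haveI : Group.IsNilpotent (S ⧸ Z) := (hS.to_quotient Z).isNilpotent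
  haveI : (Q.map (QuotientGroup.mk' Z)).Normal :=
    Subgroup.Normal.map ‹Q.Normal› _ (QuotientGroup.mk'_surjective Z)
  have h1 := Cfsg.Agent.Lib.Lead.normal_inf_center_ne_bot (Q.map (QuotientGroup.mk' Z)) hQbar_ne
  obtain ⟨⟨tb, htbmem⟩, hne⟩ := (Subgroup.ne_bot_iff_exists_ne_one).mp h1
  obtain ⟨⟨t, htQ, rfl⟩, htcen⟩ := htbmem
  have htZ : t ∉ Z := by
    intro h
    apply hne
    apply Subtype.ext
    exact (QuotientGroup.eq_one_iff t).mpr h
  have hcomZ : ∀ s : S, ⁅s, t⁆ ∈ Z := by
    intro s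
    apply (QuotientGroup.eq_one_iff _).mp
    show QuotientGroup.mk' Z ⁅s, t⁆ = 1
    rw [commutatorElement_def, map_mul, map_mul, map_mul, map_inv, map_inv, mul_inv_eq_one,
      mul_inv_eq_iff_eq_mul]
    exact Subgroup.mem_center_iff.mp htcen (QuotientGroup.mk' Z s)
  let φ : S →* Z :=
    { toFun := fun s => ⟨⁅s, t⁆, hcomZ s⟩
      map_one' := by
        apply Subtype.ext
        show ⁅(1 : S), t⁆ = 1
        simp [commutatorElement_def]
      map_mul' := by
        intro s s'
        apply Subtype.ext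
        show ⁅s * s', t⁆ = ⁅s, t⁆ * ⁅s', t⁆
        exact es_comm_mul s s' t (fun g => Subgroup.mem_center_iff.mp (hZcen (hcomZ s')) g) }
  have hker : ∀ s : S, s ∈ φ.ker ↔ s * t = t * s := by
    intro s
    rw [MonoidHom.mem_ker]
    constructor
    · intro h
      have h1 : ⁅s, t⁆ = 1 := congrArg Subtype.val h
      exact commutatorElement_eq_one_iff_mul_comm.mp h1
    · intro h
      apply Subtype.ext
      exact commutatorElement_eq_one_iff_mul_comm.mpr h
  have hCidx : φ.ker.index = p := by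
    have h2 : φ.ker.index ∣ p := by
      rw [Subgroup.index_ker, ← hZcard]; exact Subgroup.card_subgroup_dvd_card φ.range
    rcases (Nat.dvd_prime hp).mp h2 with h | h
    · exfalso
      have htop := Subgroup.index_eq_one.mp h
      apply htZ
      refine (hZmem t).mpr ⟨htQ, fun q => ?_⟩
      apply Subtype.ext
      show (q : S) * t = t * (q : S)
      exact (hker (q : S)).mp (by rw [htop]; exact Subgroup.mem_top _)
    · exact h
  refine ⟨φ.ker, ?_, hCidx⟩
  have hCcard : Nat.card φ.ker = p ^ 3 := by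
    have h3 := Subgroup.index_mul_card φ.ker
    rw [hCidx, hScard, show p ^ 4 = p * p ^ 3 from pow_succ' p 3] at h3
    exact Nat.eq_of_mul_eq_mul_left hp.pos h3
  have htC : t ∈ φ.ker := (hker t).mpr rfl
  have hZC : Z ≤ φ.ker := by
    intro z hz
    rw [hker]
    exact (Subgroup.mem_center_iff.mp (hZcen hz) t).symm
  have hZ'le : Z.subgroupOf φ.ker ≤ Subgroup.center φ.ker := by
    intro z hz
    rw [Subgroup.mem_center_iff]
    intro g
    apply Subtype.ext
    exact Subgroup.mem_center_iff.mp (hZcen (Subgroup.mem_subgroupOf.mp hz)) (g : S)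
  have htcen' : (⟨t, htC⟩ : φ.ker) ∈ Subgroup.center φ.ker := by
    rw [Subgroup.mem_center_iff]
    intro g
    apply Subtype.ext
    exact (hker (g : S)).mp g.2
  have hne' : Z.subgroupOf φ.ker ≠ Subgroup.center φ.ker := by
    intro h
    have h4 : (⟨t, htC⟩ : φ.ker) ∈ Z.subgroupOf φ.ker := by rw [h]; exact htcen'
    exact htZ (Subgroup.mem_subgroupOf.mp h4)
  have hZ'card : Nat.card (Z.subgroupOf φ.ker) = p := by
    rw [← hZcard]
    exact Nat.card_congr (Subgroup.subgroupOfEquivOfLe hZC).toEquiv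
  have hdvd : Nat.card (Subgroup.center φ.ker) ∣ p ^ 3 :=
    hCcard ▸ Subgroup.card_subgroup_dvd_card _
  obtain ⟨j, hj3, hj⟩ := (Nat.dvd_prime_pow hp).mp hdvd
  have hj1 : 1 ≤ j := by
    have h4 := Subgroup.card_dvd_of_le hZ'le
    rw [hZ'card, hj] at h4
    by_contra hcon
    have h5 : j = 0 := by omega
    rw [h5, pow_zero] at h4
    exact hp.one_lt.ne' (Nat.dvd_one.mp h4)
  have hj2 : j ≠ 1 := by
    intro h
    rw [h, pow_one] at hj
    exact hne' (Subgroup.eq_of_le_of_card_ge hZ'le (by rw [hj, hZ'card]))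
  have hidx : (Subgroup.center φ.ker).index * p ^ j = p ^ 3 := by
    rw [← hj, ← hCcard]; exact Subgroup.index_mul_card _
  haveI : IsCyclic (φ.ker ⧸ Subgroup.center φ.ker) := by
    have hj23 : j = 2 ∨ j = 3 := by omega
    rcases hj23 with h | h
    · rw [h] at hidx
      have h5 : (Subgroup.center φ.ker).index = p := by
        have h6 : p ^ 3 = p * p ^ 2 := pow_succ' p 2
        rw [h6] at hidx
        exact Nat.eq_of_mul_eq_mul_right (pow_pos hp.pos 2) hidx
      exact isCyclic_of_prime_card (p := p) (by rw [← Subgroup.index_eq_card]; exact h5)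
    · rw [h] at hidx
      have h5 : (Subgroup.center φ.ker).index = 1 := by
        have h6 : (Subgroup.center φ.ker).index * p ^ 3 = 1 * p ^ 3 := by rw [hidx, one_mul]
        exact Nat.eq_of_mul_eq_mul_right (pow_pos hp.pos 3) h6
      haveI : Subsingleton (φ.ker ⧸ Subgroup.center φ.ker) := by
        have h6 : Nat.card (φ.ker ⧸ Subgroup.center φ.ker) = 1 := by
          rw [← Subgroup.index_eq_card]; exact h5
        exact (Nat.card_eq_one_iff_unique.mp h6).1
      exact isCyclic_of_subsingleton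
  exact isMulCommutative_of_isCyclic_quotient_center_self (↥φ.ker)

end Cfsg.Agent.Lib.Helper1
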