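import Cfsg.Agent.Lib.Helper1.FC6

set_option autoImplicit false

namespace Cfsg.Agent.Lib.Helper1

open Cfsg.Agent.Lib.Helper3
open scoped Pointwise

universe u

section
variable {p : ℕ} [Fact p.Prime]

/-- The case of the empty set of functors: trivial fusion in all constrained sections gives
trivial fusion. -/
theorem fc_empty {G : Type u} [Group G] [Finite G]
    (hloc : ∀ (K R : Subgroup G) [hR : (R.subgroupOf K).Normal],
      Subgroup.centralizer ((Cfsg.pCore p (↥K ⧸ R.subgroupOf K) :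
        Subgroup (↥K ⧸ R.subgroupOf K)) : Set (↥K ⧸ R.subgroupOf K)) ≤
          Cfsg.pCore p (↥K ⧸ R.subgroupOf K) →
      ∀ T : Sylow p (↥K ⧸ R.subgroupOf K),
        Ctl (∅ : Set (∀ (Q : Type u) [Group Q], Subgroup Q)) (↥K ⧸ R.subgroupOf K)
          (T : Subgroup (↥K ⧸ R.subgroupOf K)))
    (S : Sylow p G) :
    Ctl (∅ : Set (∀ (Q : Type u) [Group Q], Subgroup Q)) G (S : Subgroup G) := by
  have hp : p.Prime := Fact.out
  obtain ⟨W₀, hW₀def⟩ : ∃ W₀ : ∀ (Q : Type u) [Group Q], Subgroup Q, W₀ = fun Q _ => ⊤ :=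
    ⟨_, rfl⟩
  have hW₀ : Cfsg.IsCharPFunctor.{u} p W₀ := by
    rw [hW₀def]
    refine ⟨fun Q _ _ _ hnt => ?_, fun Q R _ _ _ _ φ => ?_⟩
    · haveI := hnt; exact top_ne_bot
    · exact Subgroup.map_top_of_surjective φ.toMonoidHom φ.surjective
  have hindW₀ : ∀ (X : Type u) [Group X] (T : Subgroup X), Cfsg.inducedFunctor W₀ T = T := by
    intro X _ T
    rw [hW₀def]
    show (⊤ : Subgroup ↥T).map T.subtype = T
    rw [← MonoidHom.range_eq_map, Subgroup.range_subtype]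
  have hemp : ∀ W ∈ (∅ : Set (∀ (Q : Type u) [Group Q], Subgroup Q)),
      Cfsg.IsCharPFunctor.{u} p W := by
    intro W hW; exact absurd hW (Set.notMem_empty W)
  have hsec : ∀ (X : Type u) [Group X] [Finite X], IsSectionOf G X →
      Subgroup.centralizer (Cfsg.pCore p X : Set X) ≤ Cfsg.pCore p X →
      ∀ T : Sylow p X, Ctl (∅ : Set (∀ (Q : Type u) [Group Q], Subgroup Q)) X
        (T : Subgroup X) :=
    fun X _ _ hX hcon T => hH_transport hemp hloc X hX hcon T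
  have hsub : ∀ (X : Type u) [Group X] (T : Subgroup X),
      SS (∅ : Set (∀ (Q : Type u) [Group Q], Subgroup Q)) X T ⊆ SS {W₀} X T := by
    intro X _ T s hs
    obtain ⟨W, hW, _⟩ := mem_SS.mp hs
    exact absurd hW (Set.notMem_empty W)
  have h𝓦₀ : ∀ W ∈ ({W₀} : Set (∀ (Q : Type u) [Group Q], Subgroup Q)),
      Cfsg.IsCharPFunctor.{u} p W := by
    intro W hW
    rw [Set.mem_singleton_iff] at hW
    rw [hW]; exact hW₀
  have hall : Ctl {W₀} G (S : Subgroup G) :=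
    fc_all {W₀} h𝓦₀ ⟨W₀, rfl⟩ (fun X _ => IsSectionOf G X)
      (fun X _ _ h K => isSectionOf_subgroup h K)
      (fun X _ _ h N _ => isSectionOf_quotient h N)
      (fun X _ _ hX hcon T A g hA hAg =>
        gf_steps_mono (hsub X T) (hsec X hX hcon T A g hA hAg)) G (isSectionOf_self G) S
  -- the normalizer of `S` centralizes `S`
  have hNC : ∀ n ∈ Subgroup.normalizer ((S : Subgroup G) : Set G), ∀ a ∈ (S : Subgroup G),
      n * a * n⁻¹ = a := by
    obtain ⟨N, hN⟩ : ∃ N : Subgroup G, N = Subgroup.normalizer ((S : Subgroup G) : Set G) :=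
      ⟨_, rfl⟩
    rw [← hN]
    have hSN : (S : Subgroup G) ≤ N := by rw [hN]; exact Subgroup.le_normalizer
    haveI hOn : (Cfsg.pPrimeCore p ↥N).Normal := Cfsg.Agent.Lib.Lead.pPrimeCore_normal p ↥N
    have hOc : (Nat.card (Cfsg.pPrimeCore p ↥N)).Coprime p :=
      Cfsg.Agent.Lib.Lead.pPrimeCore_coprime p
    have hYK : ∀ K : Subgroup (↥N ⧸ Cfsg.pPrimeCore p ↥N), K.Normal →
        (Nat.card K).Coprime p → K = ⊥ := by
      intro K hKn hKc
      have h1 := Cfsg.Agent.Lib.Helper4.le_pPrimeCore hKn hKc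
      have h2 : Cfsg.pPrimeCore p (↥N ⧸ Cfsg.pPrimeCore p ↥N) = ⊥ :=
        Cfsg.Agent.Lib.Lead.pPrimeCore_quotient p
      rw [h2, le_bot_iff] at h1
      exact h1
    haveI hSNn : ((S : Subgroup G).subgroupOf N).Normal := by rw [hN]; infer_instance
    obtain ⟨π, hπ⟩ : ∃ π : ↥N →* ↥N ⧸ Cfsg.pPrimeCore p ↥N,
        π = QuotientGroup.mk' (Cfsg.pPrimeCore p ↥N) := ⟨_, rfl⟩
    have hπs : Function.Surjective π := by rw [hπ]; exact QuotientGroup.mk'_surjective _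
    obtain ⟨TY, hTY⟩ : ∃ TY : Sylow p (↥N ⧸ Cfsg.pPrimeCore p ↥N),
        (TY : Subgroup (↥N ⧸ Cfsg.pPrimeCore p ↥N)) = ((S : Subgroup G).subgroupOf N).map π :=
      ⟨(S.subtype hSN).mapSurjective hπs, rfl⟩
    have hTYn : (((S : Subgroup G).subgroupOf N).map π).Normal := hSNn.map π hπs
    have hTYp : IsPGroup p (((S : Subgroup G).subgroupOf N).map π) := by
      rw [← hTY]; exact TY.isPGroup'
    have hTYle : ((S : Subgroup G).subgroupOf N).map π ≤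
        Cfsg.pCore p (↥N ⧸ Cfsg.pPrimeCore p ↥N) :=
      Cfsg.Agent.Lib.Helper4.le_pCore hTYn hTYp
    have hconY : Subgroup.centralizer
        ((Cfsg.pCore p (↥N ⧸ Cfsg.pPrimeCore p ↥N) :
          Subgroup (↥N ⧸ Cfsg.pPrimeCore p ↥N)) : Set (↥N ⧸ Cfsg.pPrimeCore p ↥N)) ≤
        Cfsg.pCore p (↥N ⧸ Cfsg.pPrimeCore p ↥N) := by
      haveI := Cfsg.pCore_normal p (↥N ⧸ Cfsg.pPrimeCore p ↥N)
      have h1 := le_sylow_of_central TY hYK (Subgroup.centralizer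
        ((Cfsg.pCore p (↥N ⧸ Cfsg.pPrimeCore p ↥N) :
          Subgroup (↥N ⧸ Cfsg.pPrimeCore p ↥N)) : Set (↥N ⧸ Cfsg.pPrimeCore p ↥N))) (by
        intro x hx c hc
        have hx1 : x ∈ Cfsg.pCore p (↥N ⧸ Cfsg.pPrimeCore p ↥N) := by
          apply hTYle
          rw [← hTY]
          exact (Subgroup.mem_inf.mp hx).1
        exact ((Subgroup.mem_centralizer_iff.mp hc) x hx1).symm)
      rw [hTY] at h1
      exact h1.trans hTYle
    have hY := hsec (↥N ⧸ Cfsg.pPrimeCore p ↥N)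
      (isSectionOf_quotient (isSectionOf_subgroup (isSectionOf_self G) N) _) hconY TY
    rw [hTY] at hY
    intro n hn a ha
    have hg : lconj (π ⟨n, hn⟩) ((((S : Subgroup G).subgroupOf N).map π :
        Subgroup (↥N ⧸ Cfsg.pPrimeCore p ↥N)) : Set (↥N ⧸ Cfsg.pPrimeCore p ↥N)) ⊆
        ((((S : Subgroup G).subgroupOf N).map π :
          Subgroup (↥N ⧸ Cfsg.pPrimeCore p ↥N)) : Set (↥N ⧸ Cfsg.pPrimeCore p ↥N)) := by
      rintro _ ⟨y, hy, rfl⟩
      exact hTYn.conj_mem y hy _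
    obtain ⟨c, hc, hca⟩ := hY _ _ subset_rfl hg
    have hc1 : c = 1 := chain_no_steps (fun s hs => by
      obtain ⟨W, hW, _⟩ := mem_SS.mp hs
      exact Set.notMem_empty W hW) hc
    have h1 := hca (π ⟨a, hSN ha⟩) ⟨⟨a, hSN ha⟩, Subgroup.mem_subgroupOf.mpr ha, rfl⟩
    rw [hc1] at h1
    have h2 : (⟨n, hn⟩ * ⟨a, hSN ha⟩ * ⟨n, hn⟩⁻¹ * ⟨a, hSN ha⟩⁻¹ : ↥N) ∈
        Cfsg.pPrimeCore p ↥N := by
      apply (QuotientGroup.eq_one_iff _).mp
      show QuotientGroup.mk' (Cfsg.pPrimeCore p ↥N)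
        (⟨n, hn⟩ * ⟨a, hSN ha⟩ * ⟨n, hn⟩⁻¹ * ⟨a, hSN ha⟩⁻¹ : ↥N) = 1
      rw [← hπ, map_mul, map_mul, map_mul, map_inv, map_inv, ← h1]
      simp
    obtain ⟨z, hz⟩ : ∃ z : G, z = n * a * n⁻¹ * a⁻¹ := ⟨_, rfl⟩
    have hzS : z ∈ (S : Subgroup G) := by
      rw [hz]
      have hn' : n ∈ Subgroup.normalizer ((S : Subgroup G) : Set G) := by rw [← hN]; exact hn
      exact (S : Subgroup G).mul_mem ((Subgroup.mem_normalizer_iff.mp hn' a).mp ha)
        ((S : Subgroup G).inv_mem ha)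
    have hz1 : z ^ Nat.card (Cfsg.pPrimeCore p ↥N) = 1 := by
      have h : ((⟨_, h2⟩ : Cfsg.pPrimeCore p ↥N) ^ Nat.card (Cfsg.pPrimeCore p ↥N) :
          Cfsg.pPrimeCore p ↥N) = 1 := pow_card_eq_one'
      have h' : ((((⟨_, h2⟩ : Cfsg.pPrimeCore p ↥N) ^ Nat.card (Cfsg.pPrimeCore p ↥N) :
          Cfsg.pPrimeCore p ↥N) : ↥N) : G) = (((1 : Cfsg.pPrimeCore p ↥N) : ↥N) : G) := by
        rw [h]
      rw [Subgroup.coe_pow, Subgroup.coe_pow, Subgroup.coe_one, Subgroup.coe_one] at h'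
      rw [hz]
      exact h'
    obtain ⟨k, hk⟩ := S.isPGroup' ⟨z, hzS⟩
    have hk' : z ^ (p ^ k) = 1 := by
      have h' : (((⟨z, hzS⟩ : (S : Subgroup G)) ^ (p ^ k) : (S : Subgroup G)) : G) =
          ((1 : (S : Subgroup G)) : G) := congrArg Subtype.val hk
      rw [Subgroup.coe_pow, Subgroup.coe_one] at h'
      exact h'
    have hz0 : z ∈ (⊥ : Subgroup G) :=
      Cfsg.Agent.Lib.Helper6.mem_of_pow_mem_of_coprime (Nat.Coprime.pow_right k hOc)
        (by rw [hz1]; exact Subgroup.one_mem _) (by rw [hk']; exact Subgroup.one_mem _)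
    rw [Subgroup.mem_bot, hz] at hz0
    exact mul_inv_eq_one.mp hz0
  intro A g hA hAg
  obtain ⟨c, hc, hca⟩ := hall A g hA hAg
  have htriv : ∀ a ∈ A, c * a * c⁻¹ = a := by
    refine chain_triv ?_ hc
    intro s hs t ht
    obtain ⟨W, hW, hs'⟩ := mem_SS.mp hs
    rw [Set.mem_singleton_iff] at hW
    rw [hW, hindW₀] at hs'
    exact hNC s hs' t ht
  refine ⟨1, Chain.nil hA, fun a ha => ?_⟩
  rw [← hca a ha, htriv a ha]
  simp

end

end Cfsg.Agent.Lib.Helper1
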