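import Mathlib
import Cfsg.Agent.Lib.Helper1.GT3
import Cfsg.Agent.Lib.Lead.Nilpotent
import Cfsg.Prelude.Def_TwoFusion

/-!
# Reduction for normal p-complement criteria relative to a strongly closed subgroup (helper1)

Preliminaries: strongly closed subgroups under conjugation, quotients; functors on subgroups.
-/

set_option autoImplicit false

namespace Cfsg.Agent.Lib.Helper1

universe u

theorem sc_conj_mem {G : Type*} [Group G] {D S : Subgroup G} (h : Cfsg.IsStronglyClosed D S)
    {s x : G} (hs : s ∈ S) (hx : x ∈ D) : s * x * s⁻¹ ∈ D :=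
  h.2 x hx s (S.mul_mem (S.mul_mem hs (h.1 hx)) (S.inv_mem hs))

theorem sc_le_normalizer {G : Type*} [Group G] [Finite G] {D S : Subgroup G}
    (h : Cfsg.IsStronglyClosed D S) : S ≤ Subgroup.normalizer (D : Set G) := by
  intro s hs
  apply Cfsg.Agent.Lib.Helper6.mem_normalizer_of_conj_mem
  intro x hx
  exact sc_conj_mem h hs hx

theorem sc_conj {G : Type*} [Group G] {D S : Subgroup G} (h : Cfsg.IsStronglyClosed D S) (g : G) :
    Cfsg.IsStronglyClosed (D.map (MulAut.conj g).toMonoidHom)
      (S.map (MulAut.conj g).toMonoidHom) := by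
  refine ⟨Subgroup.map_mono h.1, ?_⟩
  rintro _ ⟨d, hd, rfl⟩ k ⟨s, hs, hsk⟩
  simp only [MulEquiv.coe_toMonoidHom, MulAut.conj_apply] at hsk ⊢
  have h1 : (g⁻¹ * k * g) * d * (g⁻¹ * k * g)⁻¹ = s := by
    have : s = g⁻¹ * (g * s * g⁻¹) * g := by group
    rw [this, hsk]; group
  have h2 := h.2 d hd (g⁻¹ * k * g) (by rw [h1]; exact hs)
  refine ⟨_, h2, ?_⟩
  simp only [MulEquiv.coe_toMonoidHom, MulAut.conj_apply]
  group

/-- image of a strongly closed subgroup modulo a normal subgroup contained in `S` -/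
theorem sc_map_of_ker_le {G H : Type*} [Group G] [Group H] {D S : Subgroup G}
    (h : Cfsg.IsStronglyClosed D S) (π : G →* H) (hπ : Function.Surjective π)
    (hker : π.ker ≤ S) : Cfsg.IsStronglyClosed (D.map π) (S.map π) := by
  refine ⟨Subgroup.map_mono h.1, ?_⟩
  rintro _ ⟨d, hd, rfl⟩ gb ⟨s, hs, hsk⟩
  obtain ⟨g, rfl⟩ := hπ gb
  have h1 : s⁻¹ * (g * d * g⁻¹) ∈ π.ker := by
    rw [MonoidHom.mem_ker, map_mul, map_inv, hsk, map_mul, map_mul, map_inv]
    group
  have h2 : g * d * g⁻¹ ∈ S := by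
    have : g * d * g⁻¹ = s * (s⁻¹ * (g * d * g⁻¹)) := by group
    rw [this]; exact S.mul_mem hs (hker h1)
  exact ⟨_, h.2 d hd g h2, by simp⟩

/-- functors on subgroups, compatible with homomorphisms injective on the subgroup -/
structure DFunctor (p : ℕ) (W : ∀ (X : Type u) [Group X], Subgroup X → Subgroup X) : Prop where
  le : ∀ (X : Type u) [Group X] [Finite X] (D : Subgroup X), W X D ≤ D
  map : ∀ (X Y : Type u) [Group X] [Group Y] [Finite X] [Finite Y] (π : X →* Y) (D : Subgroup X),
      (∀ x ∈ D, π x = 1 → x = 1) → W Y (D.map π) = (W X D).map π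
  ne_bot : ∀ (X : Type u) [Group X] [Finite X] (D : Subgroup X), IsPGroup p D → D ≠ ⊥ →
      W X D ≠ ⊥

theorem dW_conj {p : ℕ} {W : ∀ (X : Type u) [Group X], Subgroup X → Subgroup X}
    (hW : DFunctor p W) {G : Type u} [Group G] [Finite G] (D : Subgroup G) (g : G) :
    W G (D.map (MulAut.conj g).toMonoidHom) = (W G D).map (MulAut.conj g).toMonoidHom :=
  hW.map G G _ D (fun x _ hx => by simpa using hx)

theorem dW_normalizer {p : ℕ} {W : ∀ (X : Type u) [Group X], Subgroup X → Subgroup X}
    (hW : DFunctor p W) {G : Type u} [Group G] [Finite G] (D : Subgroup G) :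
    Subgroup.normalizer (D : Set G) ≤ Subgroup.normalizer (W G D : Set G) := by
  intro g hg
  rw [Subgroup.mem_normalizer_iff_map_conj_eq] at hg ⊢
  have h1 := dW_conj hW D g
  have h2 : W G (D.map (MulAut.conj g).toMonoidHom) = W G D := congrArg (W G) hg
  rw [h2] at h1
  exact h1.symm

/-- the hypothesis transfers to subgroups -/
theorem dW_npc_subgroup {p : ℕ} [Fact p.Prime]
    {W : ∀ (X : Type u) [Group X], Subgroup X → Subgroup X}
    (hW : DFunctor p W) {G : Type u} [Group G] [Finite G] (M : Subgroup G) (D : Subgroup G)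
    (hDM : D ≤ M)
    (h : Cfsg.HasNormalPComplement p ↥(Subgroup.normalizer (W G D : Set G))) :
    Cfsg.HasNormalPComplement p ↥(Subgroup.normalizer (W ↥M (D.subgroupOf M) : Set ↥M)) := by
  apply npc_normalizer_of_map M.subtype M.subtype_injective
  rw [← hW.map ↥M G M.subtype (D.subgroupOf M) (fun x _ hx => by simpa using hx),
    Subgroup.map_subgroupOf_eq_of_le hDM]
  exact h

/-- the hypothesis transfers to conjugates -/
theorem dW_npc_conj {p : ℕ} [Fact p.Prime]
    {W : ∀ (X : Type u) [Group X], Subgroup X → Subgroup X}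
    (hW : DFunctor p W) {G : Type u} [Group G] [Finite G] (D : Subgroup G) (g : G)
    (h : Cfsg.HasNormalPComplement p ↥(Subgroup.normalizer (W G D : Set G))) :
    Cfsg.HasNormalPComplement p
      ↥(Subgroup.normalizer (W G (D.map (MulAut.conj g).toMonoidHom) : Set G)) := by
  apply npc_normalizer_of_map (MulAut.conj g⁻¹).toMonoidHom (MulAut.conj g⁻¹).injective
  rw [dW_conj hW D g, Subgroup.map_map]
  have h1 : ((MulAut.conj g⁻¹).toMonoidHom.comp (MulAut.conj g).toMonoidHom) = MonoidHom.id G := by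
    ext x
    simp only [MonoidHom.comp_apply, MulEquiv.coe_toMonoidHom, MulAut.conj_apply, MonoidHom.id_apply,
      inv_inv]
    group
  rw [h1, Subgroup.map_id]
  exact h

end Cfsg.Agent.Lib.Helper1
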