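import Mathlib
import Cfsg.Agent.Lib.Helper1.GRD1

/-!
# Reduction for normal p-complement criteria relative to a strongly closed subgroup (helper1)

More preliminaries and the case `O_p(G) = 1`.
-/

set_option autoImplicit false

namespace Cfsg.Agent.Lib.Helper1

universe u

/-- image of a strongly closed subgroup modulo an arbitrary normal subgroup -/
theorem sc_map_mk {G : Type u} [Group G] [Finite G] {p : ℕ} [Fact p.Prime] (S : Sylow p G)
    (D : Subgroup G) (h : Cfsg.IsStronglyClosed D (S : Subgroup G)) (O : Subgroup G)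
    [hOn : O.Normal] :
    Cfsg.IsStronglyClosed (D.map (QuotientGroup.mk' O))
      ((S : Subgroup G).map (QuotientGroup.mk' O)) := by
  refine ⟨Subgroup.map_mono h.1, ?_⟩
  rintro _ ⟨d, hd, rfl⟩ gb ⟨s, hs, hsk⟩
  obtain ⟨g, rfl⟩ := QuotientGroup.mk'_surjective O gb
  obtain ⟨y, hy⟩ : ∃ y, y = g * d * g⁻¹ := ⟨_, rfl⟩
  obtain ⟨X, hX⟩ : ∃ X, X = (S : Subgroup G) ⊔ O := ⟨_, rfl⟩
  have hSX : (S : Subgroup G) ≤ X := by rw [hX]; exact le_sup_left
  have hyX : y ∈ X := by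
    have h1 : s⁻¹ * y ∈ O := by
      rw [← QuotientGroup.eq, hy]
      simpa using hsk
    have : y = s * (s⁻¹ * y) := by group
    rw [this, hX]
    exact Subgroup.mul_mem _ (Subgroup.mem_sup_left hs) (Subgroup.mem_sup_right h1)
  have hyp : IsPGroup p (Subgroup.zpowers y) := by
    have h1 : Subgroup.zpowers y = (Subgroup.zpowers d).map (MulAut.conj g).toMonoidHom := by
      rw [MonoidHom.map_zpowers, hy]; rfl
    rw [h1]
    exact (S.isPGroup'.to_le (by rw [Subgroup.zpowers_le]; exact h.1 hd)).map _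
  have hQp : IsPGroup p ((Subgroup.zpowers y).subgroupOf X) := hyp.comap_subtype
  obtain ⟨Q', hQ'⟩ := hQp.exists_le_sylow
  obtain ⟨k, hk⟩ := MulAction.exists_smul_eq ↥X (S.subtype hSX) Q'
  have h1 : (⟨y, hyX⟩ : ↥X) ∈ (Q' : Subgroup ↥X) :=
    hQ' (by rw [Subgroup.mem_subgroupOf]; exact Subgroup.mem_zpowers y)
  have h2 : (k : G)⁻¹ * y * (k : G) ∈ (S : Subgroup G) := by
    rw [← hk, Sylow.coe_subgroup_smul, Subgroup.mem_pointwise_smul_iff_inv_smul_mem] at h1
    rw [Sylow.coe_subtype, Subgroup.mem_subgroupOf] at h1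
    simpa [MulAut.smul_def, MulAut.conj_apply] using h1
  have hkX : (k : G)⁻¹ ∈ (S : Subgroup G) ⊔ O := by rw [← hX]; exact X.inv_mem k.2
  obtain ⟨s', hs', o, ho, hso⟩ := Subgroup.mem_sup_of_normal_right.mp hkX
  have hk' : (k : G) = (s' * o)⁻¹ := by rw [hso, inv_inv]
  have h4 : o * y * o⁻¹ ∈ (S : Subgroup G) := by
    have : o * y * o⁻¹ = s'⁻¹ * ((k : G)⁻¹ * y * (k : G)) * s' := by rw [hk']; group
    rw [this]; exact mul_mem (mul_mem (inv_mem hs') h2) hs'
  have h5 : (o * g) * d * (o * g)⁻¹ ∈ D := h.2 d hd (o * g) (by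
    have : (o * g) * d * (o * g)⁻¹ = o * y * o⁻¹ := by rw [hy]; group
    rw [this]; exact h4)
  refine ⟨_, h5, ?_⟩
  have ho1 : (QuotientGroup.mk' O) o = 1 := (QuotientGroup.eq_one_iff o).mpr ho
  simp only [map_mul, map_inv, ho1, one_mul, inv_one, mul_one]

/-- a nontrivial strongly closed subgroup contains a nontrivial central element of `P` -/
theorem sc_exists_central {G : Type u} [Group G] [Finite G] {p : ℕ} [Fact p.Prime]
    {P : Subgroup G} (hP : IsPGroup p P) {D : Subgroup G}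
    (hD : Cfsg.IsStronglyClosed D P) (hDne : D ≠ ⊥) :
    ∃ z ∈ D, z ≠ 1 ∧ ∀ x ∈ P, x * z = z * x := by
  haveI : Group.IsNilpotent ↥P := hP.isNilpotent
  haveI hNn : (D.subgroupOf P).Normal := by
    constructor
    intro n hn g
    rw [Subgroup.mem_subgroupOf] at hn ⊢
    exact sc_conj_mem hD g.2 hn
  have hNne : D.subgroupOf P ≠ ⊥ := by
    intro h0
    apply hDne
    rw [eq_bot_iff]
    intro x hx
    have : (⟨x, hD.1 hx⟩ : ↥P) ∈ D.subgroupOf P := Subgroup.mem_subgroupOf.mpr hx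
    rw [h0, Subgroup.mem_bot] at this
    exact Subgroup.mem_bot.mpr (congrArg Subtype.val this)
  have h1 := Cfsg.Agent.Lib.Lead.normal_inf_center_ne_bot (D.subgroupOf P) hNne
  by_contra hcon
  push Not at hcon
  apply h1
  rw [eq_bot_iff]
  intro z hz
  obtain ⟨hz1, hz2⟩ := Subgroup.mem_inf.mp hz
  rw [Subgroup.mem_bot]
  by_contra hz0
  obtain ⟨x, hxP, hx⟩ := hcon (z : G) (Subgroup.mem_subgroupOf.mp hz1)
    (fun h => hz0 (Subtype.ext h))
  apply hx
  have := Subgroup.mem_center_iff.mp hz2 ⟨x, hxP⟩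
  exact congrArg Subtype.val this

theorem mem_sylow_map_of_mem {G : Type u} [Group G] {p : ℕ} (M : Subgroup G) (R : Sylow p ↥M)
    (P : Subgroup G) (hP : IsPGroup p P)
    (hRP : (R : Subgroup ↥M).map M.subtype ≤ P) {z : G} (hzP : z ∈ P) (hzM : z ∈ M) :
    z ∈ (R : Subgroup ↥M).map M.subtype := by
  have h1 : IsPGroup p (P.subgroupOf M) := hP.comap_subtype
  have h2 : (R : Subgroup ↥M) ≤ P.subgroupOf M := by
    intro r hr
    rw [Subgroup.mem_subgroupOf]
    exact hRP ⟨r, hr, rfl⟩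
  have h3 := R.is_maximal' h1 h2
  refine ⟨⟨z, hzM⟩, ?_, rfl⟩
  have h4 : (⟨z, hzM⟩ : ↥M) ∈ P.subgroupOf M := Subgroup.mem_subgroupOf.mpr hzP
  rw [h3] at h4
  exact h4

/-- the hypothesis, for all Sylow subgroups -/
theorem dW_hyp_all {p : ℕ} [Fact p.Prime]
    {W : ∀ (X : Type u) [Group X], Subgroup X → Subgroup X}
    (hW : DFunctor p W) {G : Type u} [Group G] [Finite G]
    (S : Sylow p G) (D : Subgroup G) (hD : Cfsg.IsStronglyClosed D (S : Subgroup G))
    (hDne : D ≠ ⊥)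
    (hyp : Cfsg.HasNormalPComplement p ↥(Subgroup.normalizer (W G D : Set G))) (P' : Sylow p G) :
    ∃ D' : Subgroup G, Cfsg.IsStronglyClosed D' (P' : Subgroup G) ∧ D' ≠ ⊥ ∧
      Cfsg.HasNormalPComplement p ↥(Subgroup.normalizer (W G D' : Set G)) := by
  obtain ⟨g, hg⟩ := MulAction.exists_smul_eq G S P'
  have h1 : (P' : Subgroup G) = (S : Subgroup G).map (MulAut.conj g).toMonoidHom := by
    rw [← hg, Sylow.coe_subgroup_smul]; rfl
  refine ⟨D.map (MulAut.conj g).toMonoidHom, ?_, ?_, dW_npc_conj hW D g hyp⟩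
  · rw [h1]; exact sc_conj hD g
  · intro h
    apply hDne
    rwa [Subgroup.map_eq_bot_iff_of_injective _ (MulAut.conj g).injective] at h

theorem grd_caseB {p : ℕ} [Fact p.Prime] {W : ∀ (X : Type u) [Group X], Subgroup X → Subgroup X}
    (hW : DFunctor p W) {G : Type u} [Group G] [Finite G]
    (IH : ∀ M : Subgroup G, M ≠ ⊤ → ∀ (R : Sylow p ↥M) (D₁ : Subgroup G),
      D₁ ≤ (R : Subgroup ↥M).map M.subtype →
      (∀ x ∈ D₁, ∀ g ∈ M, g * x * g⁻¹ ∈ (R : Subgroup ↥M).map M.subtype → g * x * g⁻¹ ∈ D₁) →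
      Cfsg.HasNormalPComplement p ↥(Subgroup.normalizer (W G D₁ : Set G)) →
      Cfsg.HasNormalPComplement p ↥M)
    (hyp : ∀ P' : Sylow p G, ∃ D' : Subgroup G, Cfsg.IsStronglyClosed D' (P' : Subgroup G) ∧
      D' ≠ ⊥ ∧ Cfsg.HasNormalPComplement p ↥(Subgroup.normalizer (W G D' : Set G)))
    (hH : ∀ Q : Subgroup G, IsPGroup p Q → Q ≠ ⊥ → Subgroup.normalizer (Q : Set G) ≠ ⊤) :
    ∀ (d : ℕ) (Q : Subgroup G), IsPGroup p Q → Q ≠ ⊥ →
      ∀ R : Sylow p ↥(Subgroup.normalizer (Q : Set G)), Nat.card G - Nat.card R = d →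
      Cfsg.HasNormalPComplement p ↥(Subgroup.normalizer (Q : Set G)) := by
  have hp : p.Prime := Fact.out
  intro d
  induction d using Nat.strong_induction_on with
  | _ d IHd =>
  intro Q hQ hne R hd
  obtain ⟨R', hR'⟩ : ∃ R' : Subgroup G,
      R' = (R : Subgroup _).map (Subgroup.normalizer (Q : Set G)).subtype := ⟨_, rfl⟩
  have hR'p : IsPGroup p R' := by rw [hR']; exact R.isPGroup'.map _
  have hcardR' : Nat.card R' = Nat.card R := by
    rw [hR', Subgroup.card_map_of_injective (Subgroup.subtype_injective _)]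
  obtain ⟨P', hP'⟩ := hR'p.exists_le_sylow
  obtain ⟨D', hD', hD'ne, hD'npc⟩ := hyp P'
  have hQR : Q ≤ R' := by
    have h1 : (Q.subgroupOf (Subgroup.normalizer (Q : Set G))) ≤ (R : Subgroup _) :=
      Cfsg.Agent.Lib.Helper4.normal_pGroup_le_sylow R (Subgroup.normal_in_normalizer)
        hQ.comap_subtype
    intro q hq
    rw [hR']
    exact ⟨⟨q, Subgroup.le_normalizer hq⟩, h1 (Subgroup.mem_subgroupOf.mpr hq), rfl⟩
  obtain ⟨D₁, hD₁⟩ : ∃ D₁ : Subgroup G, D₁ = D' ⊓ R' := ⟨_, rfl⟩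
  have hD₁ne : D₁ ≠ ⊥ := by
    obtain ⟨z, hzD, hz1, hzc⟩ := sc_exists_central P'.isPGroup' hD' hD'ne
    have hzM : z ∈ Subgroup.normalizer (Q : Set G) := by
      apply Cfsg.Agent.Lib.Helper6.mem_normalizer_of_conj_mem
      intro q hq
      have := hzc q (hP' (hQR hq))
      have e : z * q * z⁻¹ = q := by rw [← this]; group
      rw [e]; exact hq
    have hzR : z ∈ R' := by
      rw [hR']
      exact mem_sylow_map_of_mem _ R P' P'.isPGroup' (by rw [← hR']; exact hP') (hD'.1 hzD) hzM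
    intro h0
    have : z ∈ D₁ := by rw [hD₁]; exact Subgroup.mem_inf.mpr ⟨hzD, hzR⟩
    rw [h0, Subgroup.mem_bot] at this
    exact hz1 this
  have hD₁p : IsPGroup p D₁ := hR'p.to_le (by rw [hD₁]; exact inf_le_right)
  apply IH _ (hH Q hQ hne) R D₁
  · rw [← hR', hD₁]; exact inf_le_right
  · intro x hx g _ hgx
    rw [← hR'] at hgx
    rw [hD₁] at hx ⊢
    exact Subgroup.mem_inf.mpr ⟨hD'.2 x (Subgroup.mem_inf.mp hx).1 g (hP' hgx), hgx⟩
  · by_cases hsyl : R' = (P' : Subgroup G)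
    · have : D₁ = D' := by rw [hD₁, hsyl]; exact inf_eq_left.mpr hD'.1
      rw [this]; exact hD'npc
    · have hlt : R' < (P' : Subgroup G) := lt_of_le_of_ne hP' hsyl
      obtain ⟨x, hxP, hxR, hxN⟩ := exists_normalizing_of_lt (P' : Subgroup G) R' P'.isPGroup' hlt
      obtain ⟨Z', hZ'⟩ : ∃ Z', Z' = W G D₁ := ⟨_, rfl⟩
      rw [← hZ']
      have hZ'p : IsPGroup p Z' := by rw [hZ']; exact hD₁p.to_le (hW.le G D₁)
      have hZ'ne : Z' ≠ ⊥ := by rw [hZ']; exact hW.ne_bot G D₁ hD₁p hD₁ne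
      obtain ⟨U, hU⟩ : ∃ U : Subgroup G,
          U = (P' : Subgroup G) ⊓ Subgroup.normalizer (R' : Set G) := ⟨_, rfl⟩
      have hUp : IsPGroup p U := by rw [hU]; exact P'.isPGroup'.to_le inf_le_left
      have hUN : U ≤ Subgroup.normalizer (Z' : Set G) := by
        rw [hZ']
        refine le_trans ?_ (dW_normalizer hW D₁)
        intro u hu
        rw [hU] at hu
        obtain ⟨hu1, hu2⟩ := Subgroup.mem_inf.mp hu
        apply Cfsg.Agent.Lib.Helper6.mem_normalizer_of_conj_mem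
        intro y hy
        rw [hD₁] at hy ⊢
        obtain ⟨hy1, hy2⟩ := Subgroup.mem_inf.mp hy
        exact Subgroup.mem_inf.mpr ⟨sc_conj_mem hD' hu1 hy1,
          (Subgroup.mem_normalizer_iff.mp hu2 y).mp hy2⟩
      have hRU : R' < U := by
        refine lt_of_le_of_ne ?_ ?_
        · rw [hU]; exact le_inf hP' Subgroup.le_normalizer
        · intro heq; apply hxR; rw [heq, hU]; exact Subgroup.mem_inf.mpr ⟨hxP, hxN⟩
      have hcardU : Nat.card R' < Nat.card U := Cfsg.Agent.Lib.Lead.card_lt_of_lt hRU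
      have hU'p : IsPGroup p (U.subgroupOf (Subgroup.normalizer (Z' : Set G))) :=
        hUp.comap_subtype
      obtain ⟨R₂, hR₂⟩ := hU'p.exists_le_sylow
      have hcard2 : Nat.card U ≤ Nat.card R₂ := by
        have h1 : Nat.card (U.subgroupOf (Subgroup.normalizer (Z' : Set G))) = Nat.card U :=
          Nat.card_congr (Subgroup.subgroupOfEquivOfLe hUN).toEquiv
        rw [← h1]; exact Subgroup.card_le_of_le hR₂
      have hcard3 : Nat.card R₂ ≤ Nat.card G :=
        (Subgroup.card_le_card_group _).trans (Subgroup.card_le_card_group _)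
      exact IHd (Nat.card G - Nat.card R₂) (by omega) Z' hZ'p hZ'ne R₂ rfl

end Cfsg.Agent.Lib.Helper1
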