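import Mathlib
import Cfsg.Agent.Lib.Helper1.GRD2

/-!
# Reduction for normal p-complement criteria relative to a strongly closed subgroup (helper1)

The main induction.
-/

set_option autoImplicit false

namespace Cfsg.Agent.Lib.Helper1

universe u

theorem grd_main {p : ℕ} [Fact p.Prime] {W : ∀ (X : Type u) [Group X], Subgroup X → Subgroup X}
    (hW : DFunctor p W)
    (hloc : ∀ (X : Type u) [Group X] [Finite X],
      Subgroup.centralizer (Cfsg.pCore p X : Set X) ≤ Cfsg.pCore p X →
      Cfsg.HasNormalPComplement p (X ⧸ Cfsg.pCore p X) →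
      ∀ T : Sylow p X, IsCoatom (T : Subgroup X) →
      ∀ D : Subgroup X, Cfsg.IsStronglyClosed D (T : Subgroup X) → (W X D).Normal) :
    ∀ (n : ℕ) (G : Type u) [Group G] [Finite G], Nat.card G = n →
      ∀ (S : Sylow p G) (D : Subgroup G), Cfsg.IsStronglyClosed D (S : Subgroup G) →
      Cfsg.HasNormalPComplement p ↥(Subgroup.normalizer (W G D : Set G)) →
      Cfsg.HasNormalPComplement p G := by
  have hp : p.Prime := Fact.out
  intro n
  induction n using Nat.strong_induction_on with
  | _ n IH =>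
  intro G _ _ hn S D hD hyp
  have IHsub : ∀ M : Subgroup G, M ≠ ⊤ → ∀ (R : Sylow p ↥M) (D₁ : Subgroup G),
      D₁ ≤ (R : Subgroup ↥M).map M.subtype →
      (∀ x ∈ D₁, ∀ g ∈ M, g * x * g⁻¹ ∈ (R : Subgroup ↥M).map M.subtype → g * x * g⁻¹ ∈ D₁) →
      Cfsg.HasNormalPComplement p ↥(Subgroup.normalizer (W G D₁ : Set G)) →
      Cfsg.HasNormalPComplement p ↥M := by
    intro M hM R D₁ hD₁R hD₁c h
    have hlt : Nat.card M < n := by
      rw [← hn]
      refine lt_of_le_of_ne (Subgroup.card_le_card_group M) ?_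
      intro h1; exact hM (Subgroup.eq_top_of_card_eq M h1)
    have hD₁M : D₁ ≤ M := by
      intro x hx
      obtain ⟨r, _, rfl⟩ := hD₁R hx
      exact r.2
    refine IH _ hlt ↥M rfl R (D₁.subgroupOf M) ⟨?_, ?_⟩ (dW_npc_subgroup hW M D₁ hD₁M h)
    · intro x hx
      obtain ⟨r, hr, hrx⟩ := hD₁R (Subgroup.mem_subgroupOf.mp hx)
      have : r = x := Subtype.ext hrx
      rw [← this]; exact hr
    · intro x hx g hgx
      rw [Subgroup.mem_subgroupOf] at hx ⊢
      exact hD₁c (x : G) hx (g : G) g.2 ⟨_, hgx, rfl⟩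
  have IHsubS : ∀ M : Subgroup G, M ≠ ⊤ → (S : Subgroup G) ≤ M →
      Cfsg.HasNormalPComplement p ↥M := by
    intro M hM hSM
    apply IHsub M hM (S.subtype hSM) D
    · rw [Sylow.coe_subtype, Subgroup.map_subgroupOf_eq_of_le hSM]; exact hD.1
    · intro x hx g _ hgx
      rw [Sylow.coe_subtype, Subgroup.map_subgroupOf_eq_of_le hSM] at hgx
      exact hD.2 x hx g hgx
    · exact hyp
  have IHquot : ∀ (N : Subgroup G) [N.Normal], N ≠ ⊥ → ∀ (Sb : Sylow p (G ⧸ N))
      (Db : Subgroup (G ⧸ N)), Cfsg.IsStronglyClosed Db (Sb : Subgroup (G ⧸ N)) →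
      Cfsg.HasNormalPComplement p ↥(Subgroup.normalizer (W (G ⧸ N) Db : Set (G ⧸ N))) →
      Cfsg.HasNormalPComplement p (G ⧸ N) := by
    intro N _ hN Sb Db hsc h
    have hlt : Nat.card (G ⧸ N) < n := by
      rw [← hn, Subgroup.card_eq_card_quotient_mul_card_subgroup N]
      have h1 : 1 < Nat.card N := N.one_lt_card_iff_ne_bot.mpr hN
      have h2 : 0 < Nat.card (G ⧸ N) := Nat.card_pos
      nlinarith
    exact IH _ hlt (G ⧸ N) rfl Sb Db hsc h
  have htopcase : Subgroup.normalizer (W G D : Set G) = ⊤ → Cfsg.HasNormalPComplement p G := by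
    intro h1
    exact npc_of_top (npc_of_eq h1 hyp)
  by_cases hDbot : D = ⊥
  · apply htopcase
    have h0 : W G D = ⊥ := by
      rw [eq_bot_iff, ← hDbot]; exact hW.le G D
    rw [h0]
    exact Subgroup.normalizer_eq_top_iff.mpr inferInstance
  by_cases hH : Cfsg.pCore p G = ⊥
  · rw [Cfsg.Agent.S0072.result p]
    intro Q hQ hne
    obtain ⟨R⟩ : Nonempty (Sylow p ↥(Subgroup.normalizer (Q : Set G))) := inferInstance
    refine grd_caseB hW IHsub (dW_hyp_all hW S D hD hDbot hyp) ?_ _ Q hQ hne R rfl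
    intro Q' hQ' hne' htop
    apply hne'
    have hn' : Q'.Normal := Subgroup.normalizer_eq_top_iff.mp htop
    have := Cfsg.Agent.Lib.Helper4.le_pCore hn' hQ'
    rw [hH] at this
    exact le_bot_iff.mp this
  · have hHp : IsPGroup p ↥(Cfsg.pCore p G) := Cfsg.Agent.Lib.Helper4.pCore_isPGroup p G
    have hHS : Cfsg.pCore p G ≤ (S : Subgroup G) := Cfsg.Agent.Lib.Helper4.pCore_le_sylow S
    by_cases hDT : D ≤ Cfsg.pCore p G
    · apply htopcase
      rw [eq_top_iff]
      refine le_trans ?_ (dW_normalizer hW D)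
      intro g _
      apply Cfsg.Agent.Lib.Helper6.mem_normalizer_of_conj_mem
      intro x hx
      exact hD.2 x hx g (hHS ((Cfsg.pCore_normal p G).conj_mem x (hDT hx) g))
    have hbar : Cfsg.HasNormalPComplement p (G ⧸ Cfsg.pCore p G) := by
      obtain ⟨π, hπ⟩ : ∃ π : G →* G ⧸ Cfsg.pCore p G, π = QuotientGroup.mk' _ := ⟨_, rfl⟩
      have hπs : Function.Surjective π := by rw [hπ]; exact QuotientGroup.mk'_surjective _
      have hπk : π.ker = Cfsg.pCore p G := by rw [hπ]; exact QuotientGroup.ker_mk' _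
      obtain ⟨Sb, hSb⟩ : ∃ Sb : Sylow p (G ⧸ Cfsg.pCore p G),
          (Sb : Subgroup (G ⧸ Cfsg.pCore p G)) = (S : Subgroup G).map π :=
        ⟨S.mapSurjective hπs, rfl⟩
      obtain ⟨Db, hDb⟩ : ∃ Db, Db = D.map π := ⟨_, rfl⟩
      have hscb : Cfsg.IsStronglyClosed Db (Sb : Subgroup (G ⧸ Cfsg.pCore p G)) := by
        rw [hSb, hDb]; exact sc_map_of_ker_le hD π hπs (by rw [hπk]; exact hHS)
      apply IHquot _ hH Sb Db hscb
      obtain ⟨Zb, hZb⟩ : ∃ Zb, Zb = W (G ⧸ Cfsg.pCore p G) Db := ⟨_, rfl⟩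
      rw [← hZb]
      obtain ⟨K, hK⟩ : ∃ K, K = Zb.comap π := ⟨_, rfl⟩
      have hKS : K ≤ (S : Subgroup G) := by
        have h1 : Zb ≤ (S : Subgroup G).map π := by
          rw [← hSb, hZb]; exact (hW.le _ Db).trans hscb.1
        have h2 : K ≤ ((S : Subgroup G).map π).comap π := by rw [hK]; exact Subgroup.comap_mono h1
        rw [Subgroup.comap_map_eq, hπk] at h2
        exact h2.trans (sup_le le_rfl hHS)
      have hKp : IsPGroup p K := S.isPGroup'.to_le hKS
      have h2 : (Subgroup.normalizer (Zb : Set (G ⧸ Cfsg.pCore p G))).comap π =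
          Subgroup.normalizer (K : Set G) := by
        rw [hK]; exact Subgroup.comap_normalizer_eq_of_surjective _ hπs
      have hSN : (S : Subgroup G) ≤ Subgroup.normalizer (K : Set G) := by
        have h1 : (Sb : Subgroup (G ⧸ Cfsg.pCore p G)) ≤
            Subgroup.normalizer (Zb : Set (G ⧸ Cfsg.pCore p G)) := by
          rw [hZb]
          exact (sc_le_normalizer hscb).trans (dW_normalizer hW Db)
        rw [← h2]
        intro s hs
        rw [Subgroup.mem_comap]
        apply h1; rw [hSb]; exact ⟨s, hs, rfl⟩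
      have hDbp : IsPGroup p Db := by rw [hDb]; exact (S.isPGroup'.to_le hD.1).map _
      have hDbne : Db ≠ ⊥ := by
        intro h0
        apply hDT
        intro x hx
        have : π x ∈ Db := by rw [hDb]; exact ⟨x, hx, rfl⟩
        rw [h0, Subgroup.mem_bot] at this
        rw [← hπk]; exact MonoidHom.mem_ker.mpr this
      have hZbne : Zb ≠ ⊥ := by rw [hZb]; exact hW.ne_bot _ Db hDbp hDbne
      have hKtop : Subgroup.normalizer (K : Set G) ≠ ⊤ := by
        intro htop
        have hn' : K.Normal := Subgroup.normalizer_eq_top_iff.mp htop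
        have h1 : K ≤ Cfsg.pCore p G := Cfsg.Agent.Lib.Helper4.le_pCore hn' hKp
        apply hZbne
        have h3 : Zb = K.map π := by rw [hK, Subgroup.map_comap_eq_self_of_surjective hπs]
        rw [h3, eq_bot_iff]
        rintro _ ⟨k, hk, rfl⟩
        have : k ∈ π.ker := by rw [hπk]; exact h1 hk
        exact Subgroup.mem_bot.mpr this
      have hNK : Cfsg.HasNormalPComplement p ↥(Subgroup.normalizer (K : Set G)) :=
        IHsubS _ hKtop hSN
      have h3 : (Subgroup.normalizer (K : Set G)).map π =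
          Subgroup.normalizer (Zb : Set (G ⧸ Cfsg.pCore p G)) := by
        rw [← h2, Subgroup.map_comap_eq_self_of_surjective hπs]
      have h4 := npc_of_surjective (π.subgroupMap (Subgroup.normalizer (K : Set G)))
        (π.subgroupMap_surjective _) hNK
      exact npc_of_eq h3 h4
    by_cases hO : Cfsg.pPrimeCore p G = ⊥
    swap
    · have hOc : (Nat.card ↥(Cfsg.pPrimeCore p G)).Coprime p :=
        Cfsg.Agent.Lib.Helper4.pPrimeCore_coprime p G
      apply npc_of_pprime_quotient (Cfsg.pPrimeCore p G) hOc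
      obtain ⟨π, hπ⟩ : ∃ π : G →* G ⧸ Cfsg.pPrimeCore p G, π = QuotientGroup.mk' _ := ⟨_, rfl⟩
      have hπs : Function.Surjective π := by rw [hπ]; exact QuotientGroup.mk'_surjective _
      obtain ⟨Sb, hSb⟩ : ∃ Sb : Sylow p (G ⧸ Cfsg.pPrimeCore p G),
          (Sb : Subgroup (G ⧸ Cfsg.pPrimeCore p G)) = (S : Subgroup G).map π :=
        ⟨S.mapSurjective hπs, rfl⟩
      have hscb : Cfsg.IsStronglyClosed (D.map π) (Sb : Subgroup (G ⧸ Cfsg.pPrimeCore p G)) := by
        rw [hSb, hπ]; exact sc_map_mk S D hD _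
      apply IHquot _ hO Sb (D.map π) hscb
      have hinj : ∀ x ∈ (S : Subgroup G), π x = 1 → x = 1 := by
        intro x hx hx1
        have hxO : x ∈ Cfsg.pPrimeCore p G := by
          rw [hπ] at hx1; exact (QuotientGroup.eq_one_iff x).mp hx1
        obtain ⟨k, hk⟩ := S.isPGroup' ⟨x, hx⟩
        have h1 : x ^ (p ^ k) = 1 := pow_eq_one_of_subtype hx hk
        have h2 : orderOf x ∣ p ^ k := orderOf_dvd_of_pow_eq_one h1
        have h3 : orderOf x ∣ Nat.card ↥(Cfsg.pPrimeCore p G) := by
          have := orderOf_dvd_natCard (⟨x, hxO⟩ : ↥(Cfsg.pPrimeCore p G))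
          rwa [Subgroup.orderOf_mk] at this
        have h4 : orderOf x = 1 := Nat.eq_one_of_dvd_coprimes (Nat.Coprime.pow_right k hOc) h3 h2
        exact orderOf_eq_one_iff.mp h4
      have h5 : W (G ⧸ Cfsg.pPrimeCore p G) (D.map π) = (W G D).map π :=
        hW.map _ _ π D (fun x hx => hinj x (hD.1 hx))
      rw [h5]
      have hZp : IsPGroup p ↥(W G D) := S.isPGroup'.to_le ((hW.le G D).trans hD.1)
      have h6 : Subgroup.normalizer
          (((W G D).map π : Subgroup (G ⧸ Cfsg.pPrimeCore p G)) :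
            Set (G ⧸ Cfsg.pPrimeCore p G)) =
          (Subgroup.normalizer (W G D : Set G)).map π := by
        apply le_antisymm
        · rw [hπ]; exact normalizer_map_pprime _ hOc _ hZp
        · exact Subgroup.le_normalizer_map π
      have h7 := npc_of_surjective (π.subgroupMap _) (π.subgroupMap_surjective _) hyp
      exact npc_of_eq h6.symm h7
    have hc : Subgroup.centralizer (Cfsg.pCore p G : Set G) ≤ Cfsg.pCore p G := by
      obtain ⟨Lb, hLbn, hLbc, hLbq⟩ := npc_iff.mp hbar
      haveI := hLbn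
      obtain ⟨π, hπ⟩ : ∃ π : G →* G ⧸ Cfsg.pCore p G, π = QuotientGroup.mk' _ := ⟨_, rfl⟩
      have hπk : ∀ x : G, π x = 1 ↔ x ∈ Cfsg.pCore p G := by
        intro x; rw [hπ]; exact QuotientGroup.eq_one_iff x
      obtain ⟨E, hE⟩ : ∃ E : Subgroup G,
          E = Subgroup.centralizer (Cfsg.pCore p G : Set G) ⊓ Lb.comap π := ⟨_, rfl⟩
      haveI hEn : E.Normal := by rw [hE]; infer_instance
      have hEC : E ≤ Subgroup.centralizer (Cfsg.pCore p G : Set G) := by rw [hE]; exact inf_le_left
      have hpel : ∀ x ∈ E, (∃ k : ℕ, x ^ (p ^ k) = 1) → x ∈ Cfsg.pCore p G := by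
        intro x hx ⟨k, hk⟩
        have h1 : π x ∈ Lb := by rw [hE] at hx; exact (Subgroup.mem_inf.mp hx).2
        have h2 : (π x) ^ (Nat.card Lb) = 1 := by
          have := pow_card_eq_one' (G := Lb) (x := ⟨π x, h1⟩)
          exact pow_eq_one_of_subtype h1 this
        have h3 : x ^ (Nat.card Lb) ∈ Cfsg.pCore p G := by rw [← hπk, map_pow]; exact h2
        have hcop : (Nat.card Lb).Coprime (orderOf x) := by
          have : orderOf x ∣ p ^ k := orderOf_dvd_of_pow_eq_one hk
          exact Nat.Coprime.coprime_dvd_right this (Nat.Coprime.pow_right k hLbc)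
        obtain ⟨j, hj⟩ := exists_pow_eq_self_of_coprime hcop
        rw [← hj]; exact Subgroup.pow_mem _ h3 j
      obtain ⟨PE⟩ : Nonempty (Sylow p ↥E) := inferInstance
      have hPE : Subgroup.normalizer ((PE : Subgroup ↥E) : Set ↥E) ≤
          Subgroup.centralizer ((PE : Subgroup ↥E) : Set ↥E) := by
        intro n _
        rw [Subgroup.mem_centralizer_iff]
        intro x hx
        have hxH : (x : G) ∈ Cfsg.pCore p G := by
          apply hpel _ x.2
          obtain ⟨k, hk⟩ := PE.isPGroup' ⟨x, hx⟩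
          have h1 : x ^ (p ^ k) = 1 := pow_eq_one_of_subtype hx hk
          have h2 := congrArg Subtype.val h1
          exact ⟨k, by simpa using h2⟩
        have hn := Subgroup.mem_centralizer_iff.mp (hEC n.2) _ hxH
        exact Subtype.ext hn
      obtain ⟨D₀, hD₀n, hD₀c, hD₀q⟩ := npc_iff.mp
        (Cfsg.Agent.Lib.Lead.hasNormalPComplement_of_normalizer_le_centralizer PE hPE)
      have hD₀mem : ∀ e : ↥E, (orderOf e).Coprime p → e ∈ D₀ := by
        intro e he
        obtain ⟨k, hk⟩ := hD₀q e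
        have hcop : (p ^ k).Coprime (orderOf e) := (Nat.Coprime.pow_right k he).symm
        obtain ⟨j, hj⟩ := exists_pow_eq_self_of_coprime hcop
        rw [← hj]; exact Subgroup.pow_mem _ hk j
      have hD₀ord : ∀ e ∈ D₀, (orderOf e).Coprime p := by
        intro e he
        have h1 : orderOf e ∣ Nat.card D₀ := by
          have := orderOf_dvd_natCard (⟨e, he⟩ : D₀)
          rwa [Subgroup.orderOf_mk] at this
        exact Nat.Coprime.coprime_dvd_left h1 hD₀c
      have hDn : (D₀.map E.subtype).Normal := by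
        constructor
        rintro _ ⟨d, hd, rfl⟩ g
        have hmem : g * (d : G) * g⁻¹ ∈ E := hEn.conj_mem _ d.2 g
        refine ⟨⟨_, hmem⟩, ?_, rfl⟩
        apply hD₀mem
        have h1 : orderOf (⟨g * (d : G) * g⁻¹, hmem⟩ : ↥E) = orderOf d := by
          rw [← Subgroup.orderOf_coe, ← Subgroup.orderOf_coe d]
          exact (MulAut.conj g).orderOf_eq (d : G)
        rw [h1]; exact hD₀ord d hd
      have hDcard : (Nat.card ↥(D₀.map E.subtype)).Coprime p := by
        rw [Subgroup.card_map_of_injective E.subtype_injective]; exact hD₀c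
      have hDbot : D₀.map E.subtype ≤ Cfsg.pPrimeCore p G :=
        Cfsg.Agent.Lib.Helper4.le_pPrimeCore hDn hDcard
      rw [hO] at hDbot
      have hD₀bot : ∀ e ∈ D₀, e = 1 := by
        intro e he
        have : (e : G) ∈ (⊥ : Subgroup G) := hDbot ⟨e, he, rfl⟩
        exact Subtype.ext (Subgroup.mem_bot.mp this)
      have hEp : IsPGroup p ↥E := by
        intro e
        obtain ⟨k, hk⟩ := hD₀q e
        exact ⟨k, hD₀bot _ hk⟩
      have hEH : E ≤ Cfsg.pCore p G := Cfsg.Agent.Lib.Helper4.le_pCore hEn hEp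
      have hCp : IsPGroup p ↥(Subgroup.centralizer (Cfsg.pCore p G : Set G)) := by
        intro c
        obtain ⟨k, hk⟩ := hLbq (π c)
        have h1 : (c : G) ^ (p ^ k) ∈ E := by
          rw [hE]; refine Subgroup.mem_inf.mpr ⟨Subgroup.pow_mem _ c.2 _, ?_⟩
          rw [Subgroup.mem_comap, map_pow]; exact hk
        obtain ⟨k', hk'⟩ := hHp ⟨_, hEH h1⟩
        refine ⟨k + k', ?_⟩
        apply Subtype.ext
        have h2 : ((c : G) ^ (p ^ k)) ^ (p ^ k') = 1 := pow_eq_one_of_subtype (hEH h1) hk'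
        rw [pow_add, pow_mul]
        simpa using h2
      exact Cfsg.Agent.Lib.Helper4.le_pCore inferInstance hCp
    by_cases htop : (S : Subgroup G) = ⊤
    · apply npc_of_isPGroup
      intro g
      have hg : g ∈ (S : Subgroup G) := by rw [htop]; trivial
      obtain ⟨k, hk⟩ := S.isPGroup' ⟨g, hg⟩
      exact ⟨k, pow_eq_one_of_subtype hg hk⟩
    by_cases hco : IsCoatom (S : Subgroup G)
    · have hn' := hloc G hc hbar S hco D hD
      apply htopcase
      exact Subgroup.normalizer_eq_top_iff.mpr hn'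
    · exfalso
      have : ∃ M : Subgroup G, (S : Subgroup G) < M ∧ M ≠ ⊤ := by
        by_contra hcon
        push Not at hcon
        exact hco ⟨htop, fun M hM => hcon M hM⟩
      obtain ⟨M, hSM, hMtop⟩ := this
      have hNPC := IHsubS M hMtop hSM.le
      obtain ⟨D, hDn, hDc, hDq⟩ := npc_iff.mp hNPC
      have hHM : Cfsg.pCore p G ≤ M := (Cfsg.Agent.Lib.Helper4.pCore_le_sylow S).trans hSM.le
      have hDH : ∀ d ∈ D, (d : G) ∈ Subgroup.centralizer (Cfsg.pCore p G : Set G) := by
        intro d hd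
        rw [Subgroup.mem_centralizer_iff]
        intro h hh
        have h1 : h * (d : G) * h⁻¹ * (d : G)⁻¹ ∈ Cfsg.pCore p G := by
          have := (Cfsg.pCore_normal p G).conj_mem h⁻¹ (inv_mem hh) (d : G)
          have h2 : h * (d : G) * h⁻¹ * (d : G)⁻¹ = h * ((d : G) * h⁻¹ * (d : G)⁻¹) := by group
          rw [h2]; exact mul_mem hh this
        obtain ⟨c, hcdef⟩ : ∃ c : ↥M, c = (⟨h, hHM hh⟩ : ↥M) * d * (⟨h, hHM hh⟩ : ↥M)⁻¹ * d⁻¹ :=
          ⟨_, rfl⟩
        have h3 : c ∈ D := by
          rw [hcdef]; exact D.mul_mem (hDn.conj_mem d hd _) (D.inv_mem hd)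
        have hcG : (c : G) = h * (d : G) * h⁻¹ * (d : G)⁻¹ := by rw [hcdef]; rfl
        have hc1 : c = 1 := by
          obtain ⟨k, hk⟩ := hHp ⟨(c : G), by rw [hcG]; exact h1⟩
          have h4 : c ^ (p ^ k) = 1 := by
            apply Subtype.ext
            have := congrArg Subtype.val hk
            simpa using this
          have h5 : orderOf c ∣ p ^ k := orderOf_dvd_of_pow_eq_one h4
          have h6 : orderOf c ∣ Nat.card D := by
            have := orderOf_dvd_natCard (⟨c, h3⟩ : D)
            rwa [Subgroup.orderOf_mk] at this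
          exact orderOf_eq_one_iff.mp
            (Nat.eq_one_of_dvd_coprimes (Nat.Coprime.pow_right k hDc) h6 h5)
        have hc2 : h * (d : G) * h⁻¹ * (d : G)⁻¹ = 1 := by rw [← hcG, hc1]; rfl
        calc h * (d : G) = (h * (d : G) * h⁻¹ * (d : G)⁻¹) * ((d : G) * h) := by group
          _ = (d : G) * h := by rw [hc2, one_mul]
      have hMp : IsPGroup p ↥M := by
        intro m
        obtain ⟨k, hk⟩ := hDq m
        have h1 : ((m ^ (p ^ k) : ↥M) : G) ∈ Cfsg.pCore p G := hc (hDH _ hk)
        obtain ⟨k', hk'⟩ := hHp ⟨_, h1⟩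
        refine ⟨k + k', ?_⟩
        apply Subtype.ext
        have h2 : (((m : G) ^ (p ^ k))) ^ (p ^ k') = 1 := by
          have := congrArg Subtype.val hk'
          simpa using this
        rw [pow_add, pow_mul]
        simpa using h2
      have := S.is_maximal' hMp hSM.le
      exact hSM.ne this.symm

/-- **Reduction for strongly closed subgroups.** -/
theorem grd {p : ℕ} [Fact p.Prime] {W : ∀ (X : Type u) [Group X], Subgroup X → Subgroup X}
    (hW : DFunctor p W)
    (hloc : ∀ (X : Type u) [Group X] [Finite X],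
      Subgroup.centralizer (Cfsg.pCore p X : Set X) ≤ Cfsg.pCore p X →
      Cfsg.HasNormalPComplement p (X ⧸ Cfsg.pCore p X) →
      ∀ T : Sylow p X, IsCoatom (T : Subgroup X) →
      ∀ D : Subgroup X, Cfsg.IsStronglyClosed D (T : Subgroup X) → (W X D).Normal)
    {G : Type u} [Group G] [Finite G] (S : Sylow p G) (D : Subgroup G)
    (hD : Cfsg.IsStronglyClosed D (S : Subgroup G))
    (hN : Cfsg.HasNormalPComplement p ↥(Subgroup.normalizer (W G D : Set G))) :
    Cfsg.HasNormalPComplement p G :=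
  grd_main hW hloc _ G rfl S D hD hN

end Cfsg.Agent.Lib.Helper1
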