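import Mathlib
import Cfsg.Agent.Lib.Helper1.GRD3

/-!
# `zjW` under homomorphisms injective on the subgroup, for general `good` (helper1)
-/

set_option autoImplicit false

namespace Cfsg.Agent.Lib.Helper1

theorem zjW_map_gen {G H : Type*} [Group G] [Group H] [Finite G] [Finite H]
    (goodG : Subgroup G → Prop) (goodH : Subgroup H → Prop) (S : Subgroup G) (π : G →* H)
    (hinj : ∀ x ∈ S, π x = 1 → x = 1)
    (hbot : goodG ⊥)
    (hfw : ∀ U : Subgroup G, U ≤ S → goodG U → goodH (U.map π))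
    (hbk : ∀ V : Subgroup H, V ≤ S.map π → goodH V → goodG (V.comap π ⊓ S)) :
    zjW goodH (S.map π) = (zjW goodG S).map π := by
  have hi : ∀ x ∈ S, ∀ y ∈ S, π x = π y → x = y := by
    intro x hx y hy h
    have h1 : π (x⁻¹ * y) = 1 := by rw [map_mul, map_inv, h, inv_mul_cancel]
    have h2 := hinj _ (S.mul_mem (S.inv_mem hx) hy) h1
    exact inv_mul_eq_one.mp h2
  have hcard : ∀ U : Subgroup G, U ≤ S → Nat.card (U.map π) = Nat.card U := by
    intro U hU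
    symm
    apply Nat.card_congr
    exact Equiv.ofBijective (fun u : U => (⟨π u, Subgroup.mem_map_of_mem π u.2⟩ : U.map π))
      ⟨fun a b h => Subtype.ext (hi _ (hU a.2) _ (hU b.2) (congrArg Subtype.val h)),
        fun ⟨y, x, hx, hxy⟩ => ⟨⟨x, hx⟩, Subtype.ext hxy⟩⟩
  have hback : ∀ V : Subgroup H, V ≤ S.map π → goodH V →
      ∃ U : Subgroup G, U ≤ S ∧ goodG U ∧ U.map π = V := by
    intro V hV hVg
    refine ⟨V.comap π ⊓ S, inf_le_right, hbk V hV hVg, ?_⟩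
    apply le_antisymm
    · rintro _ ⟨x, hx, rfl⟩
      exact (Subgroup.mem_inf.mp hx).1
    · intro v hv
      obtain ⟨s, hs, rfl⟩ := hV hv
      exact ⟨s, Subgroup.mem_inf.mpr ⟨hv, hs⟩, rfl⟩
  have hfwd : ∀ U, IsMaxGood goodG S U → IsMaxGood goodH (S.map π) (U.map π) := by
    intro U hU
    refine ⟨Subgroup.map_mono hU.1, hfw U hU.1 hU.2.1, ?_⟩
    intro C hC hCg
    obtain ⟨U', hU'S, hU'g, rfl⟩ := hback C hC hCg
    rw [hcard U' hU'S, hcard U hU.1]
    exact hU.2.2 U' hU'S hU'g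
  have hbwd : ∀ V, IsMaxGood goodH (S.map π) V → ∃ U, IsMaxGood goodG S U ∧ U.map π = V := by
    intro V hV
    obtain ⟨U, hUS, hUg, rfl⟩ := hback V hV.1 hV.2.1
    refine ⟨U, ⟨hUS, hUg, ?_⟩, rfl⟩
    intro C hC hCg
    have h1 := hV.2.2 (C.map π) (Subgroup.map_mono hC) (hfw C hC hCg)
    rw [hcard C hC, hcard U hUS] at h1
    exact h1
  obtain ⟨U₀, hU₀⟩ := exists_isMaxGood goodG S hbot
  apply le_antisymm
  · intro x hx
    have h0 : x ∈ U₀.map π := zjW_le_of goodH (hfwd U₀ hU₀) hx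
    obtain ⟨z₀, hz₀, rfl⟩ := h0
    refine ⟨z₀, ?_, rfl⟩
    show z₀ ∈ zjW goodG S
    unfold zjW
    rw [Subgroup.mem_sInf]
    intro U hU
    have h1 : π z₀ ∈ U.map π := zjW_le_of goodH (hfwd U hU) hx
    obtain ⟨z, hz, hzz⟩ := h1
    have := hi z (hU.1 hz) z₀ (hU₀.1 hz₀) hzz
    rw [← this]; exact hz
  · rintro _ ⟨z, hz, rfl⟩
    unfold zjW
    rw [Subgroup.mem_sInf]
    intro V hV
    obtain ⟨U, hU, rfl⟩ := hbwd V hV
    exact ⟨z, zjW_le_of goodG hU hz, rfl⟩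

end Cfsg.Agent.Lib.Helper1
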