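import Mathlib
import Cfsg.Agent.Lib.Helper1.ZJ7
import Cfsg.Prelude.Def_TwoFusion

/-!
# Glauberman's ZJ-theorem for a strongly closed subgroup `D` of a Sylow subgroup (helper1)
-/

set_option autoImplicit false
open Pointwise
open scoped commutatorElement

namespace Cfsg.Agent.Lib.Helper1

variable {G : Type*} [Group G]

set_option maxHeartbeats 1000000 in
theorem zjd_inter [Finite G] {p : ℕ} [Fact p.Prime] (good : Subgroup G → Prop) (hp : p ≠ 2)
    (hst : ∀ (P : Subgroup G) [P.Normal], IsPGroup p P → Cfsg.IsPStableOn p P) (S : Sylow p G)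
    (D : Subgroup G) (hsc : Cfsg.IsStronglyClosed D (S : Subgroup G))
    (hbot : good ⊥) (hab : ∀ U, good U → ∀ x ∈ U, ∀ y ∈ U, x * y = y * x)
    (hmap : ∀ U (ψ : G ≃* G), good U → good (U.map ψ.toMonoidHom))
    (hstar : ∀ A A', good A → (∀ x ∈ A', ∀ y ∈ A', x * y = y * x) →
      (∀ n : ℕ, (∀ x ∈ A, x ^ n = 1) → ∀ x ∈ A', x ^ n = 1) → good A') :
    ∀ n : ℕ, ∀ B : Subgroup G, B.Normal → IsPGroup p B → Nat.card B ≤ n →
      (zjW good D ⊓ B).Normal := by
  have hDS : D ≤ (S : Subgroup G) := hsc.1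
  have hSD : (S : Subgroup G) ≤ Subgroup.normalizer (D : Set G) := by
    intro s hs
    apply Cfsg.Agent.Lib.Helper6.mem_normalizer_of_conj_mem
    intro x hx
    exact hsc.2 x hx s (S.1.mul_mem (S.1.mul_mem hs (hDS hx)) (S.1.inv_mem hs))
  intro n
  induction n with
  | zero =>
    intro B _ _ hcard
    exfalso
    have := Nat.card_pos (α := B)
    omega
  | succ n ih =>
    intro B hBn hBp hcard
    haveI := hBn
    obtain ⟨W, hW⟩ : ∃ W, W = zjW good D := ⟨_, rfl⟩
    rw [← hW]
    have hBS : B ≤ S := Cfsg.Agent.Lib.Helper4.normal_pGroup_le_sylow S hBn hBp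
    have hSNW : (S : Subgroup G) ≤ Subgroup.normalizer (W : Set G) := by
      rw [hW]; exact hSD.trans (normalizer_le_normalizer_zjW good hmap D)
    have hWcomm : ∀ x ∈ W, ∀ y ∈ W, x * y = y * x := by
      rw [hW]; exact zjW_comm good hbot hab D
    have hWle : ∀ U, IsMaxGood good D U → W ≤ U := by
      intro U hU; rw [hW]; exact zjW_le_of good hU
    by_cases hB1 : B = ⊥
    · rw [hB1, inf_bot_eq]; infer_instance
    have hB1n : (⁅B, B⁆).Normal := inferInstance
    have hB1le : ⁅B, B⁆ ≤ B := Subgroup.commutator_le_right B B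
    have hB1ne : ⁅B, B⁆ ≠ B :=
      commutator_ne_self_of_pgroup B B hBp hBp Subgroup.le_normalizer hB1
    have hB1lt : ⁅B, B⁆ < B := lt_of_le_of_ne hB1le hB1ne
    have hW1 : (W ⊓ ⁅B, B⁆).Normal := by
      rw [hW]
      apply ih _ hB1n (hBp.to_le hB1le)
      have := Cfsg.Agent.Lib.Lead.card_lt_of_lt hB1lt
      omega
    obtain ⟨L, hL⟩ : ∃ L, L = Subgroup.normalClosure ((W ⊓ B : Subgroup G) : Set G) := ⟨_, rfl⟩
    have hLn : L.Normal := by rw [hL]; infer_instance
    have hLB : L ≤ B := by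
      rw [hL]; exact Subgroup.normalClosure_le_normal (fun x hx => hx.2)
    have hZL : W ⊓ B ≤ L := by rw [hL]; exact Subgroup.le_normalClosure
    have hLS : L ≤ S := hLB.trans hBS
    have hLp : IsPGroup p L := hBp.to_le hLB
    have hLD : L ≤ D := by
      rw [hL, Subgroup.normalClosure, Subgroup.closure_le]
      intro x hx
      rw [Group.mem_conjugatesOfSet_iff] at hx
      obtain ⟨z, hz, hzx⟩ := hx
      rw [isConj_iff] at hzx
      obtain ⟨g, rfl⟩ := hzx
      have hzD : z ∈ D := by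
        have : z ∈ W := hz.1
        rw [hW] at this
        exact (zjW_le good hbot D) this
      exact hsc.2 z hzD g (hBS (hBn.conj_mem _ hz.2 g))
    -- Claim A
    have hLL : ⁅L, L⁆ ≤ W ⊓ ⁅B, B⁆ := by
      rw [hL, Subgroup.normalClosure]
      apply commutator_closure_le
      intro x hx y hy
      rw [Group.mem_conjugatesOfSet_iff] at hx hy
      obtain ⟨z, hz, hzx⟩ := hx
      obtain ⟨z', hz', hzy⟩ := hy
      rw [isConj_iff] at hzx hzy
      obtain ⟨g, rfl⟩ := hzx
      obtain ⟨h, rfl⟩ := hzy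
      have hy'B : g⁻¹ * (h * z' * h⁻¹) * g ∈ B := by
        have h1 : h * z' * h⁻¹ ∈ B := hBn.conj_mem _ hz'.2 h
        have h2 := hBn.conj_mem _ h1 g⁻¹
        simpa using h2
      have hcW : ⁅z, g⁻¹ * (h * z' * h⁻¹) * g⁆ ∈ W := by
        rw [commutatorElement_def]
        have h1 := conj_mem_of_le_normalizer hSNW (hBS hy'B) (W.inv_mem hz.1)
        have e : z * (g⁻¹ * (h * z' * h⁻¹) * g) * z⁻¹ * (g⁻¹ * (h * z' * h⁻¹) * g)⁻¹
            = z * ((g⁻¹ * (h * z' * h⁻¹) * g) * z⁻¹ * (g⁻¹ * (h * z' * h⁻¹) * g)⁻¹) := by group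
        rw [e]
        exact W.mul_mem hz.1 h1
      have hcB : ⁅z, g⁻¹ * (h * z' * h⁻¹) * g⁆ ∈ ⁅B, B⁆ :=
        Subgroup.commutator_mem_commutator hz.2 hy'B
      have e : ⁅g * z * g⁻¹, h * z' * h⁻¹⁆ = g * ⁅z, g⁻¹ * (h * z' * h⁻¹) * g⁆ * g⁻¹ := by
        simp only [commutatorElement_def]; group
      rw [e]
      exact hW1.conj_mem _ ⟨hcW, hcB⟩ g
    -- Claim D
    have hD : ∀ A, IsMaxGood good D A → L ≤ Subgroup.normalizer (A : Set G) →
        L ≤ A := by
      intro A hA hLA
      haveI := hLn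
      obtain ⟨K, hK⟩ : ∃ K : Subgroup G, K = (Cfsg.pCore p
          (G ⧸ Subgroup.centralizer (L : Set G))).comap (QuotientGroup.mk' _) := ⟨_, rfl⟩
      haveI hKn : K.Normal := by
        rw [hK]
        haveI := Cfsg.Agent.Lib.Helper4.pCore_normal p (G ⧸ Subgroup.centralizer (L : Set G))
        infer_instance
      have hCK : Subgroup.centralizer (L : Set G) ≤ K := by
        intro x hx
        rw [hK, Subgroup.mem_comap]
        have : (QuotientGroup.mk' (Subgroup.centralizer (L : Set G))) x = 1 :=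
          (QuotientGroup.eq_one_iff x).mpr hx
        rw [this]; exact Subgroup.one_mem _
      have hAK : A ≤ K := by
        intro a ha
        have haA : Subgroup.zpowers a ≤ A := by rw [Subgroup.zpowers_le]; exact ha
        have hq : ⁅⁅L, Subgroup.zpowers a⁆, Subgroup.zpowers a⁆ = ⊥ := by
          have h1 : ⁅Subgroup.zpowers a, L⁆ ≤ A := commutator_le_of_le_normalizer' hLA haA
          rw [Subgroup.commutator_comm L, Subgroup.commutator_eq_bot_iff_le_centralizer]
          refine h1.trans ?_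
          intro w hw
          rw [Subgroup.mem_centralizer_iff]
          intro y hy
          exact hab A hA.2.1 y (haA hy) w hw
        have h2 := hst L hLp a hq
        rw [hK]; exact h2
      obtain ⟨k, hk⟩ : ∃ k : ℕ, (Subgroup.centralizer (L : Set G)).relIndex K = p ^ k := by
        have hmap' : K.map (QuotientGroup.mk' (Subgroup.centralizer (L : Set G))) =
            Cfsg.pCore p (G ⧸ Subgroup.centralizer (L : Set G)) := by
          rw [hK, Subgroup.map_comap_eq_self_of_surjective (QuotientGroup.mk'_surjective _)]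
        have h1 := Subgroup.relIndex_comap (⊥ : Subgroup (G ⧸ Subgroup.centralizer (L : Set G)))
          (QuotientGroup.mk' (Subgroup.centralizer (L : Set G))) K
        rw [MonoidHom.comap_bot, QuotientGroup.ker_mk', Subgroup.relIndex_bot_left, hmap'] at h1
        obtain ⟨k, hk⟩ := IsPGroup.iff_card.mp (Cfsg.Agent.Lib.Helper4.pCore_isPGroup p
          (G ⧸ Subgroup.centralizer (L : Set G)))
        exact ⟨k, by rw [h1, hk]⟩
      have hKle := le_sup_sylow_inf (Subgroup.centralizer (L : Set G)) K k hk S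
      obtain ⟨T, hT⟩ : ∃ T : Subgroup G, T = (S : Subgroup G) ⊓ K := ⟨_, rfl⟩
      have hfrat : Subgroup.normalizer (T : Set G) ⊔ K = ⊤ := by
        rw [hT]; exact frattini_inf S K
      have htop : Subgroup.normalizer (T : Set G) ⊔ Subgroup.centralizer (L : Set G) = ⊤ := by
        rw [eq_top_iff, ← hfrat]
        apply sup_le le_sup_left
        refine hKle.trans (sup_le le_sup_right ?_)
        rw [← hT]
        exact Subgroup.le_normalizer.trans le_sup_left
      obtain ⟨WT, hWT⟩ : ∃ WT : Subgroup G,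
          WT = sInf {U | IsMaxGood good D U ∧ U ≤ T} := ⟨_, rfl⟩
      have hWTn : (WT ⊓ L).Normal := by
        rw [← Subgroup.normalizer_eq_top_iff, eq_top_iff, ← htop]
        apply sup_le
        · intro n hn
          apply Cfsg.Agent.Lib.Helper6.mem_normalizer_of_conj_mem
          intro x hx
          have hx1 : x ∈ WT := (Subgroup.mem_inf.mp hx).1
          have hx2 : x ∈ L := (Subgroup.mem_inf.mp hx).2
          refine Subgroup.mem_inf.mpr ⟨?_, hLn.conj_mem _ hx2 n⟩
          rw [hWT, Subgroup.mem_sInf]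
          rintro U ⟨hU, hUT⟩
          have hUT' : U.map (MulAut.conj n⁻¹).toMonoidHom ≤ T := by
            rintro _ ⟨u, hu, rfl⟩
            simp only [MulEquiv.coe_toMonoidHom, MulAut.conj_apply, inv_inv]
            have h1 := (Subgroup.mem_normalizer_iff.mp (Subgroup.inv_mem _ hn) u).mp (hUT hu)
            simpa using h1
          have hU' : IsMaxGood good D (U.map (MulAut.conj n⁻¹).toMonoidHom) := by
            apply isMaxGood_map good hmap hU
            rintro _ ⟨u, hu, rfl⟩
            have h1 : (MulAut.conj n⁻¹).toMonoidHom u ∈ T := hUT' ⟨u, hu, rfl⟩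
            rw [hT] at h1
            have h2 : n⁻¹ * u * n⁻¹⁻¹ ∈ (S : Subgroup G) := h1.1
            exact hsc.2 u (hU.1 hu) n⁻¹ h2
          have hx1' : x ∈ U.map (MulAut.conj n⁻¹).toMonoidHom := by
            rw [hWT, Subgroup.mem_sInf] at hx1
            exact hx1 _ ⟨hU', hUT'⟩
          obtain ⟨u, hu, hux⟩ := hx1'
          simp only [MulEquiv.coe_toMonoidHom, MulAut.conj_apply, inv_inv] at hux
          rw [← hux]
          have : n * (n⁻¹ * u * n) * n⁻¹ = u := by group
          rw [this]; exact hu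
        · refine le_trans ?_ (Subgroup.centralizer_le_normalizer _)
          apply Subgroup.centralizer_le
          intro x hx
          exact (Subgroup.mem_inf.mp hx).2
      have hZ : W ⊓ B ≤ WT ⊓ L := by
        apply le_inf _ hZL
        rw [hWT]
        apply le_sInf
        rintro U ⟨hU, -⟩
        exact inf_le_left.trans (hWle U hU)
      have hLle : L ≤ WT ⊓ L := by
        have h1 : Subgroup.normalClosure ((W ⊓ B : Subgroup G) : Set G) ≤ WT ⊓ L :=
          @Subgroup.normalClosure_le_normal _ _ _ _ hWTn (fun x hx => hZ hx)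
        rw [← hL] at h1
        exact h1
      have hATK : A ≤ T := by rw [hT]; exact le_inf (hA.1.trans hDS) hAK
      refine (hLle.trans inf_le_left).trans ?_
      rw [hWT]
      exact sInf_le ⟨hA, hATK⟩
    -- Claim E
    have hE : ∀ A, IsMaxGood good D A → L ≤ Subgroup.normalizer (A : Set G) := by
      by_contra hcon
      push Not at hcon
      obtain ⟨A₀, hA₀, hA₀L⟩ := hcon
      obtain ⟨A, ⟨hA, hAL⟩, hmax⟩ := Set.exists_max_image
        {A : Subgroup G | IsMaxGood good D A ∧
          ¬ L ≤ Subgroup.normalizer (A : Set G)}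
        (fun A => Nat.card ↥(A ⊓ L)) (Set.toFinite _) ⟨A₀, hA₀, hA₀L⟩
      obtain ⟨A', hA'S, hcard, hcomm, hlt, hnorm, hexp⟩ := repl_step_sub hp D
        (S.isPGroup'.to_le hDS) L A hLD (Subgroup.le_normalizer_of_normal) hA.1 (hab A hA.2.1)
        (hLL.trans (inf_le_left.trans (hWle A hA))) hAL
      have hA'good : good A' := hstar A A' hA.2.1 hcomm hexp
      have hA'max : IsMaxGood good D A' :=
        ⟨hA'S, hA'good, fun C hC hg => (hA.2.2 C hC hg).trans hcard.symm.le⟩
      by_cases h : L ≤ Subgroup.normalizer (A' : Set G)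
      · exact hAL ((hD A' hA'max h).trans hnorm)
      · have := hmax A' ⟨hA'max, h⟩
        omega
    have hLW : L ≤ W := by
      rw [hW]
      apply le_sInf
      intro A hA
      exact hD A hA (hE A hA)
    have : W ⊓ B = L := le_antisymm hZL (le_inf hLW hLB)
    rw [this]; exact hLn


theorem zjdW_le_pCore [Finite G] {p : ℕ} [Fact p.Prime] (good : Subgroup G → Prop)
    (hc : Subgroup.centralizer (Cfsg.pCore p G : Set G) ≤ Cfsg.pCore p G)
    (hst : ∀ (P : Subgroup G) [P.Normal], IsPGroup p P → Cfsg.IsPStableOn p P) (S : Sylow p G)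
    (D : Subgroup G) (hsc : Cfsg.IsStronglyClosed D (S : Subgroup G))
    (hbot : good ⊥) (hab : ∀ U, good U → ∀ x ∈ U, ∀ y ∈ U, x * y = y * x)
    (hmap : ∀ U (ψ : G ≃* G), good U → good (U.map ψ.toMonoidHom)) :
    zjW good D ≤ Cfsg.pCore p G := by
  have hDS : D ≤ (S : Subgroup G) := hsc.1
  have hSD : (S : Subgroup G) ≤ Subgroup.normalizer (D : Set G) := by
    intro s hs
    apply Cfsg.Agent.Lib.Helper6.mem_normalizer_of_conj_mem
    intro x hx
    exact hsc.2 x hx s (S.1.mul_mem (S.1.mul_mem hs (hDS hx)) (S.1.inv_mem hs))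
  intro z hz
  haveI hQn : (Cfsg.pCore p G).Normal := Cfsg.Agent.Lib.Helper4.pCore_normal p G
  have hQp : IsPGroup p (Cfsg.pCore p G) := Cfsg.Agent.Lib.Helper4.pCore_isPGroup p G
  have hQS : Cfsg.pCore p G ≤ S := Cfsg.Agent.Lib.Helper4.normal_pGroup_le_sylow S hQn hQp
  have hzW : Subgroup.zpowers z ≤ zjW good D := by
    rw [Subgroup.zpowers_le]; exact hz
  have hq : ⁅⁅Cfsg.pCore p G, Subgroup.zpowers z⁆, Subgroup.zpowers z⁆ = ⊥ := by
    have h1 : ⁅Subgroup.zpowers z, Cfsg.pCore p G⁆ ≤ zjW good D :=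
      commutator_le_of_le_normalizer'
        ((hQS.trans hSD).trans (normalizer_le_normalizer_zjW good hmap D)) hzW
    rw [Subgroup.commutator_comm (Cfsg.pCore p G), Subgroup.commutator_eq_bot_iff_le_centralizer]
    refine h1.trans ?_
    intro w hw
    rw [Subgroup.mem_centralizer_iff]
    intro y hy
    exact zjW_comm good hbot hab D y (hzW hy) w hw
  have h2 := hst (Cfsg.pCore p G) hQp z hq
  obtain ⟨K, hK⟩ : ∃ K : Subgroup G, K = (Cfsg.pCore p
      (G ⧸ Subgroup.centralizer (Cfsg.pCore p G : Set G))).comap (QuotientGroup.mk' _) :=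
    ⟨_, rfl⟩
  have hKn : K.Normal := by
    rw [hK]
    haveI := Cfsg.Agent.Lib.Helper4.pCore_normal p
      (G ⧸ Subgroup.centralizer (Cfsg.pCore p G : Set G))
    infer_instance
  have hKp : IsPGroup p K := by
    rintro ⟨k, hk⟩
    rw [hK, Subgroup.mem_comap] at hk
    obtain ⟨a, ha⟩ := (Cfsg.Agent.Lib.Helper4.pCore_isPGroup p
      (G ⧸ Subgroup.centralizer (Cfsg.pCore p G : Set G))) ⟨_, hk⟩
    have ha' : (QuotientGroup.mk' (Subgroup.centralizer (Cfsg.pCore p G : Set G)) k) ^ p ^ a = 1 :=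
      congrArg Subtype.val ha
    rw [← map_pow, QuotientGroup.mk'_apply, QuotientGroup.eq_one_iff] at ha'
    obtain ⟨b, hb⟩ := hQp ⟨_, hc ha'⟩
    refine ⟨a + b, Subtype.ext ?_⟩
    have hb' : (k ^ p ^ a) ^ p ^ b = 1 := congrArg Subtype.val hb
    rw [Subgroup.coe_pow, pow_add, pow_mul]
    exact hb'
  have hzK : z ∈ K := by rw [hK]; exact h2
  exact (Cfsg.Agent.Lib.Helper4.le_pCore hKn hKp) hzK

theorem zjd_normal [Finite G] {p : ℕ} [Fact p.Prime] (good : Subgroup G → Prop) (hp : p ≠ 2)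
    (hc : Subgroup.centralizer (Cfsg.pCore p G : Set G) ≤ Cfsg.pCore p G)
    (hst : ∀ (P : Subgroup G) [P.Normal], IsPGroup p P → Cfsg.IsPStableOn p P) (S : Sylow p G)
    (D : Subgroup G) (hsc : Cfsg.IsStronglyClosed D (S : Subgroup G))
    (hbot : good ⊥) (hab : ∀ U, good U → ∀ x ∈ U, ∀ y ∈ U, x * y = y * x)
    (hmap : ∀ U (ψ : G ≃* G), good U → good (U.map ψ.toMonoidHom))
    (hstar : ∀ A A', good A → (∀ x ∈ A', ∀ y ∈ A', x * y = y * x) →
      (∀ n : ℕ, (∀ x ∈ A, x ^ n = 1) → ∀ x ∈ A', x ^ n = 1) → good A') :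
    (zjW good D).Normal := by
  have h1 := zjd_inter good hp hst S D hsc hbot hab hmap hstar (Nat.card (Cfsg.pCore p G))
    (Cfsg.pCore p G) (Cfsg.Agent.Lib.Helper4.pCore_normal p G)
    (Cfsg.Agent.Lib.Helper4.pCore_isPGroup p G) le_rfl
  have h2 : zjW good D ⊓ Cfsg.pCore p G = zjW good D :=
    inf_eq_left.mpr (zjdW_le_pCore good hc hst S D hsc hbot hab hmap)
  rw [h2] at h1
  exact h1

end Cfsg.Agent.Lib.Helper1
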