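import Mathlib
import Cfsg.Prelude.Def_PLocal
import Cfsg.Agent.S0649
import Cfsg.Agent.Lib.Helper1.Glauberman
import Cfsg.Agent.Lib.Lead.Basic
import Cfsg.Agent.Lib.Lead.Hall

/-!
# Replacement property of families of abelian subgroups (helper1)
-/

set_option autoImplicit false
open Pointwise
open scoped commutatorElement

namespace Cfsg.Agent.Lib.Helper1

variable {S : Type*} [Group S]

theorem gStar_le_of_normal {D U : Subgroup S} [hD : D.Normal] (hUD : U ≤ D) (b : S) :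
    gStar U b ≤ D := by
  unfold gStar gH gX
  apply sup_le (inf_le_left.trans hUD)
  rw [Subgroup.closure_le]
  rintro g ⟨a, ha, rfl⟩
  have h1 : a * b⁻¹ * a⁻¹ * b = a * (b⁻¹ * a⁻¹ * b⁻¹⁻¹) := by group
  rw [h1]
  exact D.mul_mem (hUD ha) (hD.conj_mem _ (D.inv_mem (hUD ha)) _)

/-- iterate Glauberman's replacement until `B` normalizes the member of the family -/
theorem replacement_family [Finite S] {p : ℕ} [Fact p.Prime] (hS : IsPGroup p S) (hp : p ≠ 2)
    (B : Subgroup S) [B.Normal] (Q : Subgroup S → Prop)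
    (hQab : ∀ U, Q U → ∀ x ∈ U, ∀ y ∈ U, x * y = y * x)
    (hQstar : ∀ U b, Q U → GSetup p B U b → Q (gStar U b))
    (U : Subgroup S) (hU : Q U) (hBU : ⁅B, B⁆ ≤ U) (hnBU : ¬ B ≤ U) :
    ∃ A, Q A ∧ ⁅B, B⁆ ≤ A ∧ ¬ B ≤ A ∧ B ≤ Subgroup.normalizer (A : Set S) := by
  have key : ∀ n : ℕ, ∀ U : Subgroup S, Q U → ⁅B, B⁆ ≤ U → ¬ B ≤ U →
      Nat.card B - Nat.card ↥(U ⊓ B) = n →
      ∃ A, Q A ∧ ⁅B, B⁆ ≤ A ∧ ¬ B ≤ A ∧ B ≤ Subgroup.normalizer (A : Set S) := by
    intro n
    induction n using Nat.strong_induction_on with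
    | _ n ih =>
    intro U hU hBU hnBU hn
    by_cases hnorm : B ≤ Subgroup.normalizer (U : Set S)
    · exact ⟨U, hU, hBU, hnBU, hnorm⟩
    · obtain ⟨b, hb, hbN, hbA⟩ := Cfsg.Agent.S0649.exists_normalizing_not_mem hS B _ hnorm
      have hG : GSetup p B U b :=
        ⟨hS, inferInstance, fun h2 => absurd h2 hp, hQab U hU, hBU, hb, hbN, hbA⟩
      have h1 := hG.inf_lt
      have h2 := hG.star_inf_lt
      have c1 : Nat.card ↥(U ⊓ B) < Nat.card ↥(gStar U b ⊓ B) :=
        Cfsg.Agent.Lib.Lead.card_lt_of_lt h1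
      have c2 : Nat.card ↥(gStar U b ⊓ B) < Nat.card B := Cfsg.Agent.Lib.Lead.card_lt_of_lt h2
      refine ih (Nat.card B - Nat.card ↥(gStar U b ⊓ B)) (by omega) (gStar U b)
        (hQstar U b hU hG) (hG.derived_le_H.trans le_sup_left) ?_ rfl
      intro hle
      exact (ne_of_lt h2) (inf_eq_right.mpr hle)
  exact key _ U hU hBU hnBU rfl

theorem mem_image_maxAb_iff (D U : Subgroup S) :
    U ∈ Set.image (fun A : Subgroup ↥D => A.map D.subtype) (Cfsg.maxAbelianSubgroups ↥D) ↔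
      U ≤ D ∧ (∀ x ∈ U, ∀ y ∈ U, x * y = y * x) ∧
        ∀ C : Subgroup S, C ≤ D → (∀ x ∈ C, ∀ y ∈ C, x * y = y * x) →
          Nat.card C ≤ Nat.card U := by
  constructor
  · rintro ⟨A, ⟨hAc, hAmax⟩, rfl⟩
    refine ⟨?_, ?_, ?_⟩
    · rintro _ ⟨x, -, rfl⟩; exact x.2
    · rintro _ ⟨x, hx, rfl⟩ _ ⟨y, hy, rfl⟩
      have h1 := comm_of_isMulCommutative hAc x hx y hy
      exact congrArg Subtype.val h1
    · intro C hCD hCc
      have h1 : IsMulCommutative (C.subgroupOf D) :=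
        isMulCommutative_of_comm (fun x hx y hy => Subtype.ext (hCc _ hx _ hy))
      have h2 := hAmax _ h1
      rw [Cfsg.Agent.Lib.Lead.card_subgroupOf_of_le hCD] at h2
      show Nat.card C ≤ Nat.card (A.map D.subtype)
      rw [Subgroup.card_map_of_injective D.subtype_injective]
      exact h2
  · rintro ⟨hUD, hUc, hUmax⟩
    refine ⟨U.subgroupOf D, ⟨?_, ?_⟩, Subgroup.map_subgroupOf_eq_of_le hUD⟩
    · exact isMulCommutative_of_comm (fun x hx y hy => Subtype.ext (hUc _ hx _ hy))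
    · intro C hC
      have h1 := hUmax (C.map D.subtype) (by rintro _ ⟨x, -, rfl⟩; exact x.2) (by
        rintro _ ⟨x, hx, rfl⟩ _ ⟨y, hy, rfl⟩
        exact congrArg Subtype.val (comm_of_isMulCommutative hC x hx y hy))
      rw [Subgroup.card_map_of_injective D.subtype_injective] at h1
      rw [Cfsg.Agent.Lib.Lead.card_subgroupOf_of_le hUD]
      exact h1

theorem isElementaryAbelian_subgroupOf {p : ℕ} {D C : Subgroup S}
    (hC : Cfsg.IsElementaryAbelian p C) : Cfsg.IsElementaryAbelian p (C.subgroupOf D) :=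
  ⟨isMulCommutative_of_comm (fun x hx y hy =>
      Subtype.ext (comm_of_isMulCommutative hC.1 _ hx _ hy)),
    fun a ha => Subtype.ext (by simpa using hC.2 _ ha)⟩

theorem isElementaryAbelian_map_subtype {p : ℕ} {D : Subgroup S} {C : Subgroup D}
    (hC : Cfsg.IsElementaryAbelian p C) : Cfsg.IsElementaryAbelian p (C.map D.subtype) := by
  refine ⟨isMulCommutative_of_comm ?_, ?_⟩
  · rintro _ ⟨x, hx, rfl⟩ _ ⟨y, hy, rfl⟩
    exact congrArg Subtype.val (comm_of_isMulCommutative hC.1 x hx y hy)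
  · rintro _ ⟨x, hx, rfl⟩
    have h1 := congrArg Subtype.val (hC.2 x hx)
    simpa using h1

theorem mem_image_maxEA_iff (p : ℕ) (D U : Subgroup S) :
    U ∈ Set.image (fun A : Subgroup ↥D => A.map D.subtype)
        (Cfsg.maxElementaryAbelianSubgroups p ↥D) ↔
      U ≤ D ∧ Cfsg.IsElementaryAbelian p U ∧
        ∀ C : Subgroup S, C ≤ D → Cfsg.IsElementaryAbelian p C → Nat.card C ≤ Nat.card U := by
  constructor
  · rintro ⟨A, ⟨hAc, hAmax⟩, rfl⟩
    refine ⟨?_, isElementaryAbelian_map_subtype hAc, ?_⟩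
    · rintro _ ⟨x, -, rfl⟩; exact x.2
    · intro C hCD hCc
      have h2 := hAmax _ (isElementaryAbelian_subgroupOf (D := D) hCc)
      rw [Cfsg.Agent.Lib.Lead.card_subgroupOf_of_le hCD] at h2
      show Nat.card C ≤ Nat.card (A.map D.subtype)
      rw [Subgroup.card_map_of_injective D.subtype_injective]
      exact h2
  · rintro ⟨hUD, hUc, hUmax⟩
    refine ⟨U.subgroupOf D, ⟨isElementaryAbelian_subgroupOf hUc, ?_⟩,
      Subgroup.map_subgroupOf_eq_of_le hUD⟩
    intro C hC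
    have h1 := hUmax (C.map D.subtype) (by rintro _ ⟨x, -, rfl⟩; exact x.2)
      (isElementaryAbelian_map_subtype hC)
    rw [Subgroup.card_map_of_injective D.subtype_injective] at h1
    rw [Cfsg.Agent.Lib.Lead.card_subgroupOf_of_le hUD]
    exact h1

end Cfsg.Agent.Lib.Helper1
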