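import Mathlib
import Cfsg.Agent.Lib.Helper1.GRD4
import Cfsg.Agent.Lib.Helper1.ZJD
import Cfsg.Agent.Lib.Helper8.PStab
import Cfsg.Agent.Lib.Helper2.Comp17
import Cfsg.Agent.S3079

/-!
# Local ZJ-factorization for strongly closed subgroups (helper1)

Normalizer-form `p`-stability under subgroups and quotients by normal `p'`-subgroups;
`X = O_{p'}(X) N_X(W(D))` for `p`-constrained, `p`-stable `X`; control of strong fusion from
such a factorization.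
-/

set_option autoImplicit false

namespace Cfsg.Agent.Lib.Helper1

universe u

theorem nps_iff_pred {G : Type*} [Group G] (p : ℕ) :
    Cfsg.IsNormalizerPStable p G ↔ ∀ Q : Subgroup G, IsPGroup p Q →
      ∀ g ∈ Subgroup.normalizer (Q : Set G),
      ⁅⁅Q, Subgroup.zpowers g⁆, Subgroup.zpowers g⁆ = ⊥ →
      Cfsg.Agent.Lib.Helper8.PStabPred p Q g := by
  constructor
  · intro h Q hQ g hg hq
    exact (Cfsg.Agent.Lib.Helper8.pstab_quot_iff p Q g hg).mp (h Q hQ g hg hq)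
  · intro h Q hQ g hg hq
    exact (Cfsg.Agent.Lib.Helper8.pstab_quot_iff p Q g hg).mpr (h Q hQ g hg hq)

theorem nps_subgroup {G : Type*} [Group G] {p : ℕ} (h : Cfsg.IsNormalizerPStable p G)
    (H : Subgroup G) : Cfsg.IsNormalizerPStable p ↥H := by
  rw [nps_iff_pred] at h ⊢
  intro Q hQ g hg hq
  obtain ⟨Q', hQ'⟩ : ∃ Q' : Subgroup G, Q' = Q.map H.subtype := ⟨_, rfl⟩
  have hup : ∀ n : ↥H, n ∈ Subgroup.normalizer (Q : Set ↥H) →
      (n : G) ∈ Subgroup.normalizer (Q' : Set G) := by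
    intro n hn
    rw [hQ']
    exact Subgroup.le_normalizer_map H.subtype ⟨n, hn, rfl⟩
  have hdown : ∀ n : ↥H, (n : G) ∈ Subgroup.normalizer (Q' : Set G) →
      n ∈ Subgroup.normalizer (Q : Set ↥H) := by
    intro n hn
    rw [hQ'] at hn
    have h1 : n ∈ (Subgroup.normalizer ((Q.map H.subtype : Subgroup G) : Set G)).comap H.subtype :=
      hn
    have h2 := Subgroup.le_normalizer_comap H.subtype h1
    rwa [Subgroup.comap_map_eq_self_of_injective H.subtype_injective] at h2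
  have hq' : ⁅⁅Q', Subgroup.zpowers (g : G)⁆, Subgroup.zpowers (g : G)⁆ = ⊥ := by
    have h1 : Subgroup.zpowers (g : G) = (Subgroup.zpowers g).map H.subtype := by
      rw [MonoidHom.map_zpowers]; rfl
    rw [hQ', h1, ← Subgroup.map_commutator, ← Subgroup.map_commutator, hq, Subgroup.map_bot]
  obtain ⟨L, hgL, hLN, hnorm, hpow⟩ := h Q' (hQ' ▸ hQ.map _) (g : G) (hup g hg) hq'
  refine ⟨L.subgroupOf H, Subgroup.mem_subgroupOf.mpr hgL, ?_, ?_, ?_⟩
  · intro l hl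
    exact hdown l (hLN (Subgroup.mem_subgroupOf.mp hl))
  · intro n hn l hl
    rw [Subgroup.mem_subgroupOf] at hl ⊢
    exact hnorm (n : G) (hup n hn) (l : G) hl
  · intro l hl
    obtain ⟨k, hk⟩ := hpow (l : G) (Subgroup.mem_subgroupOf.mp hl)
    refine ⟨k, ?_⟩
    rw [Subgroup.mem_centralizer_iff] at hk ⊢
    intro q hq
    apply Subtype.ext
    have := hk (q : G) (hQ' ▸ ⟨q, hq, rfl⟩)
    simpa using this

theorem nps_quot_pprime {X : Type u} [Group X] [Finite X] {p : ℕ} [Fact p.Prime]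
    (h : Cfsg.IsNormalizerPStable p X) (O : Subgroup X) [hOn : O.Normal]
    (hO : (Nat.card O).Coprime p) : Cfsg.IsNormalizerPStable p (X ⧸ O) := by
  rw [nps_iff_pred] at h ⊢
  intro Qb hQb gb hgb hqb
  obtain ⟨π, hπ⟩ : ∃ π : X →* X ⧸ O, π = QuotientGroup.mk' O := ⟨_, rfl⟩
  have hπs : Function.Surjective π := by rw [hπ]; exact QuotientGroup.mk'_surjective _
  have hπk : π.ker = O := by rw [hπ]; exact QuotientGroup.ker_mk' _
  obtain ⟨Sb, hSb⟩ := hQb.exists_le_sylow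
  obtain ⟨S, hS⟩ := Sylow.mapSurjective_surjective hπs p Sb
  have hSbS : (Sb : Subgroup (X ⧸ O)) = (S : Subgroup X).map π := by rw [← hS]; rfl
  obtain ⟨Q, hQdef⟩ : ∃ Q : Subgroup X, Q = (S : Subgroup X) ⊓ Qb.comap π := ⟨_, rfl⟩
  have hQp : IsPGroup p Q := S.isPGroup'.to_le (by rw [hQdef]; exact inf_le_left)
  have hQmap : Q.map π = Qb := by
    apply le_antisymm
    · rintro _ ⟨q, hq, rfl⟩
      rw [hQdef] at hq; exact (Subgroup.mem_inf.mp hq).2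
    · intro y hy
      have : y ∈ (S : Subgroup X).map π := by rw [← hSbS]; exact hSb hy
      obtain ⟨s, hs, rfl⟩ := this
      exact ⟨s, by rw [hQdef]; exact Subgroup.mem_inf.mpr ⟨hs, hy⟩, rfl⟩
  have hlift : ∀ nb : X ⧸ O, nb ∈ Subgroup.normalizer (Qb : Set (X ⧸ O)) →
      ∃ n ∈ Subgroup.normalizer (Q : Set X), π n = nb := by
    intro nb hnb
    have hnb' : nb ∈ Subgroup.normalizer
        ((Q.map (QuotientGroup.mk' O) : Subgroup (X ⧸ O)) : Set (X ⧸ O)) := by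
      rw [← hπ, hQmap]; exact hnb
    obtain ⟨n, hnN, hnn⟩ := normalizer_map_pprime O hO Q hQp hnb'
    exact ⟨n, hnN, by rw [hπ]; exact hnn⟩
  obtain ⟨g, hgN, hgg⟩ := hlift gb hgb
  have hq : ⁅⁅Q, Subgroup.zpowers g⁆, Subgroup.zpowers g⁆ = ⊥ := by
    obtain ⟨Hc, hHc⟩ : ∃ Hc, Hc = ⁅⁅Q, Subgroup.zpowers g⁆, Subgroup.zpowers g⁆ := ⟨_, rfl⟩
    rw [← hHc]
    have hzN : Subgroup.zpowers g ≤ Subgroup.normalizer (Q : Set X) := by
      rw [Subgroup.zpowers_le]; exact hgN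
    have hcomm : ∀ (A : Subgroup X), A ≤ Q → ⁅A, Subgroup.zpowers g⁆ ≤ Q := by
      intro A hA
      rw [Subgroup.commutator_le]
      intro a ha z hz
      have hzN' := hzN hz
      rw [commutatorElement_def]
      have : a * z * a⁻¹ * z⁻¹ = a * (z * a⁻¹ * z⁻¹) := by group
      rw [this]
      exact Q.mul_mem (hA ha)
        ((Subgroup.mem_normalizer_iff.mp hzN' a⁻¹).mp (Q.inv_mem (hA ha)))
    have h2 : Hc ≤ Q := by rw [hHc]; exact hcomm _ (hcomm Q le_rfl)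
    have h3 : Hc.map π = ⊥ := by
      rw [hHc, Subgroup.map_commutator, Subgroup.map_commutator, hQmap, MonoidHom.map_zpowers,
        hgg]
      exact hqb
    have h4 : Hc ≤ O := by
      rw [← hπk]; intro x hx; rw [MonoidHom.mem_ker]
      have : π x ∈ Hc.map π := ⟨x, hx, rfl⟩
      rw [h3, Subgroup.mem_bot] at this; exact this
    rw [eq_bot_iff]
    intro x hx
    rw [Subgroup.mem_bot]
    obtain ⟨k, hk⟩ := hQp ⟨x, h2 hx⟩
    have h5 : x ^ (p ^ k) = 1 := pow_eq_one_of_subtype (h2 hx) hk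
    have h6 : orderOf x ∣ p ^ k := orderOf_dvd_of_pow_eq_one h5
    have h7 : orderOf x ∣ Nat.card O := by
      have := orderOf_dvd_natCard (⟨x, h4 hx⟩ : O)
      rwa [Subgroup.orderOf_mk] at this
    exact orderOf_eq_one_iff.mp (Nat.eq_one_of_dvd_coprimes (Nat.Coprime.pow_right k hO) h7 h6)
  obtain ⟨L, hgL, hLN, hnorm, hpow⟩ := h Q hQp g hgN hq
  refine ⟨L.map π, ⟨g, hgL, hgg⟩, ?_, ?_, ?_⟩
  · rw [← hQmap]
    exact (Subgroup.map_mono hLN).trans (Subgroup.le_normalizer_map π)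
  · intro nb hnb lb hlb
    obtain ⟨l, hl, rfl⟩ := hlb
    obtain ⟨n, hnN, hnn⟩ := hlift nb hnb
    refine ⟨n * l * n⁻¹, hnorm n hnN l hl, ?_⟩
    rw [map_mul, map_mul, map_inv, hnn]
  · intro lb hlb
    obtain ⟨l, hl, rfl⟩ := hlb
    obtain ⟨k, hk⟩ := hpow l hl
    refine ⟨k, ?_⟩
    rw [← map_pow, ← hQmap, Subgroup.mem_centralizer_iff]
    rintro _ ⟨q, hq, rfl⟩
    rw [← map_mul, ← map_mul, Subgroup.mem_centralizer_iff.mp hk q hq]

/-- the local factorization `X = O_{p'}(X) N_X(W(D₁))` -/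
theorem local_zj {p : ℕ} [Fact p.Prime]
    {W : ∀ (X : Type u) [Group X], Subgroup X → Subgroup X} (hW : DFunctor p W)
    (hnorm : ∀ (Y : Type u) [Group Y] [Finite Y],
      Subgroup.centralizer (Cfsg.pCore p Y : Set Y) ≤ Cfsg.pCore p Y →
      (∀ (B : Subgroup Y) [B.Normal], IsPGroup p B → Cfsg.IsPStableOn p B) →
      ∀ (T : Sylow p Y) (D : Subgroup Y), Cfsg.IsStronglyClosed D (T : Subgroup Y) →
        (W Y D).Normal)
    {X : Type u} [Group X] [Finite X] (hc : Cfsg.IsPConstrained p X)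
    (hst : Cfsg.IsNormalizerPStable p X) (R : Sylow p X) (D₁ : Subgroup X)
    (hD₁ : Cfsg.IsStronglyClosed D₁ (R : Subgroup X)) :
    Cfsg.pPrimeCore p X ⊔ Subgroup.normalizer (W X D₁ : Set X) = ⊤ := by
  have hOc : (Nat.card ↥(Cfsg.pPrimeCore p X)).Coprime p :=
    Cfsg.Agent.Lib.Helper4.pPrimeCore_coprime p X
  obtain ⟨π, hπ⟩ : ∃ π : X →* X ⧸ Cfsg.pPrimeCore p X, π = QuotientGroup.mk' _ := ⟨_, rfl⟩
  have hπs : Function.Surjective π := by rw [hπ]; exact QuotientGroup.mk'_surjective _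
  have hcb := (Cfsg.Agent.Lib.Helper2.Comp.isPConstrained_iff p).mp hc
  have hstb : Cfsg.IsNormalizerPStable p (X ⧸ Cfsg.pPrimeCore p X) :=
    nps_quot_pprime hst _ hOc
  obtain ⟨Sb, hSb⟩ : ∃ Sb : Sylow p (X ⧸ Cfsg.pPrimeCore p X),
      (Sb : Subgroup (X ⧸ Cfsg.pPrimeCore p X)) = (R : Subgroup X).map π :=
    ⟨R.mapSurjective hπs, rfl⟩
  have hscb : Cfsg.IsStronglyClosed (D₁.map π) (Sb : Subgroup (X ⧸ Cfsg.pPrimeCore p X)) := by
    rw [hSb, hπ]; exact sc_map_mk R D₁ hD₁ _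
  have hn := hnorm (X ⧸ Cfsg.pPrimeCore p X) hcb
    (fun B _ hB => Cfsg.Agent.S3079.pstableOn_of_normalizer hstb B hB) Sb (D₁.map π) hscb
  have hinj : ∀ x ∈ D₁, π x = 1 → x = 1 := by
    intro x hx hx1
    have hxO : x ∈ Cfsg.pPrimeCore p X := by
      rw [hπ] at hx1; exact (QuotientGroup.eq_one_iff x).mp hx1
    obtain ⟨k, hk⟩ := R.isPGroup' ⟨x, hD₁.1 hx⟩
    have h1 : x ^ (p ^ k) = 1 := pow_eq_one_of_subtype (hD₁.1 hx) hk
    have h2 : orderOf x ∣ p ^ k := orderOf_dvd_of_pow_eq_one h1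
    have h3 : orderOf x ∣ Nat.card ↥(Cfsg.pPrimeCore p X) := by
      have := orderOf_dvd_natCard (⟨x, hxO⟩ : ↥(Cfsg.pPrimeCore p X))
      rwa [Subgroup.orderOf_mk] at this
    have h4 : orderOf x = 1 := Nat.eq_one_of_dvd_coprimes (Nat.Coprime.pow_right k hOc) h3 h2
    exact orderOf_eq_one_iff.mp h4
  have h5 : W (X ⧸ Cfsg.pPrimeCore p X) (D₁.map π) = (W X D₁).map π := hW.map _ _ π D₁ hinj
  rw [h5, hπ] at hn
  have hZp : IsPGroup p ↥(W X D₁) := R.isPGroup'.to_le ((hW.le X D₁).trans hD₁.1)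
  exact sup_normalizer_eq_top_of_map_normal (Cfsg.pPrimeCore p X) hOc (W X D₁) hZp hn

/-- a factorization `X = O K` with `O` a normal `p'`-subgroup gives control of strong fusion of
`p`-subgroups of `K` by `K` -/
theorem ctl_of_sup_eq_top {X : Type*} [Group X] [Finite X] {p : ℕ} [Fact p.Prime]
    (O K : Subgroup X) [hOn : O.Normal] (hO : (Nat.card O).Coprime p) (hOK : O ⊔ K = ⊤)
    (B : Subgroup X) (hB : IsPGroup p B) (hBK : B ≤ K) (y : X)
    (hy : ∀ b ∈ B, y * b * y⁻¹ ∈ K) :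
    ∃ k ∈ K, ∀ b ∈ B, y * b * y⁻¹ = k * b * k⁻¹ := by
  have hyt : y ∈ K ⊔ O := by rw [sup_comm, hOK]; trivial
  obtain ⟨k₀, hk₀, o, ho, rfl⟩ := Subgroup.mem_sup_of_normal_right.mp hyt
  have hoB : ∀ b ∈ B, o * b * o⁻¹ ∈ K := by
    intro b hb
    have h1 := hy b hb
    have e : o * b * o⁻¹ = k₀⁻¹ * (k₀ * o * b * (k₀ * o)⁻¹) * k₀ := by group
    rw [e]; exact K.mul_mem (K.mul_mem (K.inv_mem hk₀) h1) hk₀
  have hinv : ∀ b ∈ B, (o⁻¹)⁻¹ * b * o⁻¹ * b⁻¹ ∈ O ⊓ K := by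
    intro b hb
    rw [inv_inv]
    refine Subgroup.mem_inf.mpr ⟨?_, K.mul_mem (hoB b hb) (K.inv_mem (hBK hb))⟩
    have : o * b * o⁻¹ * b⁻¹ = o * (b * o⁻¹ * b⁻¹) := by group
    rw [this]; exact O.mul_mem ho (hOn.conj_mem _ (O.inv_mem ho) b)
  have hBN : B ≤ Subgroup.normalizer ((O ⊓ K : Subgroup X) : Set X) := by
    intro b hb
    apply Cfsg.Agent.Lib.Helper6.mem_normalizer_of_conj_mem
    intro e he
    obtain ⟨he1, he2⟩ := Subgroup.mem_inf.mp he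
    exact Subgroup.mem_inf.mpr ⟨hOn.conj_mem e he1 b,
      K.mul_mem (K.mul_mem (hBK hb) he2) (K.inv_mem (hBK hb))⟩
  have hcop : (Nat.card B).Coprime (Nat.card ↥(O ⊓ K)) := by
    obtain ⟨n, hn⟩ := IsPGroup.iff_card.mp hB
    rw [hn]
    apply Nat.Coprime.pow_left
    have h1 : Nat.card ↥(O ⊓ K) ∣ Nat.card O := Subgroup.card_dvd_of_le inf_le_left
    exact (Nat.Coprime.coprime_dvd_left h1 hO).symm
  obtain ⟨d, hd, hdc⟩ := Cfsg.Agent.Lib.Helper2.Comp.coset_fixed_point' B (O ⊓ K) hBN hcop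
    (Or.inl (Cfsg.Agent.Lib.Helper2.Comp.isSolvable_of_isPGroup p hB)) o⁻¹ hinv
  refine ⟨k₀ * d, K.mul_mem hk₀ (Subgroup.mem_inf.mp hd).2, ?_⟩
  intro b hb
  have h1 := Subgroup.mem_centralizer_iff.mp hdc b hb
  have h2 : o * b * o⁻¹ = d * b * d⁻¹ := by
    have : o * b * o⁻¹ = o * (b * (o⁻¹ * d)) * d⁻¹ := by group
    rw [this, h1]; group
  calc k₀ * o * b * (k₀ * o)⁻¹ = k₀ * (o * b * o⁻¹) * k₀⁻¹ := by group
    _ = k₀ * (d * b * d⁻¹) * k₀⁻¹ := by rw [h2]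
    _ = k₀ * d * b * (k₀ * d)⁻¹ := by group

end Cfsg.Agent.Lib.Helper1
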