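import Mathlib
import Cfsg.Agent.Lib.Helper1.FD1
import Cfsg.Agent.Lib.Helper3.SylowIn

/-!
# Control of strong fusion by `N(W(D))` for a strongly closed subgroup `D` (helper1)

Fully normalized conjugates and the double induction.
-/

set_option autoImplicit false

namespace Cfsg.Agent.Lib.Helper1

universe u

theorem conj_mem_normalizer_map {G : Type*} [Group G] [Finite G] (U : Subgroup G) (m y : G)
    (hy : y ∈ Subgroup.normalizer (U : Set G)) :
    m * y * m⁻¹ ∈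
      Subgroup.normalizer ((U.map (MulAut.conj m).toMonoidHom : Subgroup G) : Set G) := by
  apply Cfsg.Agent.Lib.Helper6.mem_normalizer_of_conj_mem
  rintro _ ⟨u, hu, rfl⟩
  refine ⟨y * u * y⁻¹, (Subgroup.mem_normalizer_iff.mp hy u).mp hu, ?_⟩
  simp only [MulEquiv.coe_toMonoidHom, MulAut.conj_apply]
  group

/-- `U'` is fully normalized in `P`: `N_P(U')` is a Sylow subgroup of `N_G(U')` -/
def FullyNorm {G : Type*} [Group G] {p : ℕ} (P : Sylow p G) (U' : Subgroup G) : Prop :=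
  ∃ R : Sylow p ↥(Subgroup.normalizer (U' : Set G)),
    (R : Subgroup ↥(Subgroup.normalizer (U' : Set G))).map
      (Subgroup.normalizer (U' : Set G)).subtype =
      (P : Subgroup G) ⊓ Subgroup.normalizer (U' : Set G)

theorem exists_fn {G : Type*} [Group G] [Finite G] {p : ℕ} [Fact p.Prime] (P : Sylow p G)
    (U : Subgroup G) (hUp : IsPGroup p U) :
    ∃ (h : G) (U' : Subgroup G), U' = U.map (MulAut.conj h).toMonoidHom ∧
      U' ≤ (P : Subgroup G) ∧ FullyNorm P U' := by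
  have hp : p.Prime := Fact.out
  obtain ⟨N, hN⟩ : ∃ N : Subgroup G, N = Subgroup.normalizer (U : Set G) := ⟨_, rfl⟩
  obtain ⟨R₀⟩ : Nonempty (Sylow p ↥N) := inferInstance
  obtain ⟨R₀', hR₀'⟩ : ∃ R₀' : Subgroup G, R₀' = (R₀ : Subgroup ↥N).map N.subtype := ⟨_, rfl⟩
  have hR₀'p : IsPGroup p R₀' := by rw [hR₀']; exact R₀.isPGroup'.map _
  have hUR : U ≤ R₀' := by
    have hUN : U ≤ N := by rw [hN]; exact Subgroup.le_normalizer
    have hnorm : (U.subgroupOf N).Normal := by rw [hN]; exact Subgroup.normal_in_normalizer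
    have h1 : U.subgroupOf N ≤ (R₀ : Subgroup ↥N) :=
      Cfsg.Agent.Lib.Helper4.normal_pGroup_le_sylow R₀ hnorm hUp.comap_subtype
    intro u hu
    rw [hR₀']
    exact ⟨⟨u, hUN hu⟩, h1 (Subgroup.mem_subgroupOf.mpr hu), rfl⟩
  obtain ⟨P₀, hP₀⟩ := hR₀'p.exists_le_sylow
  obtain ⟨h, hh⟩ := MulAction.exists_smul_eq G P₀ P
  have hPeq : (P : Subgroup G) = (P₀ : Subgroup G).map (MulAut.conj h).toMonoidHom := by
    rw [← hh, Sylow.coe_subgroup_smul]; rfl
  obtain ⟨U', hU'⟩ : ∃ U' : Subgroup G, U' = U.map (MulAut.conj h).toMonoidHom := ⟨_, rfl⟩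
  obtain ⟨N', hN'⟩ : ∃ N' : Subgroup G, N' = Subgroup.normalizer (U' : Set G) := ⟨_, rfl⟩
  have hNN' : N' = N.map (MulAut.conj h).toMonoidHom := by
    rw [hN', hU', hN]; exact Cfsg.Agent.Lib.Helper3.normalizer_map_conj U h
  obtain ⟨Q, hQ⟩ : ∃ Q : Subgroup G, Q = R₀'.map (MulAut.conj h).toMonoidHom := ⟨_, rfl⟩
  have hQP : Q ≤ (P : Subgroup G) ⊓ N' := by
    rw [hQ, hPeq, hNN']
    apply le_inf
    · exact Subgroup.map_mono hP₀
    · apply Subgroup.map_mono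
      rw [hR₀']
      rintro _ ⟨r, _, rfl⟩
      exact r.2
  have hcardQ : Nat.card Q = p ^ (Nat.card N).factorization p := by
    rw [hQ, Subgroup.card_map_of_injective (MulAut.conj h).injective, hR₀',
      Subgroup.card_map_of_injective N.subtype_injective, R₀.card_eq_multiplicity]
  have hcardN : Nat.card N' = Nat.card N := by
    rw [hNN', Subgroup.card_map_of_injective (MulAut.conj h).injective]
  refine ⟨h, U', hU', ?_, ?_⟩
  · rw [hU', hPeq]; exact Subgroup.map_mono (hUR.trans hP₀)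
  · unfold FullyNorm
    rw [← hN']
    have hXp : IsPGroup p (((P : Subgroup G) ⊓ N').subgroupOf N') :=
      (P.isPGroup'.to_le inf_le_left : IsPGroup p ↥((P : Subgroup G) ⊓ N')).comap_subtype
    obtain ⟨R, hR⟩ := hXp.exists_le_sylow
    refine ⟨R, ?_⟩
    have hcard1 : Nat.card (((P : Subgroup G) ⊓ N').subgroupOf N') =
        Nat.card ↥((P : Subgroup G) ⊓ N') :=
      Nat.card_congr (Subgroup.subgroupOfEquivOfLe inf_le_right).toEquiv
    have hcard2 : Nat.card (R : Subgroup ↥N') ≤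
        Nat.card (((P : Subgroup G) ⊓ N').subgroupOf N') := by
      rw [R.card_eq_multiplicity, hcardN, ← hcardQ, hcard1]
      exact Subgroup.card_le_of_le hQP
    have heq : ((P : Subgroup G) ⊓ N').subgroupOf N' = (R : Subgroup ↥N') :=
      Subgroup.eq_of_le_of_card_ge hR hcard2
    rw [← heq]
    exact Subgroup.map_subgroupOf_eq_of_le inf_le_right

theorem fn_adjust {G : Type*} [Group G] [Finite G] {p : ℕ} [Fact p.Prime] (P : Sylow p G)
    (U' : Subgroup G) (hfn : FullyNorm P U') (U₁ : Subgroup G) (k : G)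
    (hk : U₁.map (MulAut.conj k).toMonoidHom = U') :
    ∃ n ∈ Subgroup.normalizer (U' : Set G),
      ∀ x ∈ (P : Subgroup G) ⊓ Subgroup.normalizer (U₁ : Set G),
      n * k * x * (n * k)⁻¹ ∈ (P : Subgroup G) ⊓ Subgroup.normalizer (U' : Set G) := by
  obtain ⟨R, hR⟩ := hfn
  obtain ⟨Q₁, hQ₁⟩ : ∃ Q₁ : Subgroup G, Q₁ =
      ((P : Subgroup G) ⊓ Subgroup.normalizer (U₁ : Set G)).map (MulAut.conj k).toMonoidHom :=
    ⟨_, rfl⟩
  have hQ₁p : IsPGroup p Q₁ := by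
    rw [hQ₁]
    exact (P.isPGroup'.to_le inf_le_left :
      IsPGroup p ↥((P : Subgroup G) ⊓ Subgroup.normalizer (U₁ : Set G))).map _
  have hQ₁N : Q₁ ≤ Subgroup.normalizer (U' : Set G) := by
    rw [hQ₁]
    rintro _ ⟨x, hx, rfl⟩
    have := conj_mem_normalizer_map U₁ k x (Subgroup.mem_inf.mp hx).2
    rw [hk] at this
    exact this
  have hQp : IsPGroup p (Q₁.subgroupOf (Subgroup.normalizer (U' : Set G))) :=
    hQ₁p.comap_subtype
  obtain ⟨R₁, hR₁⟩ := hQp.exists_le_sylow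
  obtain ⟨n, hn⟩ := MulAction.exists_smul_eq ↥(Subgroup.normalizer (U' : Set G)) R R₁
  refine ⟨(n : G)⁻¹, Subgroup.inv_mem _ n.2, ?_⟩
  intro x hx
  have hq : k * x * k⁻¹ ∈ Q₁ := by rw [hQ₁]; exact ⟨x, hx, rfl⟩
  have h1 : (⟨k * x * k⁻¹, hQ₁N hq⟩ : ↥(Subgroup.normalizer (U' : Set G))) ∈
      (R₁ : Subgroup ↥(Subgroup.normalizer (U' : Set G))) :=
    hR₁ (Subgroup.mem_subgroupOf.mpr hq)
  rw [← hn, Sylow.coe_subgroup_smul, Subgroup.mem_pointwise_smul_iff_inv_smul_mem] at h1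
  have h3 := Subgroup.mem_map_of_mem (Subgroup.normalizer (U' : Set G)).subtype h1
  rw [hR] at h3
  have e : (n : G)⁻¹ * k * x * ((n : G)⁻¹ * k)⁻¹ = (n : G)⁻¹ * (k * x * k⁻¹) * (n : G) := by
    group
  rw [e]
  simpa [MulAut.smul_def, MulAut.conj_apply] using h3

/-- `g` acts on `A` like an element of `M` -/
def Fus {G : Type*} [Group G] (M : Subgroup G) (A : Subgroup G) (g : G) : Prop :=
  ∃ m ∈ M, ∀ a ∈ A, g * a * g⁻¹ = m * a * m⁻¹

theorem fd_inner {p : ℕ} [Fact p.Prime]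
    {W : ∀ (X : Type u) [Group X], Subgroup X → Subgroup X} (hW : DFunctor p W)
    (hnorm : ∀ (Y : Type u) [Group Y] [Finite Y],
      Subgroup.centralizer (Cfsg.pCore p Y : Set Y) ≤ Cfsg.pCore p Y →
      (∀ (B : Subgroup Y) [B.Normal], IsPGroup p B → Cfsg.IsPStableOn p B) →
      ∀ (T : Sylow p Y) (D : Subgroup Y), Cfsg.IsStronglyClosed D (T : Subgroup Y) →
        (W Y D).Normal)
    {G : Type u} [Group G] [Finite G] (P : Sylow p G) (D : Subgroup G)
    (hD : Cfsg.IsStronglyClosed D (P : Subgroup G)) (hDne : D ≠ ⊥)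
    (hst : Cfsg.IsNormalizerPStable p G)
    (hc : ∀ U : Subgroup G, U ≤ (P : Subgroup G) → U ≠ ⊥ →
      Cfsg.IsPConstrained p ↥(Subgroup.normalizer (U : Set G)))
    (a : ℕ)
    (IHo : ∀ A' : Subgroup G, A' ≤ (P : Subgroup G) → a < Nat.card A' → ∀ g : G,
      (∀ x ∈ A', g * x * g⁻¹ ∈ (P : Subgroup G)) →
      Fus (Subgroup.normalizer (W G D : Set G)) A' g) :
    ∀ (e : ℕ) (U : Subgroup G), U ≤ (P : Subgroup G) → U ≠ ⊥ →
      Nat.card (P : Subgroup G) -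
        Nat.card ↥((P : Subgroup G) ⊓ Subgroup.normalizer (U : Set G)) = e →
      a < Nat.card ↥((P : Subgroup G) ⊓ Subgroup.normalizer (U : Set G)) →
      ∀ B : Subgroup G, B ≤ (P : Subgroup G) ⊓ Subgroup.normalizer (U : Set G) →
      ∀ y ∈ Subgroup.normalizer (U : Set G), (∀ b ∈ B, y * b * y⁻¹ ∈ (P : Subgroup G)) →
      Fus (Subgroup.normalizer (W G D : Set G)) B y := by
  obtain ⟨M, hM⟩ : ∃ M : Subgroup G, M = Subgroup.normalizer (W G D : Set G) := ⟨_, rfl⟩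
  rw [← hM] at IHo ⊢
  intro e
  induction e using Nat.strong_induction_on with
  | _ e IHe =>
  intro U hUP hUne he ha B hBU y hyU hyB
  obtain ⟨PU, hPU⟩ : ∃ PU : Subgroup G,
      PU = (P : Subgroup G) ⊓ Subgroup.normalizer (U : Set G) := ⟨_, rfl⟩
  rw [← hPU] at he ha hBU
  have hUPU : U ≤ PU := by rw [hPU]; exact le_inf hUP Subgroup.le_normalizer
  -- fully normalize
  obtain ⟨h₀, U', hU', hU'P, hfn⟩ := exists_fn P U (P.isPGroup'.to_le hUP)
  obtain ⟨n, hn, hnk⟩ := fn_adjust P U' hfn U h₀ hU'.symm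
  obtain ⟨h, hh⟩ : ∃ h : G, h = n * h₀ := ⟨_, rfl⟩
  rw [← hh] at hnk
  have hhP : ∀ x ∈ PU, h * x * h⁻¹ ∈ (P : Subgroup G) := by
    intro x hx; rw [hPU] at hx; exact (Subgroup.mem_inf.mp (hnk x hx)).1
  obtain ⟨m, hmM, hm⟩ := IHo PU (by rw [hPU]; exact inf_le_left) ha h hhP
  have hU'm : U' = U.map (MulAut.conj m).toMonoidHom := by
    ext x
    constructor
    · intro hx
      have h1 : n⁻¹ * x * n ∈ U' := by
        have := (Subgroup.mem_normalizer_iff.mp (Subgroup.inv_mem _ hn) x).mp hx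
        simpa using this
      rw [hU'] at h1
      obtain ⟨u, hu, hux⟩ := h1
      refine ⟨u, hu, ?_⟩
      show m * u * m⁻¹ = x
      rw [← hm u (hUPU hu), hh]
      have hux' : h₀ * u * h₀⁻¹ = n⁻¹ * x * n := hux
      calc n * h₀ * u * (n * h₀)⁻¹ = n * (h₀ * u * h₀⁻¹) * n⁻¹ := by group
        _ = x := by rw [hux']; group
    · rintro ⟨u, hu, rfl⟩
      show m * u * m⁻¹ ∈ U'
      rw [← hm u (hUPU hu), hh]
      have h1 : h₀ * u * h₀⁻¹ ∈ U' := by rw [hU']; exact ⟨u, hu, rfl⟩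
      have h2 := (Subgroup.mem_normalizer_iff.mp hn _).mp h1
      have e : n * h₀ * u * (n * h₀)⁻¹ = n * (h₀ * u * h₀⁻¹) * n⁻¹ := by group
      rw [e]; exact h2
  have hU'ne : U' ≠ ⊥ := by
    intro h0; apply hUne
    rw [hU'm] at h0
    exact (Subgroup.map_eq_bot_iff_of_injective _ (MulAut.conj m).injective).mp h0
  -- transported data
  obtain ⟨y', hy'⟩ : ∃ y' : G, y' = m * y * m⁻¹ := ⟨_, rfl⟩
  obtain ⟨B', hB'⟩ : ∃ B' : Subgroup G, B' = B.map (MulAut.conj m).toMonoidHom := ⟨_, rfl⟩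
  have hy'N : y' ∈ Subgroup.normalizer (U' : Set G) := by
    rw [hy', hU'm]; exact conj_mem_normalizer_map U m y hyU
  have hmP : ∀ x ∈ PU, m * x * m⁻¹ ∈ (P : Subgroup G) ⊓ Subgroup.normalizer (U' : Set G) := by
    intro x hx
    rw [← hm x hx]
    exact hnk x (by rw [← hPU]; exact hx)
  have hB'le : B' ≤ (P : Subgroup G) ⊓ Subgroup.normalizer (U' : Set G) := by
    rw [hB']
    rintro _ ⟨b, hb, rfl⟩
    exact hmP b (hBU hb)
  have hyBPU : ∀ b ∈ B, y * b * y⁻¹ ∈ PU := by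
    intro b hb
    rw [hPU]
    refine Subgroup.mem_inf.mpr ⟨hyB b hb, ?_⟩
    have hbN : b ∈ Subgroup.normalizer (U : Set G) := by
      have := hBU hb; rw [hPU] at this; exact (Subgroup.mem_inf.mp this).2
    exact Subgroup.mul_mem _ (Subgroup.mul_mem _ hyU hbN) (Subgroup.inv_mem _ hyU)
  have hy'B' : ∀ b' ∈ B', y' * b' * y'⁻¹ ∈
      (P : Subgroup G) ⊓ Subgroup.normalizer (U' : Set G) := by
    rw [hB']
    rintro _ ⟨b, hb, rfl⟩
    have h1 := hmP _ (hyBPU b hb)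
    have e : y' * (m * b * m⁻¹) * y'⁻¹ = m * (y * b * y⁻¹) * m⁻¹ := by rw [hy']; group
    show y' * (m * b * m⁻¹) * y'⁻¹ ∈ _
    rw [e]; exact h1
  suffices hsuff : Fus M B' y' by
    obtain ⟨m₁, hm₁M, hm₁⟩ := hsuff
    refine ⟨m⁻¹ * m₁ * m, M.mul_mem (M.mul_mem (M.inv_mem hmM) hm₁M) hmM, ?_⟩
    intro b hb
    have h1 := hm₁ (m * b * m⁻¹) (by rw [hB']; exact ⟨b, hb, rfl⟩)
    rw [hy'] at h1
    have e1 : y * b * y⁻¹ =
        m⁻¹ * (m * y * m⁻¹ * (m * b * m⁻¹) * (m * y * m⁻¹)⁻¹) * m := by group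
    rw [e1, h1]; group
  -- local analysis at `U'`
  obtain ⟨R, hR⟩ := hfn
  have hcX := hc U' hU'P hU'ne
  have hstX := nps_subgroup hst (Subgroup.normalizer (U' : Set G))
  obtain ⟨D₁, hD₁⟩ : ∃ D₁ : Subgroup G, D₁ = D ⊓ Subgroup.normalizer (U' : Set G) := ⟨_, rfl⟩
  have hD₁N : D₁ ≤ Subgroup.normalizer (U' : Set G) := by rw [hD₁]; exact inf_le_right
  have hD₁P' : D₁ ≤ (P : Subgroup G) ⊓ Subgroup.normalizer (U' : Set G) := by
    rw [hD₁]; exact inf_le_inf_right _ hD.1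
  have hmemR : ∀ x : ↥(Subgroup.normalizer (U' : Set G)), (x : G) ∈ (P : Subgroup G) →
      x ∈ (R : Subgroup ↥(Subgroup.normalizer (U' : Set G))) := by
    intro x hx
    have h1 : (x : G) ∈ (R : Subgroup ↥(Subgroup.normalizer (U' : Set G))).map
        (Subgroup.normalizer (U' : Set G)).subtype := by
      rw [hR]; exact Subgroup.mem_inf.mpr ⟨hx, x.2⟩
    obtain ⟨r, hr, hrx⟩ := h1
    have : r = x := Subtype.ext hrx
    rw [← this]; exact hr
  have hRP : ∀ x : ↥(Subgroup.normalizer (U' : Set G)),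
      x ∈ (R : Subgroup ↥(Subgroup.normalizer (U' : Set G))) → (x : G) ∈ (P : Subgroup G) := by
    intro x hx
    have h1 : (x : G) ∈ (R : Subgroup ↥(Subgroup.normalizer (U' : Set G))).map
        (Subgroup.normalizer (U' : Set G)).subtype := ⟨x, hx, rfl⟩
    rw [hR] at h1; exact (Subgroup.mem_inf.mp h1).1
  have hscX : Cfsg.IsStronglyClosed (D₁.subgroupOf (Subgroup.normalizer (U' : Set G)))
      (R : Subgroup ↥(Subgroup.normalizer (U' : Set G))) := by
    constructor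
    · intro x hx
      exact hmemR x ((Subgroup.mem_inf.mp (hD₁P' (Subgroup.mem_subgroupOf.mp hx))).1)
    · intro x hx g hgx
      rw [Subgroup.mem_subgroupOf] at hx ⊢
      rw [hD₁] at hx ⊢
      refine Subgroup.mem_inf.mpr ⟨?_, (g * x * g⁻¹).2⟩
      exact hD.2 (x : G) (Subgroup.mem_inf.mp hx).1 (g : G) (hRP _ hgx)
  have hfac := local_zj hW hnorm hcX hstX R _ hscX
  have hOc : (Nat.card ↥(Cfsg.pPrimeCore p ↥(Subgroup.normalizer (U' : Set G)))).Coprime p :=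
    Cfsg.Agent.Lib.Helper4.pPrimeCore_coprime p _
  obtain ⟨K, hK⟩ : ∃ K, K = Subgroup.normalizer
      (W ↥(Subgroup.normalizer (U' : Set G)) (D₁.subgroupOf (Subgroup.normalizer (U' : Set G))) :
        Set ↥(Subgroup.normalizer (U' : Set G))) := ⟨_, rfl⟩
  rw [← hK] at hfac
  have hRK : (R : Subgroup ↥(Subgroup.normalizer (U' : Set G))) ≤ K := by
    rw [hK]; exact (sc_le_normalizer hscX).trans (dW_normalizer hW _)
  have hB'X : B'.subgroupOf (Subgroup.normalizer (U' : Set G)) ≤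
      (R : Subgroup ↥(Subgroup.normalizer (U' : Set G))) := by
    intro x hx
    exact hmemR x ((Subgroup.mem_inf.mp (hB'le (Subgroup.mem_subgroupOf.mp hx))).1)
  have hB'p : IsPGroup p (B'.subgroupOf (Subgroup.normalizer (U' : Set G))) :=
    R.isPGroup'.to_le hB'X
  obtain ⟨k, hkK, hk⟩ := ctl_of_sup_eq_top
    (Cfsg.pPrimeCore p ↥(Subgroup.normalizer (U' : Set G))) K hOc hfac
    (B'.subgroupOf (Subgroup.normalizer (U' : Set G))) hB'p (hB'X.trans hRK) ⟨y', hy'N⟩ (by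
      intro b hb
      apply hRK
      apply hmemR
      exact (Subgroup.mem_inf.mp (hy'B' (b : G) (Subgroup.mem_subgroupOf.mp hb))).1)
  have hkact : ∀ b' ∈ B', y' * b' * y'⁻¹ = (k : G) * b' * (k : G)⁻¹ := by
    intro b' hb'
    have hb'N : b' ∈ Subgroup.normalizer (U' : Set G) := (Subgroup.mem_inf.mp (hB'le hb')).2
    have := hk ⟨b', hb'N⟩ (Subgroup.mem_subgroupOf.mpr hb')
    exact congrArg Subtype.val this
  obtain ⟨W₁, hW₁⟩ : ∃ W₁ : Subgroup G, W₁ = W G D₁ := ⟨_, rfl⟩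
  have hW₁map : W₁ = (W ↥(Subgroup.normalizer (U' : Set G))
      (D₁.subgroupOf (Subgroup.normalizer (U' : Set G)))).map
      (Subgroup.normalizer (U' : Set G)).subtype := by
    rw [hW₁, ← hW.map _ _ (Subgroup.normalizer (U' : Set G)).subtype
      (D₁.subgroupOf (Subgroup.normalizer (U' : Set G))) (fun x _ hx => by simpa using hx),
      Subgroup.map_subgroupOf_eq_of_le hD₁N]
  have hkW : (k : G) ∈ Subgroup.normalizer (W₁ : Set G) := by
    rw [hW₁map]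
    exact Subgroup.le_normalizer_map _ ⟨k, by rw [← hK]; exact hkK, rfl⟩
  suffices hsuff2 : Fus M B' (k : G) by
    obtain ⟨m₂, hm₂M, hm₂⟩ := hsuff2
    exact ⟨m₂, hm₂M, fun b' hb' => by rw [hkact b' hb', hm₂ b' hb']⟩
  by_cases hPN : (P : Subgroup G) ≤ Subgroup.normalizer (U' : Set G)
  · have hDD : D₁ = D := by rw [hD₁]; exact inf_eq_left.mpr (hD.1.trans hPN)
    rw [hW₁, hDD, ← hM] at hkW
    exact ⟨(k : G), hkW, fun _ _ => rfl⟩
  · obtain ⟨P', hP'⟩ : ∃ P' : Subgroup G,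
        P' = (P : Subgroup G) ⊓ Subgroup.normalizer (U' : Set G) := ⟨_, rfl⟩
    have hlt : P' < (P : Subgroup G) := by
      rw [hP']
      refine lt_of_le_of_ne inf_le_left ?_
      intro heq; apply hPN; rw [← heq]; exact inf_le_right
    obtain ⟨x, hxP, hxP', hxN⟩ := exists_normalizing_of_lt (P : Subgroup G) P' P.isPGroup' hlt
    have hD₁p : IsPGroup p D₁ := P.isPGroup'.to_le (hD₁P'.trans inf_le_left)
    have hD₁ne : D₁ ≠ ⊥ := by
      obtain ⟨z, hzD, hz1, hzc⟩ := sc_exists_central P.isPGroup' hD hDne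
      have hzN : z ∈ Subgroup.normalizer (U' : Set G) := by
        apply Cfsg.Agent.Lib.Helper6.mem_normalizer_of_conj_mem
        intro q hq
        have := hzc q (hU'P hq)
        have e : z * q * z⁻¹ = q := by rw [← this]; group
        rw [e]; exact hq
      intro h0
      have : z ∈ D₁ := by rw [hD₁]; exact Subgroup.mem_inf.mpr ⟨hzD, hzN⟩
      rw [h0, Subgroup.mem_bot] at this
      exact hz1 this
    have hW₁ne : W₁ ≠ ⊥ := by rw [hW₁]; exact hW.ne_bot G D₁ hD₁p hD₁ne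
    have hW₁P : W₁ ≤ (P : Subgroup G) := by
      rw [hW₁]; exact (hW.le G D₁).trans (hD₁P'.trans inf_le_left)
    have hP'N : P' ≤ Subgroup.normalizer (W₁ : Set G) := by
      rw [hW₁]
      refine le_trans ?_ (dW_normalizer hW D₁)
      intro s hs
      rw [hP'] at hs
      obtain ⟨hs1, hs2⟩ := Subgroup.mem_inf.mp hs
      apply Cfsg.Agent.Lib.Helper6.mem_normalizer_of_conj_mem
      intro d hd
      rw [hD₁] at hd ⊢
      obtain ⟨hd1, hd2⟩ := Subgroup.mem_inf.mp hd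
      exact Subgroup.mem_inf.mpr ⟨sc_conj_mem hD hs1 hd1,
        Subgroup.mul_mem _ (Subgroup.mul_mem _ hs2 hd2) (Subgroup.inv_mem _ hs2)⟩
    have hxW : x ∈ Subgroup.normalizer (W₁ : Set G) := by
      rw [hW₁]
      apply dW_normalizer hW D₁
      apply Cfsg.Agent.Lib.Helper6.mem_normalizer_of_conj_mem
      intro d hd
      have hdP' : d ∈ P' := by rw [hP']; exact hD₁P' hd
      have h1 : x * d * x⁻¹ ∈ P' := (Subgroup.mem_normalizer_iff.mp hxN d).mp hdP'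
      rw [hD₁] at hd ⊢
      rw [hP'] at h1
      exact Subgroup.mem_inf.mpr ⟨sc_conj_mem hD hxP (Subgroup.mem_inf.mp hd).1,
        (Subgroup.mem_inf.mp h1).2⟩
    have hlt2 : P' < (P : Subgroup G) ⊓ Subgroup.normalizer (W₁ : Set G) := by
      refine lt_of_le_of_ne (le_inf hlt.le hP'N) ?_
      intro heq
      apply hxP'
      rw [heq]; exact Subgroup.mem_inf.mpr ⟨hxP, hxW⟩
    have hcard1 : Nat.card P' <
        Nat.card ↥((P : Subgroup G) ⊓ Subgroup.normalizer (W₁ : Set G)) :=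
      Cfsg.Agent.Lib.Lead.card_lt_of_lt hlt2
    have hcard2 : Nat.card PU ≤ Nat.card P' := by
      have h1 : PU.map (MulAut.conj m).toMonoidHom ≤ P' := by
        rintro _ ⟨x, hx, rfl⟩
        rw [hP']; exact hmP x hx
      have h2 := Subgroup.card_le_of_le h1
      rwa [Subgroup.card_map_of_injective (MulAut.conj m).injective] at h2
    have hcard3 : Nat.card ↥((P : Subgroup G) ⊓ Subgroup.normalizer (W₁ : Set G)) ≤
        Nat.card (P : Subgroup G) := Subgroup.card_le_of_le inf_le_left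
    apply IHe (Nat.card (P : Subgroup G) -
      Nat.card ↥((P : Subgroup G) ⊓ Subgroup.normalizer (W₁ : Set G))) (by omega) W₁ hW₁P hW₁ne
      rfl (by omega) B'
    · exact le_inf (hB'le.trans inf_le_left)
        ((by rw [hP']; exact hB'le : B' ≤ P').trans hP'N)
    · exact hkW
    · intro b' hb'
      rw [← hkact b' hb']
      exact (Subgroup.mem_inf.mp (hy'B' b' hb')).1

theorem fd_main {p : ℕ} [Fact p.Prime]
    {W : ∀ (X : Type u) [Group X], Subgroup X → Subgroup X} (hW : DFunctor p W)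
    (hnorm : ∀ (Y : Type u) [Group Y] [Finite Y],
      Subgroup.centralizer (Cfsg.pCore p Y : Set Y) ≤ Cfsg.pCore p Y →
      (∀ (B : Subgroup Y) [B.Normal], IsPGroup p B → Cfsg.IsPStableOn p B) →
      ∀ (T : Sylow p Y) (D : Subgroup Y), Cfsg.IsStronglyClosed D (T : Subgroup Y) →
        (W Y D).Normal)
    {G : Type u} [Group G] [Finite G] (P : Sylow p G) (D : Subgroup G)
    (hD : Cfsg.IsStronglyClosed D (P : Subgroup G)) (hDne : D ≠ ⊥)
    (hst : Cfsg.IsNormalizerPStable p G)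
    (hc : ∀ U : Subgroup G, U ≤ (P : Subgroup G) → U ≠ ⊥ →
      Cfsg.IsPConstrained p ↥(Subgroup.normalizer (U : Set G))) :
    ∀ (d : ℕ) (A : Subgroup G), A ≤ (P : Subgroup G) →
      Nat.card (P : Subgroup G) - Nat.card A = d →
      ∀ g : G, (∀ x ∈ A, g * x * g⁻¹ ∈ (P : Subgroup G)) →
      Fus (Subgroup.normalizer (W G D : Set G)) A g := by
  intro d
  induction d using Nat.strong_induction_on with
  | _ d IHd =>
  intro A hAP hd g hg
  obtain ⟨M, hM⟩ : ∃ M : Subgroup G, M = Subgroup.normalizer (W G D : Set G) := ⟨_, rfl⟩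
  have IHo : ∀ A' : Subgroup G, A' ≤ (P : Subgroup G) → Nat.card A < Nat.card A' → ∀ g : G,
      (∀ x ∈ A', g * x * g⁻¹ ∈ (P : Subgroup G)) →
      Fus (Subgroup.normalizer (W G D : Set G)) A' g := by
    intro A' hA'P hlt g' hg'
    have h1 : Nat.card A' ≤ Nat.card (P : Subgroup G) := Subgroup.card_le_of_le hA'P
    exact IHd (Nat.card (P : Subgroup G) - Nat.card A') (by omega) A' hA'P rfl g' hg'
  have hinner := fd_inner hW hnorm P D hD hDne hst hc (Nat.card A) IHo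
  rw [← hM] at IHo hinner ⊢
  by_cases hAbot : A = ⊥
  · refine ⟨1, M.one_mem, ?_⟩
    intro x hx
    rw [hAbot, Subgroup.mem_bot] at hx
    rw [hx]; group
  by_cases hAtop : A = (P : Subgroup G)
  · refine ⟨g, ?_, fun _ _ => rfl⟩
    rw [hM]
    apply dW_normalizer hW D
    apply Cfsg.Agent.Lib.Helper6.mem_normalizer_of_conj_mem
    intro x hx
    exact hD.2 x hx g (hg x (by rw [hAtop]; exact hD.1 hx))
  have hAlt : A < (P : Subgroup G) := lt_of_le_of_ne hAP hAtop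
  have hNP : ∀ A₁ : Subgroup G, A₁ ≤ (P : Subgroup G) → Nat.card A₁ = Nat.card A →
      Nat.card A < Nat.card ↥((P : Subgroup G) ⊓ Subgroup.normalizer (A₁ : Set G)) := by
    intro A₁ hA₁P hcard
    have hlt1 : A₁ < (P : Subgroup G) := by
      refine lt_of_le_of_ne hA₁P ?_
      intro heq
      have h1 := Cfsg.Agent.Lib.Lead.card_lt_of_lt hAlt
      have h2 : Nat.card A₁ = Nat.card (P : Subgroup G) := by rw [heq]
      omega
    obtain ⟨x, hxP, hxA, hxN⟩ := exists_normalizing_of_lt (P : Subgroup G) A₁ P.isPGroup' hlt1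
    have hlt2 : A₁ < (P : Subgroup G) ⊓ Subgroup.normalizer (A₁ : Set G) := by
      refine lt_of_le_of_ne (le_inf hA₁P Subgroup.le_normalizer) ?_
      intro heq; apply hxA; rw [heq]; exact Subgroup.mem_inf.mpr ⟨hxP, hxN⟩
    rw [← hcard]; exact Cfsg.Agent.Lib.Lead.card_lt_of_lt hlt2
  have hii : ∀ A₁ : Subgroup G, A₁ ≤ (P : Subgroup G) → A₁ ≠ ⊥ → Nat.card A₁ = Nat.card A →
      ∀ y ∈ Subgroup.normalizer (A₁ : Set G), Fus M A₁ y := by
    intro A₁ hA₁P hA₁ne hcard y hy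
    apply hinner _ A₁ hA₁P hA₁ne rfl (hNP A₁ hA₁P hcard) A₁
      (le_inf hA₁P Subgroup.le_normalizer) y hy
    intro b hb
    exact hA₁P ((Subgroup.mem_normalizer_iff.mp hy b).mp hb)
  obtain ⟨h₀, A', hA', hA'P, hfn⟩ := exists_fn P A (P.isPGroup'.to_le hAP)
  have hcardA' : Nat.card A' = Nat.card A := by
    rw [hA', Subgroup.card_map_of_injective (MulAut.conj h₀).injective]
  have hA'ne : A' ≠ ⊥ := by
    intro h0; apply hAbot
    rw [hA'] at h0
    exact (Subgroup.map_eq_bot_iff_of_injective _ (MulAut.conj h₀).injective).mp h0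
  obtain ⟨A₂, hA₂⟩ : ∃ A₂ : Subgroup G, A₂ = A.map (MulAut.conj g).toMonoidHom := ⟨_, rfl⟩
  have hA₂P : A₂ ≤ (P : Subgroup G) := by
    rw [hA₂]; rintro _ ⟨x, hx, rfl⟩; exact hg x hx
  have hcardA₂ : Nat.card A₂ = Nat.card A := by
    rw [hA₂, Subgroup.card_map_of_injective (MulAut.conj g).injective]
  obtain ⟨n₁, hn₁, hn₁k⟩ := fn_adjust P A' hfn A h₀ hA'.symm
  have hk₂ : A₂.map (MulAut.conj (h₀ * g⁻¹)).toMonoidHom = A' := by
    rw [hA₂, hA', Subgroup.map_map]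
    congr 1
    ext x
    simp only [MonoidHom.comp_apply, MulEquiv.coe_toMonoidHom, MulAut.conj_apply]
    group
  obtain ⟨n₂, hn₂, hn₂k⟩ := fn_adjust P A' hfn A₂ (h₀ * g⁻¹) hk₂
  obtain ⟨m₁, hm₁M, hm₁⟩ := IHo ((P : Subgroup G) ⊓ Subgroup.normalizer (A : Set G))
    inf_le_left (hNP A hAP rfl) (n₁ * h₀) (fun x hx => (Subgroup.mem_inf.mp (hn₁k x hx)).1)
  obtain ⟨m₂, hm₂M, hm₂⟩ := IHo ((P : Subgroup G) ⊓ Subgroup.normalizer (A₂ : Set G))
    inf_le_left (hNP A₂ hA₂P hcardA₂) (n₂ * (h₀ * g⁻¹))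
    (fun x hx => (Subgroup.mem_inf.mp (hn₂k x hx)).1)
  have hn₂₁ : n₂ * n₁⁻¹ ∈ Subgroup.normalizer (A' : Set G) :=
    Subgroup.mul_mem _ hn₂ (Subgroup.inv_mem _ hn₁)
  obtain ⟨m₃, hm₃M, hm₃⟩ := hii A' hA'P hA'ne hcardA' (n₂ * n₁⁻¹) hn₂₁
  refine ⟨m₂⁻¹ * m₃ * m₁, M.mul_mem (M.mul_mem (M.inv_mem hm₂M) hm₃M) hm₁M, ?_⟩
  intro a ha
  have haN : a ∈ (P : Subgroup G) ⊓ Subgroup.normalizer (A : Set G) :=
    Subgroup.mem_inf.mpr ⟨hAP ha, Subgroup.le_normalizer ha⟩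
  have e1 := hm₁ a haN
  have hc₁ : m₁ * a * m₁⁻¹ ∈ A' := by
    rw [← e1]
    have h1 : h₀ * a * h₀⁻¹ ∈ A' := by rw [hA']; exact ⟨a, ha, rfl⟩
    have h2 := (Subgroup.mem_normalizer_iff.mp hn₁ _).mp h1
    have e : n₁ * h₀ * a * (n₁ * h₀)⁻¹ = n₁ * (h₀ * a * h₀⁻¹) * n₁⁻¹ := by group
    rw [e]; exact h2
  have e2 := hm₃ _ hc₁
  have hga : g * a * g⁻¹ ∈ A₂ := by rw [hA₂]; exact ⟨a, ha, rfl⟩
  have hgaN : g * a * g⁻¹ ∈ (P : Subgroup G) ⊓ Subgroup.normalizer (A₂ : Set G) :=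
    Subgroup.mem_inf.mpr ⟨hA₂P hga, Subgroup.le_normalizer hga⟩
  have e3 := hm₂ _ hgaN
  have e4 : n₂ * (h₀ * g⁻¹) * (g * a * g⁻¹) * (n₂ * (h₀ * g⁻¹))⁻¹ =
      (n₂ * n₁⁻¹) * (n₁ * h₀ * a * (n₁ * h₀)⁻¹) * (n₂ * n₁⁻¹)⁻¹ := by group
  rw [e4, e1, e2] at e3
  have e5 : g * a * g⁻¹ = m₂⁻¹ * (m₂ * (g * a * g⁻¹) * m₂⁻¹) * m₂ := by group
  rw [e5, ← e3]; group

/-- **Control of strong fusion** by `N_G(W(D))` for `D` strongly closed, `G` `p`-stable with
`p`-constrained `p`-locals. -/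
theorem fd_control {p : ℕ} [Fact p.Prime]
    {W : ∀ (X : Type u) [Group X], Subgroup X → Subgroup X} (hW : DFunctor p W)
    (hnorm : ∀ (Y : Type u) [Group Y] [Finite Y],
      Subgroup.centralizer (Cfsg.pCore p Y : Set Y) ≤ Cfsg.pCore p Y →
      (∀ (B : Subgroup Y) [B.Normal], IsPGroup p B → Cfsg.IsPStableOn p B) →
      ∀ (T : Sylow p Y) (D : Subgroup Y), Cfsg.IsStronglyClosed D (T : Subgroup Y) →
        (W Y D).Normal)
    {G : Type u} [Group G] [Finite G] (P : Sylow p G) (D : Subgroup G)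
    (hD : Cfsg.IsStronglyClosed D (P : Subgroup G))
    (hst : Cfsg.IsNormalizerPStable p G)
    (hc : ∀ U : Subgroup G, U ≤ (P : Subgroup G) → U ≠ ⊥ →
      Cfsg.IsPConstrained p ↥(Subgroup.normalizer (U : Set G))) :
    ∀ A : Set G, A ⊆ (P : Subgroup G) →
      Cfsg.ControlsStrongFusionOf (Subgroup.normalizer (W G D : Set G)) (P : Subgroup G) A := by
  intro A hA
  refine ⟨hA, ?_⟩
  intro g hg
  by_cases hDne : D = ⊥
  · have h0 : W G D = ⊥ := by rw [eq_bot_iff, ← hDne]; exact hW.le G D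
    refine ⟨g, ?_, fun _ _ => rfl⟩
    rw [h0, Subgroup.normalizer_eq_top_iff.mpr inferInstance]; trivial
  · obtain ⟨A₀, hA₀⟩ : ∃ A₀ : Subgroup G, A₀ = Subgroup.closure A := ⟨_, rfl⟩
    have hA₀P : A₀ ≤ (P : Subgroup G) := by rw [hA₀, Subgroup.closure_le]; exact hA
    have hgA₀ : ∀ x ∈ A₀, g * x * g⁻¹ ∈ (P : Subgroup G) := by
      have h1 : A₀ ≤ (P : Subgroup G).comap (MulAut.conj g).toMonoidHom := by
        rw [hA₀, Subgroup.closure_le]
        intro a ha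
        exact hg ⟨a, ha, rfl⟩
      intro x hx
      exact h1 hx
    obtain ⟨m, hmM, hm⟩ := fd_main hW hnorm P D hD hDne hst hc _ A₀ hA₀P rfl g hgA₀
    exact ⟨m, hmM, fun a ha => hm a (by rw [hA₀]; exact Subgroup.subset_closure ha)⟩

end Cfsg.Agent.Lib.Helper1
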