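import Mathlib
import Cfsg.Agent.Lib.Helper1.GT3
import Cfsg.Agent.Lib.Helper6.FrobNC

/-!
# Generic reduction for normal p-complement criteria with several local subgroups (helper1)

A family of "local subgroups" `M i G R` attached to `p`-subgroups `R`, each normalizing a
nontrivial characteristic-like subgroup `Z i G R ≤ R`.
-/

set_option autoImplicit false

namespace Cfsg.Agent.Lib.Helper1

universe u

structure LocAx (p : ℕ) {ι : Type}
    (M Z : ι → ∀ (G : Type u) [Group G], Subgroup G → Subgroup G) : Prop where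
  ne_bot : ∀ (i : ι) (G : Type u) [Group G] [Finite G] (R : Subgroup G), IsPGroup p R → R ≠ ⊥ →
    Z i G R ≠ ⊥
  le : ∀ (i : ι) (G : Type u) [Group G] (R : Subgroup G), Z i G R ≤ R
  norm : ∀ (i : ι) (G : Type u) [Group G] [Finite G] (R : Subgroup G), IsPGroup p R →
    Subgroup.normalizer (R : Set G) ≤ Subgroup.normalizer (Z i G R : Set G)
  sub : ∀ (i : ι) (G : Type u) [Group G] [Finite G] (R : Subgroup G),
    M i G R ≤ Subgroup.normalizer (Z i G R : Set G)
  inj : ∀ (i : ι) (G H : Type u) [Group G] [Group H] [Finite G] [Finite H] (f : G →* H),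
    Function.Injective f → ∀ R : Subgroup G, IsPGroup p R → (M i G R).map f ≤ M i H (R.map f)
  quot : ∀ (i : ι) (G : Type u) [Group G] [Finite G] (O : Subgroup G) [O.Normal],
    (Nat.card O).Coprime p → ∀ S : Sylow p G,
      M i (G ⧸ O) ((S : Subgroup G).map (QuotientGroup.mk' O)) ≤
        (M i G (S : Subgroup G)).map (QuotientGroup.mk' O)

def LHyp (p : ℕ) {ι : Type} (M : ι → ∀ (G : Type u) [Group G], Subgroup G → Subgroup G)
    (G : Type u) [Group G] : Prop :=
  ∀ (S : Sylow p G) (i : ι), Cfsg.HasNormalPComplement p ↥(M i G (S : Subgroup G))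

theorem npc_of_le {G : Type u} [Group G] [Finite G] {p : ℕ} [Fact p.Prime] {A B : Subgroup G}
    (hle : A ≤ B) (h : Cfsg.HasNormalPComplement p ↥B) : Cfsg.HasNormalPComplement p ↥A :=
  npc_of_mulEquiv (Subgroup.subgroupOfEquivOfLe hle)
    (Cfsg.Agent.Lib.Helper6.hasNormalPComplement_subgroup h (A.subgroupOf B))

theorem npc_of_map_le {K G : Type u} [Group K] [Finite K] [Group G] [Finite G] {p : ℕ}
    [Fact p.Prime] (f : K →* G) (hf : Function.Injective f) (A : Subgroup K) (B : Subgroup G)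
    (hle : A.map f ≤ B) (h : Cfsg.HasNormalPComplement p ↥B) :
    Cfsg.HasNormalPComplement p ↥A :=
  npc_of_mulEquiv (A.equivMapOfInjective f hf).symm (npc_of_le hle h)

variable {p : ℕ} [Fact p.Prime] {ι : Type}
  (M Z : ι → ∀ (G : Type u) [Group G], Subgroup G → Subgroup G)

theorem lhyp_of_one (ax : LocAx p M Z) {G : Type u} [Group G] [Finite G] (S : Sylow p G)
    (h : ∀ i, Cfsg.HasNormalPComplement p ↥(M i G (S : Subgroup G))) : LHyp p M G := by
  intro S' i
  obtain ⟨g, hg⟩ := MulAction.exists_smul_eq G S' S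
  have h1 : (S : Subgroup G) = (S' : Subgroup G).map (MulAut.conj g).toMonoidHom := by
    rw [← hg, Sylow.coe_subgroup_smul]; rfl
  apply npc_of_map_le (MulAut.conj g).toMonoidHom (MulAut.conj g).injective _
    (M i G (S : Subgroup G)) ?_ (h i)
  rw [h1]
  exact ax.inj i G G _ (MulAut.conj g).injective _ S'.isPGroup'

theorem lhyp_subgroup (ax : LocAx p M Z) {G : Type u} [Group G] [Finite G] (K : Subgroup G)
    (h : ∀ (R : Sylow p ↥K) (i : ι), Cfsg.HasNormalPComplement p
      ↥(M i G ((R : Subgroup K).map K.subtype))) : LHyp p M ↥K := by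
  intro R i
  exact npc_of_map_le K.subtype K.subtype_injective _ _
    (ax.inj i ↥K G K.subtype K.subtype_injective _ R.isPGroup') (h R i)

theorem lhyp_subgroup_sylow (ax : LocAx p M Z) {G : Type u} [Group G] [Finite G]
    (K : Subgroup G) (S : Sylow p G) (hSK : (S : Subgroup G) ≤ K) (hyp : LHyp p M G) :
    LHyp p M ↥K := by
  apply lhyp_subgroup M Z ax
  intro R i
  have hcard : Nat.card ((R : Subgroup K).map K.subtype) = p ^ (Nat.card G).factorization p := by
    rw [Cfsg.Agent.Lib.Lead.card_sylow_map]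
    congr 1
    apply le_antisymm
    · exact (Nat.factorization_le_iff_dvd (Nat.card_pos.ne') (Nat.card_pos.ne')).mpr
        (Subgroup.card_subgroup_dvd_card K) p
    · have h1 : Nat.card (S : Subgroup G) ∣ Nat.card K := Subgroup.card_dvd_of_le hSK
      rw [S.card_eq_multiplicity] at h1
      exact (Nat.Prime.pow_dvd_iff_le_factorization (Fact.out) (Nat.card_pos.ne')).mp h1
  have := hyp (Sylow.ofCard _ hcard) i
  rwa [Sylow.coe_ofCard] at this

theorem gr2_caseB (ax : LocAx p M Z) {G : Type u} [Group G] [Finite G]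
    (IH : ∀ K : Subgroup G, K ≠ ⊤ → LHyp p M ↥K → Cfsg.HasNormalPComplement p ↥K)
    (hyp : LHyp p M G)
    (hH : ∀ Q : Subgroup G, IsPGroup p Q → Q ≠ ⊥ → Subgroup.normalizer (Q : Set G) ≠ ⊤) :
    ∀ (d : ℕ) (Q : Subgroup G), IsPGroup p Q → Q ≠ ⊥ →
      ∀ R : Sylow p ↥(Subgroup.normalizer (Q : Set G)), Nat.card G - Nat.card R = d →
      Cfsg.HasNormalPComplement p ↥(Subgroup.normalizer (Q : Set G)) := by
  have hp : p.Prime := Fact.out
  intro d
  induction d using Nat.strong_induction_on with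
  | _ d IHd =>
  intro Q hQ hne R hd
  apply IH _ (hH Q hQ hne)
  apply lhyp_subgroup M Z ax
  intro R₁ i
  obtain ⟨R', hR'⟩ : ∃ R' : Subgroup G,
      R' = (R₁ : Subgroup _).map (Subgroup.normalizer (Q : Set G)).subtype := ⟨_, rfl⟩
  rw [← hR']
  have hR'p : IsPGroup p R' := by rw [hR']; exact R₁.isPGroup'.map _
  have hcardR' : Nat.card R' = Nat.card R := by
    rw [hR', Subgroup.card_map_of_injective (Subgroup.subtype_injective _),
      R₁.card_eq_multiplicity, R.card_eq_multiplicity]
  by_cases hsyl : Nat.card R' = p ^ (Nat.card G).factorization p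
  · have := hyp (Sylow.ofCard R' hsyl) i
    rwa [Sylow.coe_ofCard] at this
  · obtain ⟨P', hP'⟩ := hR'p.exists_le_sylow
    have hlt : R' < (P' : Subgroup G) := by
      refine lt_of_le_of_ne hP' ?_
      intro heq
      apply hsyl
      rw [heq]; exact P'.card_eq_multiplicity
    obtain ⟨x, hxP, hxR, hxN⟩ := exists_normalizing_of_lt (P' : Subgroup G) R' P'.isPGroup' hlt
    have hpQ : p ∣ Nat.card Q := by
      obtain ⟨n, hn⟩ := IsPGroup.iff_card.mp hQ
      rcases Nat.eq_zero_or_pos n with h0 | h0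
      · exfalso; apply hne; rw [h0, pow_zero] at hn; exact Subgroup.card_eq_one.mp hn
      · rw [hn]; exact dvd_pow_self p h0.ne'
    have hpN : p ∣ Nat.card ↥(Subgroup.normalizer (Q : Set G)) :=
      hpQ.trans (Subgroup.card_dvd_of_le Subgroup.le_normalizer)
    have hR1ne : (R₁ : Subgroup ↥(Subgroup.normalizer (Q : Set G))) ≠ ⊥ :=
      R₁.ne_bot_of_dvd_card hpN
    have hR'ne : R' ≠ ⊥ := by
      intro h; apply hR1ne
      rwa [hR', Subgroup.map_eq_bot_iff_of_injective _ (Subgroup.subtype_injective _)] at h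
    apply npc_of_le (ax.sub i G R')
    obtain ⟨Z', hZ'⟩ : ∃ Z', Z' = Z i G R' := ⟨_, rfl⟩
    rw [← hZ']
    have hZ'p : IsPGroup p Z' := by rw [hZ']; exact hR'p.to_le (ax.le i G R')
    have hZ'ne : Z' ≠ ⊥ := by rw [hZ']; exact ax.ne_bot i G R' hR'p hR'ne
    obtain ⟨U, hU⟩ : ∃ U : Subgroup G, U = (P' : Subgroup G) ⊓ Subgroup.normalizer (R' : Set G) :=
      ⟨_, rfl⟩
    have hUp : IsPGroup p U := by rw [hU]; exact P'.isPGroup'.to_le inf_le_left
    have hUN : U ≤ Subgroup.normalizer (Z' : Set G) := by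
      rw [hU, hZ']; exact inf_le_right.trans (ax.norm i G R' hR'p)
    have hRU : R' < U := by
      refine lt_of_le_of_ne ?_ ?_
      · rw [hU]; exact le_inf hP' Subgroup.le_normalizer
      · intro heq; apply hxR; rw [heq, hU]; exact Subgroup.mem_inf.mpr ⟨hxP, hxN⟩
    have hcardU : Nat.card R' < Nat.card U := Cfsg.Agent.Lib.Lead.card_lt_of_lt hRU
    have hU'p : IsPGroup p (U.subgroupOf (Subgroup.normalizer (Z' : Set G))) := hUp.comap_subtype
    obtain ⟨R₂, hR₂⟩ := hU'p.exists_le_sylow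
    have hcard2 : Nat.card U ≤ Nat.card R₂ := by
      have h1 : Nat.card (U.subgroupOf (Subgroup.normalizer (Z' : Set G))) = Nat.card U :=
        Nat.card_congr (Subgroup.subgroupOfEquivOfLe hUN).toEquiv
      rw [← h1]; exact Subgroup.card_le_of_le hR₂
    have hcard3 : Nat.card R₂ ≤ Nat.card G :=
      (Subgroup.card_le_card_group _).trans (Subgroup.card_le_card_group _)
    exact IHd (Nat.card G - Nat.card R₂) (by omega) Z' hZ'p hZ'ne R₂ rfl

end Cfsg.Agent.Lib.Helper1
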