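import Mathlib
import Cfsg.Agent.Lib.Helper1.GR2

/-!
# Generic reduction with several local subgroups: the main induction (helper1)
-/

set_option autoImplicit false

namespace Cfsg.Agent.Lib.Helper1

universe u

variable {p : ℕ} [Fact p.Prime] {ι : Type}
  (M Z : ι → ∀ (G : Type u) [Group G], Subgroup G → Subgroup G)

set_option maxHeartbeats 1000000 in
theorem gr2_main (ax : LocAx p M Z)
    (C : ∀ (X : Type u) [Group X], Prop)
    (hCsub : ∀ (X : Type u) [Group X] [Finite X], C X → ∀ K : Subgroup X, C ↥K)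
    (hCquot : ∀ (X : Type u) [Group X] [Finite X], C X → ∀ (N : Subgroup X) [N.Normal], C (X ⧸ N))
    (hloc : ∀ (X : Type u) [Group X] [Finite X], C X →
      Subgroup.centralizer (Cfsg.pCore p X : Set X) ≤ Cfsg.pCore p X →
      Cfsg.HasNormalPComplement p (X ⧸ Cfsg.pCore p X) →
      ∀ T : Sylow p X, IsCoatom (T : Subgroup X) →
        (∀ i, Cfsg.HasNormalPComplement p ↥(M i X (T : Subgroup X))) →
        Cfsg.HasNormalPComplement p X) :
    ∀ (n : ℕ) (G : Type u) [Group G] [Finite G], Nat.card G = n → C G → LHyp p M G →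
      Cfsg.HasNormalPComplement p G := by
  have hp : p.Prime := Fact.out
  intro n
  induction n using Nat.strong_induction_on with
  | _ n IH =>
  intro G _ _ hn hC hyp
  have IHsub : ∀ K : Subgroup G, K ≠ ⊤ → LHyp p M ↥K → Cfsg.HasNormalPComplement p ↥K := by
    intro K hK h
    have hlt : Nat.card K < n := by
      rw [← hn]
      refine lt_of_le_of_ne (Subgroup.card_le_card_group K) ?_
      intro h1; exact hK (Subgroup.eq_top_of_card_eq K h1)
    exact IH _ hlt ↥K rfl (hCsub G hC K) h
  have IHquot : ∀ (N : Subgroup G) [N.Normal], N ≠ ⊥ → LHyp p M (G ⧸ N) →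
      Cfsg.HasNormalPComplement p (G ⧸ N) := by
    intro N _ hN h
    have hlt : Nat.card (G ⧸ N) < n := by
      rw [← hn, Subgroup.card_eq_card_quotient_mul_card_subgroup N]
      have h1 : 1 < Nat.card N := N.one_lt_card_iff_ne_bot.mpr hN
      have h2 : 0 < Nat.card (G ⧸ N) := Nat.card_pos
      nlinarith
    exact IH _ hlt (G ⧸ N) rfl (hCquot G hC N) h
  by_cases hH : Cfsg.pCore p G = ⊥
  · rw [Cfsg.Agent.S0072.result p]
    intro Q hQ hne
    obtain ⟨R⟩ : Nonempty (Sylow p ↥(Subgroup.normalizer (Q : Set G))) := inferInstance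
    refine gr2_caseB M Z ax IHsub hyp ?_ _ Q hQ hne R rfl
    intro Q' hQ' hne' htop
    apply hne'
    have hn' : Q'.Normal := Subgroup.normalizer_eq_top_iff.mp htop
    have := Cfsg.Agent.Lib.Helper4.le_pCore hn' hQ'
    rw [hH] at this
    exact le_bot_iff.mp this
  · have hHp : IsPGroup p ↥(Cfsg.pCore p G) := Cfsg.Agent.Lib.Helper4.pCore_isPGroup p G
    have hbar : Cfsg.HasNormalPComplement p (G ⧸ Cfsg.pCore p G) := by
      by_cases hdvd : p ∣ Nat.card (G ⧸ Cfsg.pCore p G)
      · apply IHquot _ hH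
        intro Sb i
        apply npc_of_le (ax.sub i _ (Sb : Subgroup (G ⧸ Cfsg.pCore p G)))
        obtain ⟨π, hπ⟩ : ∃ π : G →* G ⧸ Cfsg.pCore p G, π = QuotientGroup.mk' _ := ⟨_, rfl⟩
        have hπs : Function.Surjective π := by rw [hπ]; exact QuotientGroup.mk'_surjective _
        have hπk : π.ker = Cfsg.pCore p G := by rw [hπ]; exact QuotientGroup.ker_mk' _
        obtain ⟨S, hS⟩ := Sylow.mapSurjective_surjective hπs p Sb
        have hSb : (Sb : Subgroup (G ⧸ Cfsg.pCore p G)) = (S : Subgroup G).map π := by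
          rw [← hS]; rfl
        obtain ⟨Zb, hZb⟩ : ∃ Zb, Zb = Z i (G ⧸ Cfsg.pCore p G) (Sb : Subgroup (G ⧸ Cfsg.pCore p G)) :=
          ⟨_, rfl⟩
        rw [← hZb]
        obtain ⟨K, hK⟩ : ∃ K, K = Zb.comap π := ⟨_, rfl⟩
        have hHS : Cfsg.pCore p G ≤ (S : Subgroup G) := Cfsg.Agent.Lib.Helper4.pCore_le_sylow S
        have hKS : K ≤ (S : Subgroup G) := by
          have h1 : Zb ≤ (S : Subgroup G).map π := by rw [← hSb, hZb]; exact ax.le i _ _
          have h2 : K ≤ ((S : Subgroup G).map π).comap π := by rw [hK]; exact Subgroup.comap_mono h1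
          rw [Subgroup.comap_map_eq, hπk] at h2
          exact h2.trans (sup_le le_rfl hHS)
        have hKp : IsPGroup p K := S.isPGroup'.to_le hKS
        have h2 : (Subgroup.normalizer (Zb : Set (G ⧸ Cfsg.pCore p G))).comap π =
            Subgroup.normalizer (K : Set G) := by
          rw [hK]; exact Subgroup.comap_normalizer_eq_of_surjective _ hπs
        have hSN : (S : Subgroup G) ≤ Subgroup.normalizer (K : Set G) := by
          have h1 : (Sb : Subgroup (G ⧸ Cfsg.pCore p G)) ≤
              Subgroup.normalizer (Zb : Set (G ⧸ Cfsg.pCore p G)) := by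
            rw [hZb]
            exact Subgroup.le_normalizer.trans (ax.norm i _ _ Sb.isPGroup')
          rw [← h2]
          intro s hs
          rw [Subgroup.mem_comap]
          apply h1; rw [hSb]; exact ⟨s, hs, rfl⟩
        have hSbne : (Sb : Subgroup (G ⧸ Cfsg.pCore p G)) ≠ ⊥ := Sb.ne_bot_of_dvd_card hdvd
        have hZbne : Zb ≠ ⊥ := by rw [hZb]; exact ax.ne_bot i _ _ Sb.isPGroup' hSbne
        have hKtop : Subgroup.normalizer (K : Set G) ≠ ⊤ := by
          intro htop
          have hn' : K.Normal := Subgroup.normalizer_eq_top_iff.mp htop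
          have h1 : K ≤ Cfsg.pCore p G := Cfsg.Agent.Lib.Helper4.le_pCore hn' hKp
          apply hZbne
          have h3 : Zb = K.map π := by rw [hK, Subgroup.map_comap_eq_self_of_surjective hπs]
          rw [h3, eq_bot_iff]
          rintro _ ⟨k, hk, rfl⟩
          have : k ∈ π.ker := by rw [hπk]; exact h1 hk
          exact Subgroup.mem_bot.mpr this
        have hNK : Cfsg.HasNormalPComplement p ↥(Subgroup.normalizer (K : Set G)) :=
          IHsub _ hKtop (lhyp_subgroup_sylow M Z ax _ S hSN hyp)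
        have h3 : (Subgroup.normalizer (K : Set G)).map π =
            Subgroup.normalizer (Zb : Set (G ⧸ Cfsg.pCore p G)) := by
          rw [← h2, Subgroup.map_comap_eq_self_of_surjective hπs]
        have h4 := npc_of_surjective (π.subgroupMap (Subgroup.normalizer (K : Set G)))
          (π.subgroupMap_surjective _) hNK
        exact npc_of_eq h3 h4
      · exact Cfsg.Agent.Lib.Helper6.npc_of_not_dvd hdvd
    by_cases hO : Cfsg.pPrimeCore p G = ⊥
    swap
    · have hOc : (Nat.card ↥(Cfsg.pPrimeCore p G)).Coprime p :=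
        Cfsg.Agent.Lib.Helper4.pPrimeCore_coprime p G
      apply npc_of_pprime_quotient (Cfsg.pPrimeCore p G) hOc
      apply IHquot _ hO
      intro Sb i
      obtain ⟨S, hS⟩ := Sylow.mapSurjective_surjective
        (QuotientGroup.mk'_surjective (Cfsg.pPrimeCore p G)) p Sb
      have hSb : (Sb : Subgroup (G ⧸ Cfsg.pPrimeCore p G)) =
          (S : Subgroup G).map (QuotientGroup.mk' (Cfsg.pPrimeCore p G)) := by
        rw [← hS]; rfl
      rw [hSb]
      apply npc_of_le (ax.quot i G (Cfsg.pPrimeCore p G) hOc S)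
      exact npc_of_surjective ((QuotientGroup.mk' (Cfsg.pPrimeCore p G)).subgroupMap _)
        ((QuotientGroup.mk' (Cfsg.pPrimeCore p G)).subgroupMap_surjective _) (hyp S i)
    have hc : Subgroup.centralizer (Cfsg.pCore p G : Set G) ≤ Cfsg.pCore p G := by
      obtain ⟨Lb, hLbn, hLbc, hLbq⟩ := npc_iff.mp hbar
      haveI := hLbn
      obtain ⟨π, hπ⟩ : ∃ π : G →* G ⧸ Cfsg.pCore p G, π = QuotientGroup.mk' _ := ⟨_, rfl⟩
      have hπk : ∀ x : G, π x = 1 ↔ x ∈ Cfsg.pCore p G := by
        intro x; rw [hπ]; exact QuotientGroup.eq_one_iff x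
      obtain ⟨E, hE⟩ : ∃ E : Subgroup G,
          E = Subgroup.centralizer (Cfsg.pCore p G : Set G) ⊓ Lb.comap π := ⟨_, rfl⟩
      haveI hEn : E.Normal := by rw [hE]; infer_instance
      have hEC : E ≤ Subgroup.centralizer (Cfsg.pCore p G : Set G) := by rw [hE]; exact inf_le_left
      have hpel : ∀ x ∈ E, (∃ k : ℕ, x ^ (p ^ k) = 1) → x ∈ Cfsg.pCore p G := by
        intro x hx ⟨k, hk⟩
        have h1 : π x ∈ Lb := by rw [hE] at hx; exact (Subgroup.mem_inf.mp hx).2
        have h2 : (π x) ^ (Nat.card Lb) = 1 := by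
          have := pow_card_eq_one' (G := Lb) (x := ⟨π x, h1⟩)
          exact pow_eq_one_of_subtype h1 this
        have h3 : x ^ (Nat.card Lb) ∈ Cfsg.pCore p G := by rw [← hπk, map_pow]; exact h2
        have hcop : (Nat.card Lb).Coprime (orderOf x) := by
          have : orderOf x ∣ p ^ k := orderOf_dvd_of_pow_eq_one hk
          exact Nat.Coprime.coprime_dvd_right this (Nat.Coprime.pow_right k hLbc)
        obtain ⟨j, hj⟩ := exists_pow_eq_self_of_coprime hcop
        rw [← hj]; exact Subgroup.pow_mem _ h3 j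
      obtain ⟨PE⟩ : Nonempty (Sylow p ↥E) := inferInstance
      have hPE : Subgroup.normalizer ((PE : Subgroup ↥E) : Set ↥E) ≤
          Subgroup.centralizer ((PE : Subgroup ↥E) : Set ↥E) := by
        intro n _
        rw [Subgroup.mem_centralizer_iff]
        intro x hx
        have hxH : (x : G) ∈ Cfsg.pCore p G := by
          apply hpel _ x.2
          obtain ⟨k, hk⟩ := PE.isPGroup' ⟨x, hx⟩
          have h1 : x ^ (p ^ k) = 1 := pow_eq_one_of_subtype hx hk
          have h2 := congrArg Subtype.val h1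
          exact ⟨k, by simpa using h2⟩
        have hn := Subgroup.mem_centralizer_iff.mp (hEC n.2) _ hxH
        exact Subtype.ext hn
      obtain ⟨D₀, hD₀n, hD₀c, hD₀q⟩ := npc_iff.mp
        (Cfsg.Agent.Lib.Lead.hasNormalPComplement_of_normalizer_le_centralizer PE hPE)
      have hD₀mem : ∀ e : ↥E, (orderOf e).Coprime p → e ∈ D₀ := by
        intro e he
        obtain ⟨k, hk⟩ := hD₀q e
        have hcop : (p ^ k).Coprime (orderOf e) := (Nat.Coprime.pow_right k he).symm
        obtain ⟨j, hj⟩ := exists_pow_eq_self_of_coprime hcop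
        rw [← hj]; exact Subgroup.pow_mem _ hk j
      have hD₀ord : ∀ e ∈ D₀, (orderOf e).Coprime p := by
        intro e he
        have h1 : orderOf e ∣ Nat.card D₀ := by
          have := orderOf_dvd_natCard (⟨e, he⟩ : D₀)
          rwa [Subgroup.orderOf_mk] at this
        exact Nat.Coprime.coprime_dvd_left h1 hD₀c
      have hDn : (D₀.map E.subtype).Normal := by
        constructor
        rintro _ ⟨d, hd, rfl⟩ g
        have hmem : g * (d : G) * g⁻¹ ∈ E := hEn.conj_mem _ d.2 g
        refine ⟨⟨_, hmem⟩, ?_, rfl⟩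
        apply hD₀mem
        have h1 : orderOf (⟨g * (d : G) * g⁻¹, hmem⟩ : ↥E) = orderOf d := by
          rw [← Subgroup.orderOf_coe, ← Subgroup.orderOf_coe d]
          exact (MulAut.conj g).orderOf_eq (d : G)
        rw [h1]; exact hD₀ord d hd
      have hDcard : (Nat.card ↥(D₀.map E.subtype)).Coprime p := by
        rw [Subgroup.card_map_of_injective E.subtype_injective]; exact hD₀c
      have hDbot : D₀.map E.subtype ≤ Cfsg.pPrimeCore p G :=
        Cfsg.Agent.Lib.Helper4.le_pPrimeCore hDn hDcard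
      rw [hO] at hDbot
      have hD₀bot : ∀ e ∈ D₀, e = 1 := by
        intro e he
        have : (e : G) ∈ (⊥ : Subgroup G) := hDbot ⟨e, he, rfl⟩
        exact Subtype.ext (Subgroup.mem_bot.mp this)
      have hEp : IsPGroup p ↥E := by
        intro e
        obtain ⟨k, hk⟩ := hD₀q e
        exact ⟨k, hD₀bot _ hk⟩
      have hEH : E ≤ Cfsg.pCore p G := Cfsg.Agent.Lib.Helper4.le_pCore hEn hEp
      have hCp : IsPGroup p ↥(Subgroup.centralizer (Cfsg.pCore p G : Set G)) := by
        intro c
        obtain ⟨k, hk⟩ := hLbq (π c)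
        have h1 : (c : G) ^ (p ^ k) ∈ E := by
          rw [hE]; refine Subgroup.mem_inf.mpr ⟨Subgroup.pow_mem _ c.2 _, ?_⟩
          rw [Subgroup.mem_comap, map_pow]; exact hk
        obtain ⟨k', hk'⟩ := hHp ⟨_, hEH h1⟩
        refine ⟨k + k', ?_⟩
        apply Subtype.ext
        have h2 : ((c : G) ^ (p ^ k)) ^ (p ^ k') = 1 := pow_eq_one_of_subtype (hEH h1) hk'
        rw [pow_add, pow_mul]
        simpa using h2
      exact Cfsg.Agent.Lib.Helper4.le_pCore inferInstance hCp
    obtain ⟨S⟩ : Nonempty (Sylow p G) := inferInstance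
    by_cases htop : (S : Subgroup G) = ⊤
    · apply npc_of_isPGroup
      intro g
      have hg : g ∈ (S : Subgroup G) := by rw [htop]; trivial
      obtain ⟨k, hk⟩ := S.isPGroup' ⟨g, hg⟩
      exact ⟨k, pow_eq_one_of_subtype hg hk⟩
    by_cases hco : IsCoatom (S : Subgroup G)
    · exact hloc G hC hc hbar S hco (hyp S)
    · exfalso
      have : ∃ K₀ : Subgroup G, (S : Subgroup G) < K₀ ∧ K₀ ≠ ⊤ := by
        by_contra hcon
        push Not at hcon
        exact hco ⟨htop, fun K₀ hK₀ => hcon K₀ hK₀⟩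
      obtain ⟨K₀, hSM, hMtop⟩ := this
      have hNPC := IHsub K₀ hMtop (lhyp_subgroup_sylow M Z ax K₀ S hSM.le hyp)
      obtain ⟨D, hDn, hDc, hDq⟩ := npc_iff.mp hNPC
      have hHM : Cfsg.pCore p G ≤ K₀ := (Cfsg.Agent.Lib.Helper4.pCore_le_sylow S).trans hSM.le
      have hDH : ∀ d ∈ D, (d : G) ∈ Subgroup.centralizer (Cfsg.pCore p G : Set G) := by
        intro d hd
        rw [Subgroup.mem_centralizer_iff]
        intro h hh
        have h1 : h * (d : G) * h⁻¹ * (d : G)⁻¹ ∈ Cfsg.pCore p G := by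
          have := (Cfsg.pCore_normal p G).conj_mem h⁻¹ (inv_mem hh) (d : G)
          have h2 : h * (d : G) * h⁻¹ * (d : G)⁻¹ = h * ((d : G) * h⁻¹ * (d : G)⁻¹) := by group
          rw [h2]; exact mul_mem hh this
        obtain ⟨c, hcdef⟩ : ∃ c : ↥K₀, c = (⟨h, hHM hh⟩ : ↥K₀) * d * (⟨h, hHM hh⟩ : ↥K₀)⁻¹ * d⁻¹ :=
          ⟨_, rfl⟩
        have h3 : c ∈ D := by
          rw [hcdef]; exact D.mul_mem (hDn.conj_mem d hd _) (D.inv_mem hd)
        have hcG : (c : G) = h * (d : G) * h⁻¹ * (d : G)⁻¹ := by rw [hcdef]; rfl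
        have hc1 : c = 1 := by
          obtain ⟨k, hk⟩ := hHp ⟨(c : G), by rw [hcG]; exact h1⟩
          have h4 : c ^ (p ^ k) = 1 := by
            apply Subtype.ext
            have := congrArg Subtype.val hk
            simpa using this
          have h5 : orderOf c ∣ p ^ k := orderOf_dvd_of_pow_eq_one h4
          have h6 : orderOf c ∣ Nat.card D := by
            have := orderOf_dvd_natCard (⟨c, h3⟩ : D)
            rwa [Subgroup.orderOf_mk] at this
          exact orderOf_eq_one_iff.mp
            (Nat.eq_one_of_dvd_coprimes (Nat.Coprime.pow_right k hDc) h6 h5)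
        have hc2 : h * (d : G) * h⁻¹ * (d : G)⁻¹ = 1 := by rw [← hcG, hc1]; rfl
        calc h * (d : G) = (h * (d : G) * h⁻¹ * (d : G)⁻¹) * ((d : G) * h) := by group
          _ = (d : G) * h := by rw [hc2, one_mul]
      have hMp : IsPGroup p ↥K₀ := by
        intro m
        obtain ⟨k, hk⟩ := hDq m
        have h1 : ((m ^ (p ^ k) : ↥K₀) : G) ∈ Cfsg.pCore p G := hc (hDH _ hk)
        obtain ⟨k', hk'⟩ := hHp ⟨_, h1⟩
        refine ⟨k + k', ?_⟩
        apply Subtype.ext
        have h2 : (((m : G) ^ (p ^ k))) ^ (p ^ k') = 1 := by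
          have := congrArg Subtype.val hk'
          simpa using this
        rw [pow_add, pow_mul]
        simpa using h2
      have := S.is_maximal' hMp hSM.le
      exact hSM.ne this.symm


/-- **Generic reduction, several local subgroups.** -/
theorem gr2 (ax : LocAx p M Z)
    (C : ∀ (X : Type u) [Group X], Prop)
    (hCsub : ∀ (X : Type u) [Group X] [Finite X], C X → ∀ K : Subgroup X, C ↥K)
    (hCquot : ∀ (X : Type u) [Group X] [Finite X], C X → ∀ (N : Subgroup X) [N.Normal], C (X ⧸ N))
    (hloc : ∀ (X : Type u) [Group X] [Finite X], C X →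
      Subgroup.centralizer (Cfsg.pCore p X : Set X) ≤ Cfsg.pCore p X →
      Cfsg.HasNormalPComplement p (X ⧸ Cfsg.pCore p X) →
      ∀ T : Sylow p X, IsCoatom (T : Subgroup X) →
        (∀ i, Cfsg.HasNormalPComplement p ↥(M i X (T : Subgroup X))) →
        Cfsg.HasNormalPComplement p X)
    {G : Type u} [Group G] [Finite G] (hC : C G) (S : Sylow p G)
    (hN : ∀ i, Cfsg.HasNormalPComplement p ↥(M i G (S : Subgroup G))) :
    Cfsg.HasNormalPComplement p G :=
  gr2_main M Z ax C hCsub hCquot hloc _ G rfl hC (lhyp_of_one M Z ax S hN)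

end Cfsg.Agent.Lib.Helper1
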