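import Mathlib
import Cfsg.Agent.S0649
import Cfsg.Agent.Lib.Helper1.Glauberman
import Cfsg.Agent.Lib.Helper1.Abel
import Cfsg.Prelude.Def_PLocal

set_option autoImplicit false
open Pointwise
open scoped commutatorElement

namespace Cfsg.Agent.Lib.Helper1

namespace GSetup

variable {S : Type*} [Group S] {p : ℕ} {B A : Subgroup S} {b : S}

theorem x_pow_p [Finite S] [Fact p.Prime] (h : GSetup p B A b) (hp : p ≠ 2) {a : S} (ha : a ∈ A)
    (hap : a ^ p = 1) : (a * b⁻¹ * a⁻¹ * b) ^ p = 1 := by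
  obtain ⟨y, hy⟩ : ∃ y, y = b⁻¹ * a⁻¹ * b := ⟨_, rfl⟩
  have hyAp : y ∈ gAp A b := by rw [hy]; exact h.sigma_mem (A.inv_mem ha)
  obtain ⟨c, hc⟩ : ∃ c, c = ⁅y⁻¹, a⁻¹⁆ := ⟨_, rfl⟩
  have hcH : c ∈ gH A b := by
    rw [hc]
    exact h.comm_M_A (Subgroup.commutator_mem_commutator
      ((le_sup_right : gAp A b ≤ A ⊔ gAp A b) (Subgroup.inv_mem _ hyAp)) (A.inv_mem ha))
  have hrel : y * a = a * y * c := by rw [hc, commutatorElement_def]; group
  have hca : Commute c a := h.H_comm_M hcH ((le_sup_left : A ≤ A ⊔ gAp A b) ha)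
  have hcy : Commute c y := h.H_comm_M hcH ((le_sup_right : gAp A b ≤ A ⊔ gAp A b) hyAp)
  have h1 := Cfsg.Agent.Lib.Helper6.mul_pow_of_central_comm a y c hrel hca hcy p
  have e1 : a * b⁻¹ * a⁻¹ * b = a * y := by rw [hy]; group
  have h2 : y ^ p = 1 := by
    rw [hy]
    have e2 : b⁻¹ * a⁻¹ * b = b⁻¹ * a⁻¹ * b⁻¹⁻¹ := by group
    rw [e2, conj_pow, inv_pow, hap]; group
  have hcp : c ^ p = 1 := by
    have e3 : y⁻¹ * a⁻¹ * y⁻¹⁻¹ = c * a⁻¹ := by rw [hc, commutatorElement_def]; group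
    have e4 : (y⁻¹ * a⁻¹ * y⁻¹⁻¹) ^ p = 1 := by rw [conj_pow, inv_pow, hap]; group
    rw [e3, (hca.inv_right).mul_pow, inv_pow, hap, inv_one, mul_one] at e4
    exact e4
  have h3 : c ^ (p.choose 2) = 1 := by
    obtain ⟨m, hm⟩ := odd_dvd_choose_two ((Fact.out : p.Prime).odd_of_ne_two hp)
    rw [hm, pow_mul, hcp, one_pow]
  rw [e1, h1, hap, h2, h3]; group

end GSetup

open Classical in
theorem grk_card_omega {G : Type*} [Group G] [Fintype G] (p : ℕ) (K : Subgroup G)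
    (hK : ∀ x ∈ K, ∀ y ∈ K, x * y = y * x) :
    Nat.card (Cfsg.omegaOne p K) = (Finset.univ.filter (fun x : G => x ∈ K ∧ x ^ p = 1)).card := by
  obtain ⟨T, hT⟩ : ∃ T : Subgroup G, ∀ x, x ∈ T ↔ (x ∈ K ∧ x ^ p = 1) :=
    ⟨{ carrier := {x | x ∈ K ∧ x ^ p = 1}
       one_mem' := ⟨K.one_mem, one_pow _⟩
       mul_mem' := by
         rintro x y ⟨hx, hxp⟩ ⟨hy, hyp⟩
         exact ⟨K.mul_mem hx hy, by
           rw [(show Commute x y from hK x hx y hy).mul_pow, hxp, hyp, one_mul]⟩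
       inv_mem' := by
         rintro x ⟨hx, hxp⟩
         exact ⟨K.inv_mem hx, by rw [inv_pow, hxp, inv_one]⟩ }, fun x => Iff.rfl⟩
  have hE : Cfsg.omegaOne p K = T := by
    apply le_antisymm
    · unfold Cfsg.omegaOne
      rw [Subgroup.closure_le]
      intro x hx; exact (hT x).mpr hx
    · intro x hx
      exact Subgroup.subset_closure ((hT x).mp hx)
  rw [hE]
  exact Nat.subtype_card _ (fun x => by rw [Finset.mem_filter]; simp [hT])

open Classical in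
theorem grk_count {G : Type*} [Group G] [Finite G] (p : ℕ) (A T : Subgroup G) (b : G)
    (hA : ∀ x ∈ A, ∀ y ∈ A, x * y = y * x) (hT : ∀ x ∈ T, ∀ y ∈ T, x * y = y * x)
    (hmem : ∀ k a : G, k ∈ A → b * k * b⁻¹ ∈ A → k ^ p = 1 → a ∈ A → a ^ p = 1 →
      k * (a * b⁻¹ * a⁻¹ * b) ∈ T ∧ (k * (a * b⁻¹ * a⁻¹ * b)) ^ p = 1) :
    Nat.card (Cfsg.omegaOne p A) ≤ Nat.card (Cfsg.omegaOne p T) := by
  haveI : Fintype G := Fintype.ofFinite G
  rw [grk_card_omega p A hA, grk_card_omega p T hT]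
  obtain ⟨sH, hsH⟩ : ∃ sH : Finset G, ∀ k, k ∈ sH ↔ (k ∈ A ∧ b * k * b⁻¹ ∈ A ∧ k ^ p = 1) :=
    ⟨Finset.univ.filter (fun k : G => k ∈ A ∧ b * k * b⁻¹ ∈ A ∧ k ^ p = 1), fun k => by simp⟩
  obtain ⟨sA, hsA, hsAeq⟩ : ∃ sA : Finset G, (∀ a, a ∈ sA ↔ (a ∈ A ∧ a ^ p = 1)) ∧
      sA = Finset.univ.filter (fun x : G => x ∈ A ∧ x ^ p = 1) :=
    ⟨Finset.univ.filter (fun a : G => a ∈ A ∧ a ^ p = 1), fun a => by simp, rfl⟩
  obtain ⟨sT, hsT, hsTeq⟩ : ∃ sT : Finset G, (∀ a, a ∈ sT ↔ (a ∈ T ∧ a ^ p = 1)) ∧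
      sT = Finset.univ.filter (fun x : G => x ∈ T ∧ x ^ p = 1) :=
    ⟨Finset.univ.filter (fun a : G => a ∈ T ∧ a ^ p = 1), fun a => by simp, rfl⟩
  rw [← hsAeq, ← hsTeq]
  obtain ⟨f, hf⟩ : ∃ f : G × G → G, ∀ q, f q = q.1 * (q.2 * b⁻¹ * q.2⁻¹ * b) := ⟨_, fun q => rfl⟩
  have himg : (sH ×ˢ sA).image f ⊆ sT := by
    intro y hy
    obtain ⟨⟨k, a⟩, hq, rfl⟩ := Finset.mem_image.mp hy
    rw [Finset.mem_product] at hq
    obtain ⟨hk, ha⟩ := hq
    rw [hsH] at hk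
    rw [hsA] at ha
    rw [hsT, hf]
    exact hmem k a hk.1 hk.2.1 hk.2.2 ha.1 ha.2
  have hfib : ∀ y ∈ (sH ×ˢ sA).image f,
      ((sH ×ˢ sA).filter (fun q => f q = y)).card ≤ sH.card := by
    intro y hy
    obtain ⟨⟨k, a⟩, hq, rfl⟩ := Finset.mem_image.mp hy
    rw [Finset.mem_product] at hq
    obtain ⟨hk, ha⟩ := hq
    rw [hsH] at hk
    rw [hsA] at ha
    apply Finset.card_le_card_of_injOn (fun q : G × G => b⁻¹ * (q.2⁻¹ * a) * b)
    · intro q hq
      have hq' := Finset.mem_filter.mp (Finset.mem_coe.mp hq)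
      obtain ⟨hq1, hfq⟩ := hq'
      rw [Finset.mem_product] at hq1
      obtain ⟨hk', ha'⟩ := hq1
      rw [hsH] at hk'
      rw [hsA] at ha'
      rw [hf, hf] at hfq
      simp only at hfq
      show b⁻¹ * (q.2⁻¹ * a) * b ∈ sH
      rw [hsH]
      refine ⟨?_, ?_, ?_⟩
      · have h1 : q.1 * q.2 * (b⁻¹ * (q.2⁻¹ * a) * b) = k * a := by
          calc q.1 * q.2 * (b⁻¹ * (q.2⁻¹ * a) * b)
              = (q.1 * (q.2 * b⁻¹ * q.2⁻¹ * b)) * (b⁻¹ * a * b) := by group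
            _ = (k * (a * b⁻¹ * a⁻¹ * b)) * (b⁻¹ * a * b) := by rw [hfq]
            _ = k * a := by group
        have e : b⁻¹ * (q.2⁻¹ * a) * b = (q.1 * q.2)⁻¹ * (k * a) := by
          rw [← h1]; group
        rw [e]
        exact A.mul_mem (A.inv_mem (A.mul_mem hk'.1 ha'.1)) (A.mul_mem hk.1 ha.1)
      · have e : b * (b⁻¹ * (q.2⁻¹ * a) * b) * b⁻¹ = q.2⁻¹ * a := by group
        rw [e]; exact A.mul_mem (A.inv_mem ha'.1) ha.1
      · have e : b⁻¹ * (q.2⁻¹ * a) * b = b⁻¹ * (q.2⁻¹ * a) * b⁻¹⁻¹ := by group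
        rw [e, conj_pow]
        have hc : Commute q.2⁻¹ a := hA _ (A.inv_mem ha'.1) _ ha.1
        rw [hc.mul_pow, inv_pow, ha'.2, ha.2]; group
    · intro q hq q' hq' heq
      have hq1 := (Finset.mem_filter.mp (Finset.mem_coe.mp hq)).2
      have hq1' := (Finset.mem_filter.mp (Finset.mem_coe.mp hq')).2
      have h2 : q.2 = q'.2 := by
        have h3 : q.2⁻¹ * a = q'.2⁻¹ * a := by
          have h4 : b * (b⁻¹ * (q.2⁻¹ * a) * b) * b⁻¹ = b * (b⁻¹ * (q'.2⁻¹ * a) * b) * b⁻¹ :=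
            congrArg (fun z => b * z * b⁻¹) heq
          have e1 : b * (b⁻¹ * (q.2⁻¹ * a) * b) * b⁻¹ = q.2⁻¹ * a := by group
          have e2 : b * (b⁻¹ * (q'.2⁻¹ * a) * b) * b⁻¹ = q'.2⁻¹ * a := by group
          rw [e1, e2] at h4
          exact h4
        exact inv_injective (mul_right_cancel h3)
      have h1 : q.1 = q'.1 := by
        have h5 : f q = f q' := hq1.trans hq1'.symm
        rw [hf, hf, h2] at h5
        exact mul_right_cancel h5
      exact Prod.ext h1 h2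
  have h1 := Finset.card_le_mul_card_image (sH ×ˢ sA) sH.card hfib
  rw [Finset.card_product] at h1
  have h2 : ((sH ×ˢ sA).image f).card ≤ sT.card := Finset.card_le_card himg
  have hpos : 0 < sH.card := Finset.card_pos.mpr ⟨1, by rw [hsH]; simp [A.one_mem]⟩
  exact Nat.le_of_mul_le_mul_left (h1.trans (Nat.mul_le_mul_left _ h2)) hpos

theorem grk_main {G : Type*} [Group G] [Finite G] {p : ℕ} [Fact p.Prime] (hp : p ≠ 2)
    (hG : IsPGroup p G) (A B : Subgroup G) (hA : IsMulCommutative A)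
    (hBA : ⁅B, B⁆ ≤ A) (hAB : A ≤ Subgroup.normalizer (B : Set G))
    (hBnA : ¬ B ≤ Subgroup.normalizer (A : Set G)) :
    ∃ Astar : Subgroup G, IsMulCommutative Astar ∧ Nat.card Astar = Nat.card A ∧
      A ⊓ B < Astar ⊓ B ∧ Astar ≤ Subgroup.normalizer (A : Set G) ∧
      Astar ≤ Subgroup.normalClosure (A : Set G) ∧
      Monoid.exponent Astar ∣ Monoid.exponent A ∧
      Nat.card (Cfsg.omegaOne p A) ≤ Nat.card (Cfsg.omegaOne p Astar) := by
  have hAc : ∀ x ∈ A, ∀ y ∈ A, x * y = y * x := comm_of_isMulCommutative hA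
  obtain ⟨S, hS⟩ : ∃ S : Subgroup G, S = A ⊔ B := ⟨_, rfl⟩
  have hAS : A ≤ S := hS ▸ le_sup_left
  have hBS : B ≤ S := hS ▸ le_sup_right
  have hSp : IsPGroup p S := hG.to_subgroup S
  have hSN : S ≤ Subgroup.normalizer (B : Set G) := by
    rw [hS]; exact sup_le hAB Subgroup.le_normalizer
  haveI hBn : (B.subgroupOf S).Normal :=
    (Subgroup.normal_subgroupOf_iff_le_normalizer hBS).mpr hSN
  have hA' : IsMulCommutative (A.subgroupOf S) := isMulCommutative_of_comm (by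
    intro x hx y hy
    apply Subtype.ext
    exact hAc _ hx _ hy)
  have hBA' : ⁅B.subgroupOf S, B.subgroupOf S⁆ ≤ A.subgroupOf S := by
    rw [Subgroup.commutator_le]
    intro x hx y hy
    rw [Subgroup.mem_subgroupOf]
    have e : ((⁅x, y⁆ : S) : G) = ⁅(x : G), (y : G)⁆ := by simp [commutatorElement_def]
    rw [e]
    exact hBA (Subgroup.commutator_mem_commutator hx hy)
  have hnot' : ¬ B.subgroupOf S ≤ Subgroup.normalizer ((A.subgroupOf S : Subgroup S) : Set S) := by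
    intro hle
    apply hBnA
    intro b hb
    apply Cfsg.Agent.Lib.Helper6.mem_normalizer_of_conj_mem
    intro d hd
    have h1 : (⟨b, hBS hb⟩ : S) ∈ Subgroup.normalizer ((A.subgroupOf S : Subgroup S) : Set S) :=
      hle (by rw [Subgroup.mem_subgroupOf]; exact hb)
    have h2 := (Subgroup.mem_normalizer_iff.mp h1 ⟨d, hAS hd⟩).mp
      (by rw [Subgroup.mem_subgroupOf]; exact hd)
    rw [Subgroup.mem_subgroupOf] at h2
    simpa using h2
  obtain ⟨b, hb, hbN, hbA⟩ := Cfsg.Agent.S0649.result hSp (B.subgroupOf S)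
    (fun h => absurd h hp) (A.subgroupOf S) hA' hBA' hnot'
  have h : GSetup p (B.subgroupOf S) (A.subgroupOf S) b :=
    ⟨hSp, hBn, fun h => absurd h hp, comm_of_isMulCommutative hA', hBA', hb, hbN, hbA⟩
  obtain ⟨Astar, hAstar⟩ : ∃ Astar : Subgroup G,
      Astar = (gStar (A.subgroupOf S) b).map S.subtype := ⟨_, rfl⟩
  have hAstar_comm : ∀ x ∈ Astar, ∀ y ∈ Astar, x * y = y * x := by
    rw [hAstar]
    rintro _ ⟨x, hx, rfl⟩ _ ⟨y, hy, rfl⟩
    have h1 := h.star_comm x hx y hy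
    have h2 := congrArg Subtype.val h1
    simpa using h2
  refine ⟨Astar, isMulCommutative_of_comm hAstar_comm, ?_, ?_, ?_, ?_, ?_, ?_⟩
  · rw [hAstar, Subgroup.card_map_of_injective S.subtype_injective, h.card_star]
    exact Nat.card_congr (Subgroup.subgroupOfEquivOfLe hAS).toEquiv
  · have h1 := h.inf_lt
    have h2 : (A.subgroupOf S ⊓ B.subgroupOf S).map S.subtype = A ⊓ B := by
      rw [Subgroup.map_inf _ _ _ S.subtype_injective, Subgroup.subgroupOf_map_subtype,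
        Subgroup.subgroupOf_map_subtype, inf_eq_left.mpr hAS, inf_eq_left.mpr hBS]
    have h3 : (gStar (A.subgroupOf S) b ⊓ B.subgroupOf S).map S.subtype = Astar ⊓ B := by
      rw [Subgroup.map_inf _ _ _ S.subtype_injective, Subgroup.subgroupOf_map_subtype,
        inf_eq_left.mpr hBS, hAstar]
    rw [← h2, ← h3]
    exact (Subgroup.map_lt_map_iff_of_injective S.subtype_injective).mpr h1
  · rw [hAstar]
    rintro _ ⟨x, hx, rfl⟩
    apply Cfsg.Agent.Lib.Helper6.mem_normalizer_of_conj_mem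
    intro d hd
    have h1 := h.star_le_N hx
    have h2 := (Subgroup.mem_normalizer_iff.mp h1 ⟨d, hAS hd⟩).mp
      (by rw [Subgroup.mem_subgroupOf]; exact hd)
    rw [Subgroup.mem_subgroupOf] at h2
    simpa using h2
  · rw [hAstar, Subgroup.map_le_iff_le_comap]
    unfold gStar
    apply sup_le
    · intro x hx
      have hxA : x ∈ A.subgroupOf S := (Subgroup.mem_inf.mp hx).1
      rw [Subgroup.mem_subgroupOf] at hxA
      exact Subgroup.subset_normalClosure hxA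
    · unfold gX
      rw [Subgroup.closure_le]
      rintro g ⟨a, ha, rfl⟩
      rw [Subgroup.mem_subgroupOf] at ha
      show S.subtype (a * b⁻¹ * a⁻¹ * b) ∈ Subgroup.normalClosure (A : Set G)
      have e : S.subtype (a * b⁻¹ * a⁻¹ * b)
          = (a : G) * ((b : G)⁻¹ * (a : G)⁻¹ * ((b : G)⁻¹)⁻¹) := by
        simp [mul_assoc]
      rw [e]
      exact Subgroup.mul_mem _ (Subgroup.subset_normalClosure ha)
        (Subgroup.normalClosure_normal.conj_mem _
          (Subgroup.inv_mem _ (Subgroup.subset_normalClosure ha)) _)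
  · apply Monoid.exponent_dvd_of_forall_pow_eq_one
    rintro ⟨g, hg⟩
    apply Subtype.ext
    rw [hAstar] at hg
    obtain ⟨x, hx, rfl⟩ := hg
    have h1 := h.pow_exponent_star hp x hx
    have h2 : Monoid.exponent ↥(A.subgroupOf S) ∣ Monoid.exponent ↥A := by
      apply Monoid.exponent_dvd_of_forall_pow_eq_one
      rintro ⟨g, hg⟩
      rw [Subgroup.mem_subgroupOf] at hg
      have h3 := Monoid.pow_exponent_eq_one (⟨(g : G), hg⟩ : A)
      apply Subtype.ext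
      apply Subtype.ext
      have h4 := congrArg Subtype.val h3
      simpa using h4
    obtain ⟨m, hm⟩ := h2
    have h5 : x ^ Monoid.exponent ↥A = 1 := by rw [hm, pow_mul, h1, one_pow]
    have h6 := congrArg Subtype.val h5
    simpa using h6
  · apply grk_count p A Astar (b : G) hAc hAstar_comm
    intro k a hk hbk hkp ha hap
    have hkS : k ∈ S := hAS hk
    have haS : a ∈ S := hAS ha
    have hkH : (⟨k, hkS⟩ : S) ∈ gH (A.subgroupOf S) b := by
      refine Subgroup.mem_inf.mpr ⟨by rw [Subgroup.mem_subgroupOf]; exact hk, ?_⟩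
      rw [mem_gAp, Subgroup.mem_subgroupOf]
      simpa using hbk
    have haA : (⟨a, haS⟩ : S) ∈ A.subgroupOf S := by rw [Subgroup.mem_subgroupOf]; exact ha
    have hx := h.x_mem_X haA
    have hmemStar : (⟨k, hkS⟩ : S) * ((⟨a, haS⟩ : S) * b⁻¹ * (⟨a, haS⟩ : S)⁻¹ * b)
        ∈ gStar (A.subgroupOf S) b :=
      Subgroup.mul_mem _ ((le_sup_left : gH _ b ≤ gStar _ b) hkH)
        ((le_sup_right : gX _ b ≤ gStar _ b) hx)
    constructor
    · rw [hAstar]
      exact ⟨_, hmemStar, by simp⟩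
    · have hcomm : Commute (⟨k, hkS⟩ : S) ((⟨a, haS⟩ : S) * b⁻¹ * (⟨a, haS⟩ : S)⁻¹ * b) :=
        h.H_comm_M hkH (h.x_mem_M haA)
      have hk1 : (⟨k, hkS⟩ : S) ^ p = 1 := Subtype.ext (by simpa using hkp)
      have ha1 : (⟨a, haS⟩ : S) ^ p = 1 := Subtype.ext (by simpa using hap)
      have h7 : ((⟨k, hkS⟩ : S) * ((⟨a, haS⟩ : S) * b⁻¹ * (⟨a, haS⟩ : S)⁻¹ * b)) ^ p = 1 := by
        rw [hcomm.mul_pow, hk1, h.x_pow_p hp haA ha1, one_mul]
      have h8 := congrArg Subtype.val h7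
      simpa using h8

end Cfsg.Agent.Lib.Helper1
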