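import Cfsg.Agent.Lib.Helper1.WQ3
import Cfsg.Agent.Lib.Helper3.KInf3
import Cfsg.Agent.Lib.Helper3.SecIso
import Cfsg.Agent.S1978

set_option autoImplicit false

namespace Cfsg.Agent.Lib.Helper1

open Cfsg.Agent.Lib.Helper3

universe u

theorem sSup_lower_map {Q R : Type*} [Group Q] [Group R] (φ : Q ≃* R) (K : Subgroup Q) :
    (sSup (Cfsg.kLowerStarFamily K)).map φ.toMonoidHom =
      sSup (Cfsg.kLowerStarFamily (K.map φ.toMonoidHom)) := by
  have hf : Function.Injective φ.toMonoidHom := φ.injective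
  have hs : Function.Surjective φ.toMonoidHom := φ.surjective
  apply le_antisymm
  · rw [Subgroup.map_le_iff_le_comap]
    apply sSup_le
    intro B hB
    rw [← Subgroup.map_le_iff_le_comap]
    exact le_sSup ((lower_map_iff φ.toMonoidHom hf K B).mpr hB)
  · apply sSup_le
    intro B' hB'
    have e : (B'.comap φ.toMonoidHom).map φ.toMonoidHom = B' :=
      Subgroup.map_comap_eq_self_of_surjective hs B'
    rw [← e] at hB' ⊢
    exact Subgroup.map_mono (le_sSup ((lower_map_iff φ.toMonoidHom hf K _).mp hB'))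

theorem sSup_upper_map {Q R : Type*} [Group Q] [Group R] (φ : Q ≃* R) (K : Subgroup Q) :
    (sSup (Cfsg.kUpperStarFamily K)).map φ.toMonoidHom =
      sSup (Cfsg.kUpperStarFamily (K.map φ.toMonoidHom)) := by
  have hf : Function.Injective φ.toMonoidHom := φ.injective
  have hs : Function.Surjective φ.toMonoidHom := φ.surjective
  apply le_antisymm
  · rw [Subgroup.map_le_iff_le_comap]
    apply sSup_le
    intro B hB
    rw [← Subgroup.map_le_iff_le_comap]
    exact le_sSup ((upper_map_iff φ.toMonoidHom hf K B).mpr hB)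
  · apply sSup_le
    intro B' hB'
    have e : (B'.comap φ.toMonoidHom).map φ.toMonoidHom = B' :=
      Subgroup.map_comap_eq_self_of_surjective hs B'
    rw [← e] at hB' ⊢
    exact Subgroup.map_mono (le_sSup ((upper_map_iff φ.toMonoidHom hf K _).mp hB'))

theorem kSeqOdd_map_equiv {Q R : Type*} [Group Q] [Group R] (φ : Q ≃* R) (n : ℕ) :
    (Cfsg.kSeqOdd Q n).map φ.toMonoidHom = Cfsg.kSeqOdd R n := by
  induction n with
  | zero =>
    show (⊤ : Subgroup Q).map φ.toMonoidHom = ⊤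
    exact Subgroup.map_top_of_surjective _ φ.surjective
  | succ n ih =>
    show (sSup (Cfsg.kUpperStarFamily (sSup (Cfsg.kLowerStarFamily (Cfsg.kSeqOdd Q n))))).map
        φ.toMonoidHom =
      sSup (Cfsg.kUpperStarFamily (sSup (Cfsg.kLowerStarFamily (Cfsg.kSeqOdd R n))))
    rw [sSup_upper_map, sSup_lower_map, ih]

theorem kSeqEven_map_equiv {Q R : Type*} [Group Q] [Group R] (φ : Q ≃* R) (n : ℕ) :
    (Cfsg.kSeqEven Q n).map φ.toMonoidHom = Cfsg.kSeqEven R n := by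
  show (sSup (Cfsg.kLowerStarFamily (Cfsg.kSeqOdd Q n))).map φ.toMonoidHom =
    sSup (Cfsg.kLowerStarFamily (Cfsg.kSeqOdd R n))
  rw [sSup_lower_map, kSeqOdd_map_equiv]

theorem kInfLower_map_equiv {Q R : Type u} [Group Q] [Group R] (φ : Q ≃* R) :
    (Cfsg.kInfLower Q).map φ.toMonoidHom = Cfsg.kInfLower R := by
  show (⨆ n, Cfsg.kSeqEven Q n).map φ.toMonoidHom = ⨆ n, Cfsg.kSeqEven R n
  rw [Subgroup.map_iSup]
  congr 1
  funext n
  exact kSeqEven_map_equiv φ n

section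
variable {p : ℕ} [Fact p.Prime]

theorem kInfLower_charP : Cfsg.IsCharPFunctor.{u} p Cfsg.kInfLower := by
  refine ⟨fun Q _ _ hQ hnt h0 => ?_, fun Q R _ _ _ _ φ => kInfLower_map_equiv φ⟩
  have h1 := (Cfsg.Agent.S1978.result (p := p) hQ).1
  rw [h0] at h1
  have h2 : (⊤ : Subgroup Q) ≤ ⊥ := by
    intro x _
    apply h1
    rw [Subgroup.mem_centralizer_iff]
    intro y hy
    rw [SetLike.mem_coe, Subgroup.mem_bot] at hy
    rw [hy]; simp
  obtain ⟨x, hx⟩ := exists_ne (1 : Q)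
  exact hx (Subgroup.mem_bot.mp (h2 (Subgroup.mem_top x)))

theorem kinf_isConj {G : Type u} [Group G] [Finite G] :
    Cfsg.IsConjugacyFunctor p (Cfsg.inducedFunctor (G := G) Cfsg.kInfLower) :=
  inducedFunctor_isConjugacyFunctor Cfsg.kInfLower kInfLower_charP

theorem kinf_center_le {G : Type u} [Group G] [Finite G] (P : Subgroup G) (hP : IsPGroup p ↥P) :
    P ⊓ Subgroup.centralizer (P : Set G) ≤ Cfsg.inducedFunctor (G := G) Cfsg.kInfLower P := by
  intro x hx
  obtain ⟨hxP, hxC⟩ := Subgroup.mem_inf.mp hx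
  have h := Cfsg.Agent.S1978.result (p := p) (P := ↥P) hP
  have hc : (⟨x, hxP⟩ : ↥P) ∈ Subgroup.center ↥P := by
    rw [Subgroup.mem_center_iff]
    intro y
    apply Subtype.ext
    exact Subgroup.mem_centralizer_iff.mp hxC (y : G) y.2
  exact ⟨⟨x, hxP⟩, h.1 (h.2.1 hc), rfl⟩

theorem kinf_eq_of_terms_le {G : Type u} [Group G] [Finite G] (Q T : Subgroup G) (hQT : Q ≤ T)
    (hall : ∀ n : ℕ, Cfsg.kSeqEven ↥T n ≤ Q.subgroupOf T ∧
      Cfsg.kSeqOdd ↥T (n + 1) ≤ Q.subgroupOf T) :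
    Cfsg.inducedFunctor (G := G) Cfsg.kInfLower Q =
      Cfsg.inducedFunctor (G := G) Cfsg.kInfLower T := by
  have h1 := (kInf_subgroup_eq (Q.subgroupOf T) hall).1
  obtain ⟨e, he⟩ : ∃ e : ↥(Q.subgroupOf T) ≃* ↥Q, ∀ x, ((e x : ↥Q) : G) = ((x : ↥T) : G) :=
    ⟨Subgroup.subgroupOfEquivOfLe hQT, fun x => rfl⟩
  have h2 := kInfLower_map_equiv e
  show (Cfsg.kInfLower ↥Q).map Q.subtype = (Cfsg.kInfLower ↥T).map T.subtype
  rw [← h1, ← h2, Subgroup.map_map, Subgroup.map_map]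
  congr 1
  ext x
  exact he x

theorem pCoreOf_le_sylowIn {G : Type*} [Group G] [Finite G] (H T : Subgroup G) (hTH : T ≤ H)
    (hTp : IsPGroup p ↥T) (hidx : ¬ p ∣ T.relIndex H) : Cfsg.pCoreOf p H ≤ T := by
  have hT'p : IsPGroup p (T.subgroupOf H) := hTp.comap_subtype
  have hidx' : ¬ p ∣ (T.subgroupOf H).index := hidx
  obtain ⟨S', hS'⟩ : ∃ S' : Sylow p ↥H, (S' : Subgroup ↥H) = T.subgroupOf H :=
    ⟨hT'p.toSylow hidx', rfl⟩
  rintro _ ⟨a, ha, rfl⟩
  have h1 := Cfsg.Agent.Lib.Helper4.pCore_le_sylow S' ha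
  rw [hS'] at h1
  exact Subgroup.mem_subgroupOf.mp h1

theorem pCoreOf_normalizer {G : Type*} [Group G] (q : ℕ) (H : Subgroup G) :
    H ≤ Subgroup.normalizer ((Cfsg.pCoreOf q H : Subgroup G) : Set G) := by
  intro h hh
  rw [Subgroup.mem_normalizer_iff]
  intro x
  have hn := Cfsg.pCore_normal q ↥H
  constructor
  · rintro ⟨a, ha, rfl⟩
    exact ⟨⟨h, hh⟩ * a * ⟨h, hh⟩⁻¹, hn.conj_mem a ha _, rfl⟩
  · rintro ⟨a, ha, hax⟩
    have h1 := hn.conj_mem a ha ⟨h, hh⟩⁻¹
    rw [inv_inv] at h1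
    refine ⟨_, h1, ?_⟩
    show h⁻¹ * (a : G) * h = x
    have hax' : (a : G) = h * x * h⁻¹ := hax
    rw [hax']; group

/-- If the lower K-infinity subgroup of a Sylow `p`-subgroup `T` of `H` is not normal in `H`,
some element of `T` outside `O_p(H)` acts quadratically on `Z(O_p(H))`. -/
theorem kinf_quad {G : Type u} [Group G] [Finite G]
    (H T : Subgroup G) (hTH : T ≤ H) (hTp : IsPGroup p ↥T) (hidx : ¬ p ∣ T.relIndex H)
    (hN : ¬ H ≤ Subgroup.normalizer
      ((Cfsg.inducedFunctor (G := G) Cfsg.kInfLower T : Subgroup G) : Set G)) :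
    ∃ g : G, g ∈ T ∧ g ∉ Cfsg.pCoreOf p H ∧
      ⁅⁅Cfsg.pCoreOf p H ⊓ Subgroup.centralizer ((Cfsg.pCoreOf p H : Subgroup G) : Set G),
        Subgroup.zpowers g⁆, Subgroup.zpowers g⁆ = ⊥ := by
  obtain ⟨Qg, hQg⟩ : ∃ Qg : Subgroup G, Qg = Cfsg.pCoreOf p H := ⟨_, rfl⟩
  have hQT : Qg ≤ T := by rw [hQg]; exact pCoreOf_le_sylowIn H T hTH hTp hidx
  have hQnorm : H ≤ Subgroup.normalizer (Qg : Set G) := by
    rw [hQg]; exact pCoreOf_normalizer p H
  rw [← hQg]
  by_cases hall : ∀ n : ℕ, Cfsg.kSeqEven ↥T n ≤ Qg.subgroupOf T ∧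
      Cfsg.kSeqOdd ↥T (n + 1) ≤ Qg.subgroupOf T
  · exfalso
    apply hN
    have e := kinf_eq_of_terms_le Qg T hQT hall
    intro h hh
    rw [← e]
    have h1 := ((kinf_isConj (p := p) (G := G)) Qg (hTp.to_le hQT)).2.2 h
    rw [map_conj_eq_self_of_mem_normalizer Qg h (hQnorm hh)] at h1
    exact mem_normalizer_of_map_conj_eq _ h h1.symm
  · push Not at hall
    obtain ⟨n, hn⟩ := hall
    obtain ⟨ZQ, hZQ⟩ : ∃ ZQ : Subgroup G, ZQ = Qg ⊓ Subgroup.centralizer (Qg : Set G) := ⟨_, rfl⟩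
    have hZQT : ZQ ≤ T := by rw [hZQ]; exact inf_le_left.trans hQT
    obtain ⟨A, hA⟩ : ∃ A : Subgroup ↥T, A = ZQ.subgroupOf T := ⟨_, rfl⟩
    have hAmap : A.map T.subtype = ZQ := by
      rw [hA]; exact Subgroup.map_subgroupOf_eq_of_le hZQT
    haveI hAn : A.Normal := by
      refine ⟨fun a ha t => ?_⟩
      rw [hA, Subgroup.mem_subgroupOf] at ha ⊢
      rw [hZQ] at ha ⊢
      obtain ⟨ha1, ha2⟩ := Subgroup.mem_inf.mp ha
      have htN := hQnorm (hTH t.2)
      refine Subgroup.mem_inf.mpr ⟨(Subgroup.mem_normalizer_iff.mp htN _).mp ha1, ?_⟩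
      rw [Subgroup.mem_centralizer_iff] at ha2 ⊢
      intro b hb
      have h1 : (t : G)⁻¹ * b * (t : G) ∈ Qg := (Subgroup.mem_normalizer_iff''.mp htN b).mp hb
      have h3 := ha2 _ h1
      show b * ((t : G) * (a : G) * (t : G)⁻¹) = (t : G) * (a : G) * (t : G)⁻¹ * b
      calc b * ((t : G) * (a : G) * (t : G)⁻¹) =
            (t : G) * (((t : G)⁻¹ * b * (t : G)) * (a : G)) * (t : G)⁻¹ := by group
        _ = (t : G) * ((a : G) * ((t : G)⁻¹ * b * (t : G))) * (t : G)⁻¹ := by rw [h3]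
        _ = (t : G) * (a : G) * (t : G)⁻¹ * b := by group
    have hAc : IsMulCommutative ↥A := by
      refine IsMulCommutative.of_comm (fun a b => ?_)
      apply Subtype.ext
      apply Subtype.ext
      have ha : (a : ↥T) ∈ ZQ.subgroupOf T := hA.le a.2
      have hb : (b : ↥T) ∈ ZQ.subgroupOf T := hA.le b.2
      rw [Subgroup.mem_subgroupOf, hZQ] at ha hb
      show ((a : ↥T) : G) * ((b : ↥T) : G) = ((b : ↥T) : G) * ((a : ↥T) : G)
      exact Subgroup.mem_centralizer_iff.mp (Subgroup.mem_inf.mp hb).2 _ (Subgroup.mem_inf.mp ha).1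
    have hAA : ⁅A, A⁆ = ⊥ := by
      rw [Subgroup.commutator_eq_bot_iff_le_centralizer]
      have h1 := normal_abelian_inf_centralizer A hAc
      exact inf_eq_left.mp h1
    have hquad : ∀ B : Subgroup ↥T, ⁅B, A⁆ ≤ B ⊓ Subgroup.centralizer (B : Set ↥T) → ∀ g ∈ B,
        ⁅⁅A, Subgroup.zpowers g⁆, Subgroup.zpowers g⁆ = ⊥ := by
      intro B hB g hg
      have hz : Subgroup.zpowers g ≤ B := (Subgroup.zpowers_le).mpr hg
      rw [eq_bot_iff]
      have h1 : ⁅⁅A, B⁆, B⁆ = ⊥ := by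
        rw [Subgroup.commutator_eq_bot_iff_le_centralizer, Subgroup.commutator_comm]
        exact hB.trans inf_le_right
      rw [← h1]
      exact Subgroup.commutator_mono (Subgroup.commutator_mono le_rfl hz) hz
    have hfin : ∀ g : ↥T, g ∉ Qg.subgroupOf T →
        ⁅⁅A, Subgroup.zpowers g⁆, Subgroup.zpowers g⁆ = ⊥ →
        ∃ g : G, g ∈ T ∧ g ∉ Qg ∧
          ⁅⁅Qg ⊓ Subgroup.centralizer (Qg : Set G), Subgroup.zpowers g⁆, Subgroup.zpowers g⁆ = ⊥ := by
      intro g hgQ hq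
      refine ⟨(g : G), g.2, fun h1 => hgQ (Subgroup.mem_subgroupOf.mpr h1), ?_⟩
      have h2 := congrArg (Subgroup.map T.subtype) hq
      rw [Subgroup.map_commutator, Subgroup.map_commutator, hAmap, MonoidHom.map_zpowers,
        Subgroup.map_bot, hZQ] at h2
      exact h2
    have hAodd : ∀ m : ℕ, A ≤ Cfsg.kSeqOdd ↥T m := by
      intro m
      cases m with
      | zero => rw [kSeqOdd_zero]; exact le_top
      | succ m => exact le_sSup (normal_abelian_mem_upper A hAc _)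
    by_cases he : Cfsg.kSeqEven ↥T n ≤ Qg.subgroupOf T
    · have ho := hn he
      have hex : ∃ B ∈ Cfsg.kUpperStarFamily (Cfsg.kSeqEven ↥T n), ¬ B ≤ Qg.subgroupOf T := by
        by_contra hc
        push Not at hc
        exact ho (sSup_le hc)
      obtain ⟨B, hB, hBQ⟩ := hex
      obtain ⟨g, hgB, hgQ⟩ := SetLike.not_le_iff_exists.mp hBQ
      have hAle : A ≤ Cfsg.kSeqEven ↥T n := le_sSup (normal_abelian_mem_lower A hAc _)
      exact hfin g hgQ (hquad B ((Subgroup.commutator_mono le_rfl hAle).trans hB.2) g hgB)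
    · have hex : ∃ B ∈ Cfsg.kLowerStarFamily (Cfsg.kSeqOdd ↥T n), ¬ B ≤ Qg.subgroupOf T := by
        by_contra hc
        push Not at hc
        exact he (sSup_le hc)
      obtain ⟨B, hB, hBQ⟩ := hex
      obtain ⟨g, hgB, hgQ⟩ := SetLike.not_le_iff_exists.mp hBQ
      have h3 := hB.2.2 A (normal_abelian_mem_classTwo A hAc) (hAodd n)
        (by rw [Subgroup.normalizer_eq_top]; exact le_top)
        (by rw [hAA]; exact Subgroup.commutator_bot_right B)
        (by
          rw [eq_bot_iff, ← hAA]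
          exact Subgroup.commutator_mono (Subgroup.commutator_le_right _ A) le_rfl)
      exact hfin g hgQ (hquad B h3 g hgB)

end

end Cfsg.Agent.Lib.Helper1
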