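import Mathlib
import Cfsg.Agent.Lib.Helper1.KQ1

set_option autoImplicit false

namespace Cfsg.Agent.Lib.Helper1

open Cfsg.Agent.Lib.Helper3
open scoped commutatorElement

section IterBasics

variable {G : Type*} [Group G]

theorem ke_iter_mono_left {M N : Subgroup G} (K : Subgroup G) (h : M ≤ N) (k : ℕ) :
    Cfsg.iterCommutator M K k ≤ Cfsg.iterCommutator N K k := by
  induction k with
  | zero => exact h
  | succ k ih => exact Subgroup.commutator_mono ih le_rfl

theorem ke_iter_le_normal {M V : Subgroup G} [V.Normal] (K : Subgroup G) (h : M ≤ V) (k : ℕ) :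
    Cfsg.iterCommutator M K k ≤ V := by
  induction k with
  | zero => exact h
  | succ k ih =>
    exact (Subgroup.commutator_mono ih le_rfl).trans (Subgroup.commutator_le_left V K)

theorem ke_iter_add (M K : Subgroup G) (k m : ℕ) :
    Cfsg.iterCommutator M K (k + m) =
      Cfsg.iterCommutator (Cfsg.iterCommutator M K k) K m := by
  induction m with
  | zero => rfl
  | succ m ih =>
    show ⁅Cfsg.iterCommutator M K (k + m), K⁆ =
      ⁅Cfsg.iterCommutator (Cfsg.iterCommutator M K k) K m, K⁆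
    rw [ih]

theorem ke_iter_le_of_le {M V : Subgroup G} [V.Normal] (K : Subgroup G) (k m : ℕ)
    (h : Cfsg.iterCommutator M K k ≤ V) : Cfsg.iterCommutator M K (k + m) ≤ V := by
  rw [ke_iter_add]; exact ke_iter_le_normal K h m

theorem ke_commutator_sup_le (N Y K : Subgroup G) [Y.Normal] :
    ⁅N ⊔ Y, K⁆ ≤ ⁅N, K⁆ ⊔ Y := by
  rw [Subgroup.commutator_le]
  intro x hx k hk
  obtain ⟨n, hn, y, hy, rfl⟩ := Subgroup.mem_sup_of_normal_right.mp hx
  have h1 : ⁅n * y, k⁆ = n * (y * (k * y⁻¹ * k⁻¹)) * n⁻¹ * ⁅n, k⁆ := by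
    rw [commutatorElement_def, commutatorElement_def]; group
  rw [h1]
  refine Subgroup.mul_mem _ (Subgroup.mem_sup_right ?_)
    (Subgroup.mem_sup_left (Subgroup.commutator_mem_commutator hn hk))
  apply ‹Y.Normal›.conj_mem
  exact Y.mul_mem hy (‹Y.Normal›.conj_mem _ (Y.inv_mem hy) k)

theorem ke_iter_sup_le (N Y K : Subgroup G) [Y.Normal] (k : ℕ) :
    Cfsg.iterCommutator (N ⊔ Y) K k ≤ Cfsg.iterCommutator N K k ⊔ Y := by
  induction k with
  | zero => exact le_rfl
  | succ k ih =>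
    exact (Subgroup.commutator_mono ih le_rfl).trans (ke_commutator_sup_le _ Y K)

theorem ke_conj_mem_commutator (M K : Subgroup G) (h : G) (hh : h ∈ K) :
    ∀ x ∈ ⁅M, K⁆, h * x * h⁻¹ ∈ ⁅M, K⁆ := by
  have h1 : ⁅M, K⁆ ≤ (⁅M, K⁆).comap (MulAut.conj h).toMonoidHom := by
    rw [Subgroup.commutator_le]
    intro m hm k hk
    rw [Subgroup.mem_comap]
    show h * ⁅m, k⁆ * h⁻¹ ∈ ⁅M, K⁆
    have h2 : h * ⁅m, k⁆ * h⁻¹ = ⁅m, h⁆⁻¹ * ⁅m, h * k⁆ := by
      rw [commutatorElement_def, commutatorElement_def, commutatorElement_def]; group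
    rw [h2]
    exact Subgroup.mul_mem _ (Subgroup.inv_mem _ (Subgroup.commutator_mem_commutator hm hh))
      (Subgroup.commutator_mem_commutator hm (K.mul_mem hh hk))
  intro x hx
  exact h1 hx

theorem ke_le_normalizer_commutator (M K : Subgroup G) :
    K ≤ Subgroup.normalizer ((⁅M, K⁆ : Subgroup G) : Set G) := by
  intro h hh
  rw [Subgroup.mem_normalizer_iff]
  intro x
  refine ⟨ke_conj_mem_commutator M K h hh x, fun hx => ?_⟩
  have h1 := ke_conj_mem_commutator M K h⁻¹ (K.inv_mem hh) _ hx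
  have h2 : h⁻¹ * (h * x * h⁻¹) * h⁻¹⁻¹ = x := by group
  rw [h2] at h1
  exact h1

theorem ke_le_normalizer_iter (M K : Subgroup G)
    (hM : K ≤ Subgroup.normalizer (M : Set G)) (k : ℕ) :
    K ≤ Subgroup.normalizer ((Cfsg.iterCommutator M K k : Subgroup G) : Set G) := by
  cases k with
  | zero => exact hM
  | succ k => exact ke_le_normalizer_commutator _ K

theorem ke_commutator_le_of_le_normalizer (A B : Subgroup G)
    (h : A ≤ Subgroup.normalizer (B : Set G)) : ⁅A, B⁆ ≤ B := by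
  rw [Subgroup.commutator_le]
  intro a ha b hb
  rw [commutatorElement_def]
  exact B.mul_mem ((Subgroup.mem_normalizer_iff.mp (h ha) b).mp hb) (B.inv_mem hb)

end IterBasics

section Pairing

variable {G : Type*} [Group G]

/-- The pairing step: a three-subgroup style estimate for a bimultiplicative commutator
pairing `U × X' → W`. -/
theorem ke_pair_step (U X' W : Subgroup G)
    (hUX : ⁅U, X'⁆ ≤ W) (hUW : U ≤ Subgroup.centralizer (W : Set G))
    (hXW : X' ≤ Subgroup.centralizer (W : Set G)) (hWab : ∀ a ∈ W, ∀ b ∈ W, a * b = b * a)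
    (K : Subgroup G) (hKU : K ≤ Subgroup.normalizer (U : Set G))
    (U₁ R N₁ N₂ : Subgroup G) (hU₁ : U₁ ≤ U) (hR : R ≤ X')
    (hKR : K ≤ Subgroup.normalizer (R : Set G))
    (h1 : ⁅U₁, R⁆ ≤ N₁) (h2 : ⁅⁅U₁, K⁆, R⁆ ≤ N₂) :
    ⁅U₁, ⁅R, K⁆⁆ ≤ ⁅N₁, K⁆ ⊔ N₂ := by
  have hβ : ∀ u ∈ U, ∀ y ∈ X', u * y * u⁻¹ * y⁻¹ ∈ W := by
    intro u hu y hy
    have := hUX (Subgroup.commutator_mem_commutator hu hy)
    rw [commutatorElement_def] at this
    exact this
  have hcX : ∀ y ∈ X', ∀ c ∈ W, c * y = y * c := by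
    intro y hy c hc
    exact Subgroup.mem_centralizer_iff.mp (hXW hy) c hc
  have hcU : ∀ u ∈ U, ∀ c ∈ W, c * u = u * c := by
    intro u hu c hc
    exact Subgroup.mem_centralizer_iff.mp (hUW hu) c hc
  have L1 : ∀ u ∈ U, ∀ y ∈ X', ∀ y' ∈ X',
      u * (y * y') * u⁻¹ * (y * y')⁻¹ = (u * y * u⁻¹ * y⁻¹) * (u * y' * u⁻¹ * y'⁻¹) := by
    intro u hu y hy y' hy'
    have hc := hcX y hy _ (hβ u hu y' hy')
    calc u * (y * y') * u⁻¹ * (y * y')⁻¹
        = (u * y * u⁻¹ * y⁻¹) * (y * (u * y' * u⁻¹ * y'⁻¹)) * y⁻¹ := by group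
      _ = (u * y * u⁻¹ * y⁻¹) * ((u * y' * u⁻¹ * y'⁻¹) * y) * y⁻¹ := by rw [hc]
      _ = (u * y * u⁻¹ * y⁻¹) * (u * y' * u⁻¹ * y'⁻¹) := by group
  have L2 : ∀ u ∈ U, ∀ y ∈ X',
      u * y⁻¹ * u⁻¹ * y⁻¹⁻¹ = (u * y * u⁻¹ * y⁻¹)⁻¹ := by
    intro u hu y hy
    have hc := hcX y hy _ (hβ u hu y hy)
    have hc' : y⁻¹ * (u * y * u⁻¹ * y⁻¹)⁻¹ = (u * y * u⁻¹ * y⁻¹)⁻¹ * y⁻¹ := by
      rw [← mul_inv_rev, ← mul_inv_rev, hc]
    calc u * y⁻¹ * u⁻¹ * y⁻¹⁻¹ = y⁻¹ * (u * y * u⁻¹ * y⁻¹)⁻¹ * y := by group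
      _ = (u * y * u⁻¹ * y⁻¹)⁻¹ * y⁻¹ * y := by rw [hc']
      _ = (u * y * u⁻¹ * y⁻¹)⁻¹ := by group
  have L3 : ∀ u ∈ U, ∀ u' ∈ U, ∀ y ∈ X',
      (u * u') * y * (u * u')⁻¹ * y⁻¹ = (u * y * u⁻¹ * y⁻¹) * (u' * y * u'⁻¹ * y⁻¹) := by
    intro u hu u' hu' y hy
    have hc := hcU u hu _ (hβ u' hu' y hy)
    calc (u * u') * y * (u * u')⁻¹ * y⁻¹
        = u * (u' * y * u'⁻¹ * y⁻¹) * u⁻¹ * (u * y * u⁻¹ * y⁻¹) := by group
      _ = ((u' * y * u'⁻¹ * y⁻¹) * u) * u⁻¹ * (u * y * u⁻¹ * y⁻¹) := by rw [hc]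
      _ = (u' * y * u'⁻¹ * y⁻¹) * (u * y * u⁻¹ * y⁻¹) := by group
      _ = (u * y * u⁻¹ * y⁻¹) * (u' * y * u'⁻¹ * y⁻¹) :=
          hWab _ (hβ u' hu' y hy) _ (hβ u hu y hy)
  have hgen : ∀ u ∈ U₁, ∀ r ∈ R, ∀ h ∈ K,
      u * (r * h * r⁻¹ * h⁻¹) * u⁻¹ * (r * h * r⁻¹ * h⁻¹)⁻¹ ∈ ⁅N₁, K⁆ ⊔ N₂ := by
    intro u hu r hr h hh
    have hr'' : h * r * h⁻¹ ∈ R := (Subgroup.mem_normalizer_iff.mp (hKR hh) r).mp hr
    have huU : u ∈ U := hU₁ hu
    have hc₂U : h * u * h⁻¹ * u⁻¹ ∈ U :=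
      U.mul_mem ((Subgroup.mem_normalizer_iff.mp (hKU hh) u).mp huU) (U.inv_mem huU)
    have hc₂ : h * u * h⁻¹ * u⁻¹ ∈ ⁅U₁, K⁆ := by
      rw [Subgroup.commutator_comm]
      have := Subgroup.commutator_mem_commutator hh hu
      rw [commutatorElement_def] at this
      exact this
    have hw : u * r * u⁻¹ * r⁻¹ ∈ N₁ := by
      have := h1 (Subgroup.commutator_mem_commutator hu hr)
      rw [commutatorElement_def] at this
      exact this
    have hA : u * (r * h * r⁻¹ * h⁻¹) * u⁻¹ * (r * h * r⁻¹ * h⁻¹)⁻¹ =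
        (u * r * u⁻¹ * r⁻¹) * (u * (h * r * h⁻¹) * u⁻¹ * (h * r * h⁻¹)⁻¹)⁻¹ := by
      have e1 : r * h * r⁻¹ * h⁻¹ = r * (h * r * h⁻¹)⁻¹ := by group
      rw [e1, L1 u huU r (hR hr) _ (X'.inv_mem (hR hr'')), L2 u huU _ (hR hr'')]
    have hB : h * (u * r * u⁻¹ * r⁻¹) * h⁻¹ =
        ((h * u * h⁻¹ * u⁻¹) * (h * r * h⁻¹) * (h * u * h⁻¹ * u⁻¹)⁻¹ * (h * r * h⁻¹)⁻¹) *
          (u * (h * r * h⁻¹) * u⁻¹ * (h * r * h⁻¹)⁻¹) := by
      rw [← L3 _ hc₂U u huU _ (hR hr'')]
      group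
    have hC : u * (h * r * h⁻¹) * u⁻¹ * (h * r * h⁻¹)⁻¹ =
        ((h * u * h⁻¹ * u⁻¹) * (h * r * h⁻¹) * (h * u * h⁻¹ * u⁻¹)⁻¹ * (h * r * h⁻¹)⁻¹)⁻¹ *
          (h * (u * r * u⁻¹ * r⁻¹) * h⁻¹) := by
      rw [hB]; group
    have hD : u * (r * h * r⁻¹ * h⁻¹) * u⁻¹ * (r * h * r⁻¹ * h⁻¹)⁻¹ =
        ⁅u * r * u⁻¹ * r⁻¹, h⁆ * ⁅h * u * h⁻¹ * u⁻¹, h * r * h⁻¹⁆ := by
      rw [hA, hC, commutatorElement_def, commutatorElement_def]; group
    rw [hD]
    exact Subgroup.mul_mem _
      (Subgroup.mem_sup_left (Subgroup.commutator_mem_commutator hw hh))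
      (Subgroup.mem_sup_right (h2 (Subgroup.commutator_mem_commutator hc₂ hr'')))
  have key : ∀ y ∈ ⁅R, K⁆, y ∈ X' ∧ ∀ u ∈ U₁, u * y * u⁻¹ * y⁻¹ ∈ ⁅N₁, K⁆ ⊔ N₂ := by
    intro y hy
    rw [Subgroup.commutator_def] at hy
    induction hy using Subgroup.closure_induction with
    | mem x hx =>
      obtain ⟨r, hr, h, hh, rfl⟩ := hx
      have hr'' : h * r * h⁻¹ ∈ R := (Subgroup.mem_normalizer_iff.mp (hKR hh) r).mp hr
      refine ⟨?_, fun u hu => ?_⟩
      · have e1 : ⁅r, h⁆ = r * (h * r * h⁻¹)⁻¹ := by rw [commutatorElement_def]; group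
        rw [e1]
        exact X'.mul_mem (hR hr) (X'.inv_mem (hR hr''))
      · rw [commutatorElement_def]
        exact hgen u hu r hr h hh
    | one =>
      refine ⟨X'.one_mem, fun u _ => ?_⟩
      have e1 : u * 1 * u⁻¹ * (1 : G)⁻¹ = 1 := by group
      rw [e1]; exact Subgroup.one_mem _
    | mul x y _ _ ihx ihy =>
      refine ⟨X'.mul_mem ihx.1 ihy.1, fun u hu => ?_⟩
      rw [L1 u (hU₁ hu) x ihx.1 y ihy.1]
      exact Subgroup.mul_mem _ (ihx.2 u hu) (ihy.2 u hu)
    | inv x _ ih =>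
      refine ⟨X'.inv_mem ih.1, fun u hu => ?_⟩
      rw [L2 u (hU₁ hu) x ih.1]
      exact Subgroup.inv_mem _ (ih.2 u hu)
  rw [Subgroup.commutator_le]
  intro u hu y hy
  rw [commutatorElement_def]
  exact (key y hy).2 u hu

/-- The ladder: if `iter A K n ≤ W` and `K` acts quadratically on `W`, then
`iter X' K (n+1)` centralizes `A`. -/
theorem ke_ladder (A X' W : Subgroup G) [hAn : A.Normal] [hXn : X'.Normal]
    (hAX : ⁅A, X'⁆ ≤ W) (hAW : A ≤ Subgroup.centralizer (W : Set G))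
    (hXW : X' ≤ Subgroup.centralizer (W : Set G)) (hWab : ∀ a ∈ W, ∀ b ∈ W, a * b = b * a)
    (K : Subgroup G) (n : ℕ) (hA : Cfsg.iterCommutator A K n ≤ W)
    (hW2 : Cfsg.iterCommutator W K 2 = ⊥) :
    ⁅A, Cfsg.iterCommutator X' K (n + 1)⁆ = ⊥ := by
  have hKA : K ≤ Subgroup.normalizer (A : Set G) := by
    rw [Subgroup.normalizer_eq_top_iff.mpr hAn]; exact le_top
  have hKX : K ≤ Subgroup.normalizer (X' : Set G) := by
    rw [Subgroup.normalizer_eq_top_iff.mpr hXn]; exact le_top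
  have main : ∀ b d i c : ℕ, i + d = n → b + d ≤ c + 1 →
      ⁅Cfsg.iterCommutator A K i, Cfsg.iterCommutator X' K c⁆ ≤ Cfsg.iterCommutator W K b := by
    intro b
    induction b with
    | zero =>
      intro d i c _ _
      exact (Subgroup.commutator_mono (ke_iter_le_normal K le_rfl i)
        (ke_iter_le_normal K le_rfl c)).trans hAX
    | succ b ihb =>
      intro d
      induction d with
      | zero =>
        intro i c hi _
        have hi' : i = n := by omega
        rw [hi']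
        have h1 : ⁅Cfsg.iterCommutator A K n, Cfsg.iterCommutator X' K c⁆ = ⊥ := by
          rw [Subgroup.commutator_comm, Subgroup.commutator_eq_bot_iff_le_centralizer]
          exact (ke_iter_le_normal K le_rfl c).trans
            (hXW.trans (Subgroup.centralizer_le hA))
        rw [h1]; exact bot_le
      | succ d ihd =>
        intro i c hi hc
        obtain ⟨c', rfl⟩ : ∃ c', c = c' + 1 := ⟨c - 1, by omega⟩
        have h1 := ihb (d + 1) i c' hi (by omega)
        have h2 := ihd (i + 1) c' (by omega) (by omega)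
        have h3 := ke_pair_step A X' W hAX hAW hXW hWab K hKA
          (Cfsg.iterCommutator A K i) (Cfsg.iterCommutator X' K c')
          (Cfsg.iterCommutator W K b) (Cfsg.iterCommutator W K (b + 1))
          (ke_iter_le_normal K le_rfl i) (ke_iter_le_normal K le_rfl c')
          (ke_le_normalizer_iter X' K hKX c') h1 h2
        refine h3.trans ?_
        exact sup_le le_rfl le_rfl
  have h := main 2 n 0 (n + 1) (by omega) (by omega)
  rw [hW2] at h
  exact le_bot_iff.mp h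

end Pairing

section Chief

variable {G : Type*} [Group G] [Finite G] {p : ℕ} [Fact p.Prime]

theorem ke_exists_chief_below (M : Subgroup G) [hMn : M.Normal] (hM : M ≠ ⊥) :
    ∃ V₀ : Subgroup G, Cfsg.IsChiefFactor M V₀ := by
  have hfin : ({N : Subgroup G | N.Normal ∧ N < M} : Set (Subgroup G)).Finite :=
    Set.toFinite _
  have hne : ({N : Subgroup G | N.Normal ∧ N < M} : Set (Subgroup G)).Nonempty :=
    ⟨⊥, Subgroup.normal_bot, bot_lt_iff_ne_bot.mpr hM⟩
  obtain ⟨V₀, hV₀, hmax⟩ := hfin.exists_maximal hne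
  refine ⟨V₀, hV₀.2, hMn, hV₀.1, fun N hN hVN hNM => ?_⟩
  by_cases hNM' : N = M
  · exact Or.inr hNM'
  · left
    exact le_antisymm (hmax ⟨hN, lt_of_le_of_ne hNM hNM'⟩ hVN) hVN

theorem ke_commutator_lt (T : Subgroup G) [hTn : T.Normal] (hTp : IsPGroup p T)
    (M : Subgroup G) [hMn : M.Normal] (hMT : M ≤ T) (hM : M ≠ ⊥) : ⁅M, T⁆ < M := by
  obtain ⟨V₀, hch⟩ := ke_exists_chief_below M hM
  exact lt_of_le_of_lt (chief_step T hTp M V₀ hch hMT).1 hch.1

/-- Engel-4 on chief factors below a normal `p`-subgroup `T` with a critical subgroup `A`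
on which `K` acts with `[A, K, K, K] ≤ Z(A)` and quadratically on `Z(A)`. -/
theorem ke_chief_engel (T : Subgroup G) [hTn : T.Normal] (hTp : IsPGroup p T)
    (A : Subgroup G) [hAn : A.Normal] (hAT : A ≤ T)
    (Z : Subgroup G) (hZ : Z = A ⊓ Subgroup.centralizer (A : Set G))
    (hTA : ⁅T, A⁆ ≤ Z) (hCA : T ⊓ Subgroup.centralizer (A : Set G) ≤ A)
    (K : Subgroup G) (hA3 : Cfsg.iterCommutator A K 3 ≤ Z) (hZ2 : ⁅⁅Z, K⁆, K⁆ = ⊥)
    (U V : Subgroup G) (hch : Cfsg.IsChiefFactor U V) (hUT : U ≤ T) :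
    Cfsg.iterCommutator U K 4 ≤ V := by
  obtain ⟨hVU, hUn, hVn, hchief⟩ := hch
  haveI := hUn
  haveI := hVn
  haveI hZn : Z.Normal := by rw [hZ]; infer_instance
  have hZA : Z ≤ A := by rw [hZ]; exact inf_le_left
  have hZab : ∀ a ∈ Z, ∀ b ∈ Z, a * b = b * a := by
    intro a ha b hb
    rw [hZ] at ha hb
    exact (Subgroup.mem_centralizer_iff.mp (Subgroup.mem_inf.mp hb).2 a (Subgroup.mem_inf.mp ha).1)
  have hAZ : A ≤ Subgroup.centralizer (Z : Set G) := by
    intro a ha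
    rw [Subgroup.mem_centralizer_iff]
    intro z hz
    rw [hZ] at hz
    exact (Subgroup.mem_centralizer_iff.mp (Subgroup.mem_inf.mp hz).2 a ha).symm
  have hZ2' : Cfsg.iterCommutator Z K 2 = ⊥ := hZ2
  have dich : ∀ N : Subgroup G, N.Normal → N ≤ U → N ≤ V ∨ N ⊔ V = U := by
    intro N hN hNU
    haveI := hN
    rcases hchief (N ⊔ V) inferInstance le_sup_right (sup_le hNU hVU.le) with h | h
    · left; rw [← h]; exact le_sup_left
    · right; exact h
  have reduce : ∀ N : Subgroup G, N ⊔ V = U → ∀ k : ℕ,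
      Cfsg.iterCommutator N K k ≤ V → Cfsg.iterCommutator U K k ≤ V := by
    intro N h k hk
    rw [← h]
    exact (ke_iter_sup_le N V K k).trans (sup_le hk le_rfl)
  by_cases hb2 : U ⊓ Subgroup.centralizer (Z : Set G) ≤ V
  · have ind : ∀ n : ℕ, ∀ M : Subgroup G, M.Normal → M ≤ Z → Nat.card M ≤ n →
        U ⊓ Subgroup.centralizer (M : Set G) ≤ V → Cfsg.iterCommutator U K 3 ≤ V := by
      intro n
      induction n with
      | zero =>
        intro M _ _ hc _
        have := Nat.card_pos (α := M)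
        omega
      | succ n ih =>
        intro M hMn hMZ hc hMV
        haveI := hMn
        by_cases hM : M = ⊥
        · have hUV : U ≤ V := by
            refine le_trans (le_inf le_rfl ?_) hMV
            rw [hM]
            intro u _
            rw [Subgroup.mem_centralizer_iff]
            intro h hh
            have hh' : h = 1 := Subgroup.mem_bot.mp hh
            rw [hh']; group
          exact ke_iter_le_normal K hUV 3
        · have hMT : M ≤ T := hMZ.trans (hZA.trans hAT)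
          have hlt : ⁅M, U⁆ < M :=
            lt_of_le_of_lt (Subgroup.commutator_mono le_rfl hUT) (ke_commutator_lt T hTp M hMT hM)
          have hcard : Nat.card (⁅M, U⁆ : Subgroup G) ≤ n := by
            have := card_lt_card_of_lt' hlt
            omega
          have hM'Z : ⁅M, U⁆ ≤ Z := hlt.le.trans hMZ
          rcases dich (U ⊓ Subgroup.centralizer ((⁅M, U⁆ : Subgroup G) : Set G)) inferInstance
            inf_le_left with h | h
          · exact ih ⁅M, U⁆ inferInstance hM'Z hcard h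
          · refine reduce _ h 3 ?_
            have hlad := ke_ladder M (U ⊓ Subgroup.centralizer ((⁅M, U⁆ : Subgroup G) : Set G))
              ⁅M, U⁆ (Subgroup.commutator_mono le_rfl inf_le_left)
              (by
                intro m hm
                rw [Subgroup.mem_centralizer_iff]
                intro w hw
                exact hZab w (hM'Z hw) m (hMZ hm))
              inf_le_right
              (fun a ha b hb => hZab a (hM'Z ha) b (hM'Z hb))
              K 2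
              (by
                have h1 : Cfsg.iterCommutator M K 2 ≤ Cfsg.iterCommutator Z K 2 :=
                  ke_iter_mono_left K hMZ 2
                rw [hZ2'] at h1
                exact h1.trans bot_le)
              (by
                have h1 : Cfsg.iterCommutator ⁅M, U⁆ K 2 ≤ Cfsg.iterCommutator Z K 2 :=
                  ke_iter_mono_left K hM'Z 2
                rw [hZ2'] at h1
                exact le_bot_iff.mp h1)
            refine le_trans (le_inf (ke_iter_le_normal K inf_le_left 3) ?_) hMV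
            rw [Subgroup.commutator_comm, Subgroup.commutator_eq_bot_iff_le_centralizer] at hlad
            exact hlad
    have h3 := ind (Nat.card Z) Z hZn le_rfl le_rfl hb2
    exact ke_iter_le_of_le K 3 1 h3
  · rcases dich (U ⊓ Subgroup.centralizer (Z : Set G)) inferInstance inf_le_left with h | h
    · exact absurd h hb2
    by_cases hb : U ⊓ A ≤ V
    · refine reduce _ h 4 ?_
      have hlad := ke_ladder A (U ⊓ Subgroup.centralizer (Z : Set G)) Z
        ((Subgroup.commutator_mono le_rfl (inf_le_left.trans hUT)).trans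
          (by rw [Subgroup.commutator_comm]; exact hTA))
        hAZ inf_le_right hZab K 3 hA3 hZ2'
      rw [Subgroup.commutator_comm, Subgroup.commutator_eq_bot_iff_le_centralizer] at hlad
      have hU4 : Cfsg.iterCommutator (U ⊓ Subgroup.centralizer (Z : Set G)) K 4 ≤ U :=
        ke_iter_le_normal K inf_le_left 4
      exact le_trans (le_inf hU4 ((le_inf (hU4.trans hUT) hlad).trans hCA)) hb
    · rcases dich (U ⊓ A) inferInstance inf_le_left with h' | h'
      · exact absurd h' hb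
      by_cases ha : U ⊓ Z ≤ V
      · have h3 : Cfsg.iterCommutator U K 3 ≤ V := by
          refine reduce _ h' 3 ?_
          refine le_trans (le_inf (ke_iter_le_normal K inf_le_left 3) ?_) ha
          exact (ke_iter_mono_left K inf_le_right 3).trans hA3
        exact ke_iter_le_of_le K 3 1 h3
      · rcases dich (U ⊓ Z) inferInstance inf_le_left with h'' | h''
        · exact absurd h'' ha
        have h2 : Cfsg.iterCommutator U K 2 ≤ V := by
          refine reduce _ h'' 2 ?_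
          have h1 : Cfsg.iterCommutator (U ⊓ Z) K 2 ≤ Cfsg.iterCommutator Z K 2 :=
            ke_iter_mono_left K inf_le_right 2
          rw [hZ2'] at h1
          exact h1.trans bot_le
        exact ke_iter_le_of_le K 2 2 h2

end Chief

end Cfsg.Agent.Lib.Helper1
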