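import Mathlib
import Cfsg.Agent.Lib.Helper1.KE2

set_option autoImplicit false

namespace Cfsg.Agent.Lib.Helper1

open Cfsg.Agent.Lib.Helper3
open scoped commutatorElement

universe u

section Critical

variable {T : Type*} [Group T]

/-- The preimage of the centre of `T / D`. -/
def keCentMod (D : Subgroup T) [hD : D.Normal] : Subgroup T where
  carrier := {x | ∀ t : T, x * t * x⁻¹ * t⁻¹ ∈ D}
  one_mem' := by
    intro t
    have e : (1 : T) * t * (1 : T)⁻¹ * t⁻¹ = 1 := by group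
    rw [e]; exact D.one_mem
  mul_mem' := by
    intro x y hx hy t
    have e : x * y * t * (x * y)⁻¹ * t⁻¹ =
        x * (y * t * y⁻¹ * t⁻¹) * x⁻¹ * (x * t * x⁻¹ * t⁻¹) := by group
    rw [e]
    exact D.mul_mem (hD.conj_mem _ (hy t) x) (hx t)
  inv_mem' := by
    intro x hx t
    have e : x⁻¹ * t * x⁻¹⁻¹ * t⁻¹ = x⁻¹ * (x * t * x⁻¹ * t⁻¹)⁻¹ * x⁻¹⁻¹ := by group
    rw [e]
    exact hD.conj_mem _ (D.inv_mem (hx t)) x⁻¹

theorem mem_keCentMod (D : Subgroup T) [hD : D.Normal] (x : T) :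
    x ∈ keCentMod D ↔ ∀ t : T, x * t * x⁻¹ * t⁻¹ ∈ D := Iff.rfl

variable [Finite T] {p : ℕ} [Fact p.Prime]

/-- Thompson's critical subgroup (without the exponent refinements). -/
theorem ke_critical (hT : IsPGroup p T) :
    ∃ A : Subgroup T, A.Characteristic ∧
      ⁅(⊤ : Subgroup T), A⁆ ≤ A ⊓ Subgroup.centralizer (A : Set T) ∧
      Subgroup.centralizer (A : Set T) ≤ A := by
  classical
  have hfin : ({D : Subgroup T | D.Characteristic ∧ ∀ a ∈ D, ∀ b ∈ D, a * b = b * a} :
      Set (Subgroup T)).Finite := Set.toFinite _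
  have hne : ({D : Subgroup T | D.Characteristic ∧ ∀ a ∈ D, ∀ b ∈ D, a * b = b * a} :
      Set (Subgroup T)).Nonempty :=
    ⟨⊥, Subgroup.botCharacteristic, by
      intro a ha b hb; rw [Subgroup.mem_bot.mp ha, Subgroup.mem_bot.mp hb]⟩
  obtain ⟨D, hDmem, hmax⟩ := hfin.exists_maximal hne
  obtain ⟨hDc, hDab⟩ := hDmem
  haveI := hDc
  haveI hDn : D.Normal := Subgroup.normal_of_characteristic D
  have hDφ : ∀ (φ : T ≃* T) (x : T), x ∈ D → φ x ∈ D := fun φ x hx =>
    (Subgroup.characteristic_iff_map_le.mp hDc φ) ⟨x, hx, rfl⟩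
  have hDC : D ≤ Subgroup.centralizer (D : Set T) := by
    intro d hd; rw [Subgroup.mem_centralizer_iff]; intro h hh; exact hDab h hh d hd
  by_cases hCD : Subgroup.centralizer (D : Set T) ≤ D
  · refine ⟨D, hDc, ?_, hCD⟩
    have h1 : ⁅(⊤ : Subgroup T), D⁆ ≤ D := Subgroup.commutator_le_right ⊤ D
    exact le_inf h1 (h1.trans hDC)
  · obtain ⟨L, hL⟩ : ∃ L : Subgroup T,
        L = Subgroup.centralizer (D : Set T) ⊓ keCentMod D := ⟨_, rfl⟩
    have hLmem : ∀ x : T, x ∈ L ↔
        x ∈ Subgroup.centralizer (D : Set T) ∧ ∀ t : T, x * t * x⁻¹ * t⁻¹ ∈ D := by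
      intro x; rw [hL, Subgroup.mem_inf, mem_keCentMod]
    have hLc : L.Characteristic := by
      rw [Subgroup.characteristic_iff_map_le]
      intro φ
      rintro _ ⟨x, hx, rfl⟩
      have hx' := (hLmem x).mp hx
      show φ x ∈ L
      rw [hLmem]
      refine ⟨?_, fun t => ?_⟩
      · rw [Subgroup.mem_centralizer_iff]
        intro d hd
        have hd' : φ.symm d ∈ D := hDφ φ.symm d hd
        have h1 := Subgroup.mem_centralizer_iff.mp hx'.1 _ hd'
        have h2 := congrArg φ h1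
        rw [map_mul, map_mul, MulEquiv.apply_symm_apply] at h2
        exact h2
      · have h1 := hDφ φ _ (hx'.2 (φ.symm t))
        rw [map_mul, map_mul, map_mul, map_inv, map_inv, MulEquiv.apply_symm_apply] at h1
        exact h1
    haveI := hLc
    have hDL : D ≤ L := by
      intro d hd; rw [hLmem]; refine ⟨hDC hd, fun t => ?_⟩
      have e : d * t * d⁻¹ * t⁻¹ = d * (t * d⁻¹ * t⁻¹) := by group
      rw [e]; exact D.mul_mem hd (hDn.conj_mem _ (D.inv_mem hd) t)
    have hTL : ⁅(⊤ : Subgroup T), L⁆ ≤ D := by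
      rw [Subgroup.commutator_comm, Subgroup.commutator_le]
      intro x hx t _
      rw [commutatorElement_def]
      exact ((hLmem x).mp hx).2 t
    have hDcL : D ≤ Subgroup.centralizer (L : Set T) := by
      intro d hd; rw [Subgroup.mem_centralizer_iff]; intro x hx
      exact (Subgroup.mem_centralizer_iff.mp ((hLmem x).mp hx).1 d hd).symm
    refine ⟨L, hLc, hTL.trans (le_inf hDL hDcL), ?_⟩
    by_contra hEL
    have hEL_inf : Subgroup.centralizer (L : Set T) ⊓ L = D := by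
      have h1 : D ≤ Subgroup.centralizer (L : Set T) ⊓ L := le_inf hDcL hDL
      have hmem : (Subgroup.centralizer (L : Set T) ⊓ L) ∈
          ({D : Subgroup T | D.Characteristic ∧ ∀ a ∈ D, ∀ b ∈ D, a * b = b * a} :
            Set (Subgroup T)) := by
        refine ⟨inferInstance, fun a ha b hb => ?_⟩
        exact Subgroup.mem_centralizer_iff.mp (Subgroup.mem_inf.mp hb).1 a (Subgroup.mem_inf.mp ha).2
      exact le_antisymm (hmax hmem h1) h1
    have hDE : D < Subgroup.centralizer (L : Set T) := by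
      refine lt_of_le_of_ne hDcL ?_
      intro h; apply hEL; rw [← h]; exact hDL
    have hfin2 : ({N : Subgroup T | N.Normal ∧ D < N ∧ N ≤ Subgroup.centralizer (L : Set T)} :
        Set (Subgroup T)).Finite := Set.toFinite _
    have hne2 : ({N : Subgroup T | N.Normal ∧ D < N ∧ N ≤ Subgroup.centralizer (L : Set T)} :
        Set (Subgroup T)).Nonempty := ⟨Subgroup.centralizer (L : Set T), inferInstance, hDE, le_rfl⟩
    obtain ⟨N, hNmem, hmin⟩ := hfin2.exists_minimal hne2
    obtain ⟨hNn, hDN, hNE⟩ := hNmem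
    have hch : Cfsg.IsChiefFactor N D := by
      refine ⟨hDN, hNn, inferInstance, fun N' hN' hDN' hN'N => ?_⟩
      by_cases h : N' = D
      · exact Or.inl h
      · right
        exact le_antisymm hN'N
          (hmin ⟨hN', lt_of_le_of_ne hDN' (Ne.symm h), hN'N.trans hNE⟩ hN'N)
    have hstep := (chief_step (p := p) (⊤ : Subgroup T) (hT.to_subgroup ⊤) N D hch le_top).1
    obtain ⟨x, hxN, hxD⟩ := SetLike.exists_of_lt hDN
    apply hxD
    rw [← hEL_inf]
    refine Subgroup.mem_inf.mpr ⟨hNE hxN, ?_⟩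
    rw [hLmem]
    refine ⟨Subgroup.centralizer_le (SetLike.coe_subset_coe.mpr hDL) (hNE hxN), fun t => ?_⟩
    have := hstep (Subgroup.commutator_mem_commutator hxN (Subgroup.mem_top t))
    rw [commutatorElement_def] at this
    exact this

end Critical

section Engel4

variable {p : ℕ} [Fact p.Prime]

/-- If the lower K-infinity subgroup of a Sylow `p`-subgroup `S` of `X` is not normal in `X`,
some element of `S` outside `O_p(X)` is a 4-Engel element on every chief factor below `O_p(X)`. -/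
theorem ke_engel4 (X : Type u) [Group X] [Finite X] (S : Sylow p X)
    (hN : ¬ (Cfsg.inducedFunctor (G := X) Cfsg.kInfLower (S : Subgroup X)).Normal) :
    ∃ g : X, g ∈ (S : Subgroup X) ∧ g ∉ Cfsg.pCore p X ∧
      ∀ U V : Subgroup X, Cfsg.IsChiefFactor U V → U ≤ Cfsg.pCore p X →
        Cfsg.iterCommutator U (Subgroup.zpowers g) 4 ≤ V := by
  classical
  obtain ⟨Q, hQ⟩ : ∃ Q : Subgroup X, Q = Cfsg.pCore p X := ⟨_, rfl⟩
  haveI hQn : Q.Normal := by rw [hQ]; exact Cfsg.pCore_normal p X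
  have hQp : IsPGroup p Q := by rw [hQ]; exact Cfsg.Agent.Lib.Helper4.pCore_isPGroup p X
  have hQS : Q ≤ (S : Subgroup X) := by rw [hQ]; exact Cfsg.Agent.Lib.Helper4.pCore_le_sylow S
  rw [← hQ]
  obtain ⟨A₀, hA₀c, hA₀1, hA₀2⟩ := ke_critical (T := ↥Q) (p := p) hQp
  haveI := hA₀c
  obtain ⟨A, hA⟩ : ∃ A : Subgroup X, A = A₀.map Q.subtype := ⟨_, rfl⟩
  haveI hAn : A.Normal := by rw [hA]; exact ConjAct.normal_of_characteristic_of_normal
  have hAQ : A ≤ Q := by rw [hA]; exact Subgroup.map_subtype_le A₀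
  obtain ⟨Z, hZ⟩ : ∃ Z : Subgroup X, Z = A ⊓ Subgroup.centralizer (A : Set X) := ⟨_, rfl⟩
  have hQA : ⁅Q, A⁆ ≤ Z := by
    have h1 := Subgroup.map_mono (f := Q.subtype) hA₀1
    rw [Subgroup.map_commutator, ← hA, ← MonoidHom.range_eq_map, Subgroup.range_subtype] at h1
    refine h1.trans ?_
    rintro _ ⟨z, hz, rfl⟩
    rw [hZ]
    obtain ⟨hz1, hz2⟩ := Subgroup.mem_inf.mp hz
    refine Subgroup.mem_inf.mpr ⟨by rw [hA]; exact ⟨z, hz1, rfl⟩, ?_⟩
    rw [Subgroup.mem_centralizer_iff]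
    intro a ha
    rw [hA] at ha
    obtain ⟨a₀, ha₀, rfl⟩ := ha
    have := Subgroup.mem_centralizer_iff.mp hz2 a₀ ha₀
    exact congrArg Subtype.val this
  have hCA : Q ⊓ Subgroup.centralizer (A : Set X) ≤ A := by
    intro x hx
    obtain ⟨hx1, hx2⟩ := Subgroup.mem_inf.mp hx
    have h1 : (⟨x, hx1⟩ : ↥Q) ∈ Subgroup.centralizer (A₀ : Set ↥Q) := by
      rw [Subgroup.mem_centralizer_iff]
      intro a ha
      apply Subtype.ext
      exact Subgroup.mem_centralizer_iff.mp hx2 (a : X) (by rw [hA]; exact ⟨a, ha, rfl⟩)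
    rw [hA]
    exact ⟨⟨x, hx1⟩, hA₀2 h1, rfl⟩
  obtain ⟨Qs, hQs⟩ : ∃ Qs : Subgroup ↥(S : Subgroup X), Qs = Q.subgroupOf S := ⟨_, rfl⟩
  obtain ⟨A', hA'⟩ : ∃ A' : Subgroup ↥(S : Subgroup X), A' = A.subgroupOf S := ⟨_, rfl⟩
  obtain ⟨Z', hZ'⟩ : ∃ Z' : Subgroup ↥(S : Subgroup X),
      Z' = A' ⊓ Subgroup.centralizer (A' : Set ↥(S : Subgroup X)) := ⟨_, rfl⟩
  haveI hA'n : A'.Normal := by rw [hA']; infer_instance
  haveI hZ'n : Z'.Normal := by rw [hZ']; infer_instance
  have hA'map : A'.map (S : Subgroup X).subtype = A := by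
    rw [hA']; exact Subgroup.map_subgroupOf_eq_of_le (hAQ.trans hQS)
  have hZ'map : Z'.map (S : Subgroup X).subtype = Z := by
    apply le_antisymm
    · rintro _ ⟨z, hz, rfl⟩
      rw [hZ'] at hz
      obtain ⟨hz1, hz2⟩ := Subgroup.mem_inf.mp hz
      rw [hZ]
      refine Subgroup.mem_inf.mpr ⟨?_, ?_⟩
      · rw [hA'] at hz1; exact Subgroup.mem_subgroupOf.mp hz1
      · rw [Subgroup.mem_centralizer_iff]
        intro a ha
        have haS : a ∈ (S : Subgroup X) := hQS (hAQ ha)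
        have := Subgroup.mem_centralizer_iff.mp hz2 ⟨a, haS⟩
          (by rw [hA']; exact Subgroup.mem_subgroupOf.mpr ha)
        exact congrArg Subtype.val this
    · intro z hz
      rw [hZ] at hz
      obtain ⟨hz1, hz2⟩ := Subgroup.mem_inf.mp hz
      have hzS : z ∈ (S : Subgroup X) := hQS (hAQ hz1)
      refine ⟨⟨z, hzS⟩, ?_, rfl⟩
      rw [hZ']
      refine Subgroup.mem_inf.mpr ⟨by rw [hA']; exact Subgroup.mem_subgroupOf.mpr hz1, ?_⟩
      rw [Subgroup.mem_centralizer_iff]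
      intro a ha
      apply Subtype.ext
      rw [hA'] at ha
      exact Subgroup.mem_centralizer_iff.mp hz2 (a : X) (Subgroup.mem_subgroupOf.mp ha)
  have hQA' : ⁅A', Qs⁆ ≤ Z' := by
    rw [Subgroup.commutator_le]
    intro a ha q hq
    have h1 : ((⁅a, q⁆ : ↥(S : Subgroup X)) : X) ∈ Z := by
      apply hQA
      rw [Subgroup.commutator_comm]
      have e : ((⁅a, q⁆ : ↥(S : Subgroup X)) : X) = ⁅(a : X), (q : X)⁆ := rfl
      rw [e]
      exact Subgroup.commutator_mem_commutator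
        (by rw [hA'] at ha; exact Subgroup.mem_subgroupOf.mp ha)
        (by rw [hQs] at hq; exact Subgroup.mem_subgroupOf.mp hq)
    rw [← hZ'map] at h1
    obtain ⟨z, hz, hzeq⟩ := h1
    have e2 : z = ⁅a, q⁆ := Subtype.ext hzeq
    rw [← e2]; exact hz
  have hA'Qs : A' ≤ Qs := by
    rw [hA', hQs]; intro x hx
    exact Subgroup.mem_subgroupOf.mpr (hAQ (Subgroup.mem_subgroupOf.mp hx))
  have hZ'le : Z' ≤ A' ⊓ Subgroup.centralizer (A' : Set ↥(S : Subgroup X)) := hZ'.le
  have hA'cl : A' ∈ Cfsg.classTwoSubgroups ↥(S : Subgroup X) := by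
    show ⁅A', A'⁆ ≤ Subgroup.centralizer (A' : Set ↥(S : Subgroup X))
    exact ((Subgroup.commutator_mono le_rfl hA'Qs).trans hQA').trans (hZ'le.trans inf_le_right)
  have hZ'ab : IsMulCommutative ↥Z' := by
    refine IsMulCommutative.of_comm (fun a b => ?_)
    apply Subtype.ext
    have ha := hZ'le a.2
    have hb := hZ'le b.2
    exact Subgroup.mem_centralizer_iff.mp (Subgroup.mem_inf.mp hb).2 _ (Subgroup.mem_inf.mp ha).1
  have hZ'Z' : ⁅Z', Z'⁆ = ⊥ := by
    rw [Subgroup.commutator_eq_bot_iff_le_centralizer]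
    have h1 := normal_abelian_inf_centralizer Z' hZ'ab
    exact inf_eq_left.mp h1
  have hZ'A' : Z' ≤ A' := hZ'le.trans inf_le_left
  have claim : ∃ g : ↥(S : Subgroup X), g ∉ Qs ∧
      Cfsg.iterCommutator A' (Subgroup.zpowers g) 3 ≤ Z' ∧
      ⁅⁅Z', Subgroup.zpowers g⁆, Subgroup.zpowers g⁆ = ⊥ := by
    by_cases hall : ∀ n : ℕ, Cfsg.kSeqEven ↥(S : Subgroup X) n ≤ Qs ∧
        Cfsg.kSeqOdd ↥(S : Subgroup X) (n + 1) ≤ Qs
    · exfalso
      apply hN
      rw [hQs] at hall
      have e := kinf_eq_of_terms_le Q (S : Subgroup X) hQS hall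
      rw [← Subgroup.normalizer_eq_top_iff, eq_top_iff]
      intro h _
      rw [← e]
      have h1 := ((kinf_isConj (p := p) (G := X)) Q hQp).2.2 h
      rw [map_conj_eq_self_of_mem_normalizer Q h
        (by rw [Subgroup.normalizer_eq_top_iff.mpr hQn]; exact Subgroup.mem_top h)] at h1
      exact mem_normalizer_of_map_conj_eq _ h h1.symm
    · have hex : ∃ n : ℕ, ¬ (Cfsg.kSeqEven ↥(S : Subgroup X) n ≤ Qs ∧
          Cfsg.kSeqOdd ↥(S : Subgroup X) (n + 1) ≤ Qs) := by
        by_contra hc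
        apply hall
        intro n
        by_contra hc2
        exact hc ⟨n, hc2⟩
      obtain ⟨n, hn, hmin⟩ : ∃ n : ℕ, ¬ (Cfsg.kSeqEven ↥(S : Subgroup X) n ≤ Qs ∧
          Cfsg.kSeqOdd ↥(S : Subgroup X) (n + 1) ≤ Qs) ∧ ∀ m < n,
          (Cfsg.kSeqEven ↥(S : Subgroup X) m ≤ Qs ∧
            Cfsg.kSeqOdd ↥(S : Subgroup X) (m + 1) ≤ Qs) :=
        ⟨Nat.find hex, Nat.find_spec hex, fun m hm => not_not.mp (Nat.find_min hex hm)⟩
      have hAodd : A' ≤ Cfsg.kSeqOdd ↥(S : Subgroup X) n := by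
        cases n with
        | zero => rw [kSeqOdd_zero]; exact le_top
        | succ m =>
          have hEm : Cfsg.kSeqEven ↥(S : Subgroup X) m ≤ Qs := (hmin m (Nat.lt_succ_self m)).1
          have hmem : A' ∈ Cfsg.kUpperStarFamily (Cfsg.kSeqEven ↥(S : Subgroup X) m) :=
            ⟨hA'cl, ((Subgroup.commutator_mono le_rfl hEm).trans hQA').trans hZ'le⟩
          exact le_sSup hmem
      by_cases he : Cfsg.kSeqEven ↥(S : Subgroup X) n ≤ Qs
      · have ho : ¬ Cfsg.kSeqOdd ↥(S : Subgroup X) (n + 1) ≤ Qs := fun h => hn ⟨he, h⟩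
        have hex2 : ∃ B ∈ Cfsg.kUpperStarFamily (Cfsg.kSeqEven ↥(S : Subgroup X) n),
            ¬ B ≤ Qs := by
          by_contra hc
          push Not at hc
          exact ho (sSup_le hc)
        obtain ⟨B, hB, hBQ⟩ := hex2
        obtain ⟨g, hgB, hgQ⟩ := SetLike.not_le_iff_exists.mp hBQ
        have hz : Subgroup.zpowers g ≤ B := (Subgroup.zpowers_le).mpr hgB
        by_cases hAl : A' ∈ Cfsg.kLowerStarFamily (Cfsg.kSeqOdd ↥(S : Subgroup X) n)
        · have hAE : A' ≤ Cfsg.kSeqEven ↥(S : Subgroup X) n := le_sSup hAl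
          have h1 : ⁅⁅A', B⁆, B⁆ = ⊥ := by
            rw [Subgroup.commutator_eq_bot_iff_le_centralizer, Subgroup.commutator_comm]
            exact ((Subgroup.commutator_mono le_rfl hAE).trans hB.2).trans inf_le_right
          have h2 : ⁅⁅A', Subgroup.zpowers g⁆, Subgroup.zpowers g⁆ = ⊥ := by
            rw [eq_bot_iff, ← h1]
            exact Subgroup.commutator_mono (Subgroup.commutator_mono le_rfl hz) hz
          refine ⟨g, hgQ, ?_, ?_⟩
          · show ⁅⁅⁅A', Subgroup.zpowers g⁆, Subgroup.zpowers g⁆, Subgroup.zpowers g⁆ ≤ Z'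
            rw [h2, Subgroup.commutator_bot_left]; exact bot_le
          · rw [eq_bot_iff, ← h2]
            exact Subgroup.commutator_mono (Subgroup.commutator_mono hZ'A' le_rfl) le_rfl
        · have hex3 : ∃ X₀ ∈ Cfsg.classTwoSubgroups ↥(S : Subgroup X),
              X₀ ≤ Cfsg.kSeqOdd ↥(S : Subgroup X) n ∧
              A' ≤ Subgroup.normalizer (X₀ : Set ↥(S : Subgroup X)) ∧ ⁅A', ⁅X₀, X₀⁆⁆ = ⊥ ∧
              ⁅⁅A' ⊓ Subgroup.centralizer (A' : Set ↥(S : Subgroup X)), X₀⁆, X₀⁆ = ⊥ ∧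
              ¬ ⁅A', X₀⁆ ≤ A' ⊓ Subgroup.centralizer (A' : Set ↥(S : Subgroup X)) := by
            by_contra hc
            apply hAl
            refine ⟨hA'cl, ?_, fun X₀ hX₀ h1 h2 h3 h4 => ?_⟩
            · rw [Subgroup.normalizer_eq_top_iff.mpr hA'n]; exact le_top
            · by_contra h5
              exact hc ⟨X₀, hX₀, h1, h2, h3, h4, h5⟩
          obtain ⟨X₀, hX₀c, hX₀O, hAX₀, hAXX, hZXX, hnot⟩ := hex3
          rw [← hZ'] at hZXX hnot
          have hex4 : ∃ a ∈ A', ∃ x ∈ X₀, ⁅a, x⁆ ∉ Z' := by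
            by_contra hc
            push Not at hc
            exact hnot (Subgroup.commutator_le.mpr hc)
          obtain ⟨a, ha, x, hx, hax⟩ := hex4
          have hzx : Subgroup.zpowers x ≤ X₀ := (Subgroup.zpowers_le).mpr hx
          refine ⟨x, fun hxQ => hax (hQA' (Subgroup.commutator_mem_commutator ha hxQ)), ?_, ?_⟩
          · have h2 : ⁅⁅A', X₀⁆, X₀⁆ ≤ Z' := by
              rw [hZ']
              refine le_inf ?_ ?_
              · exact (Subgroup.commutator_mono (Subgroup.commutator_le_left A' X₀) le_rfl).trans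
                  (Subgroup.commutator_le_left A' X₀)
              · rw [Subgroup.commutator_comm, Subgroup.commutator_eq_bot_iff_le_centralizer]
                  at hAXX
                exact (Subgroup.commutator_mono
                  (ke_commutator_le_of_le_normalizer A' X₀ hAX₀) le_rfl).trans hAXX
            show ⁅⁅⁅A', Subgroup.zpowers x⁆, Subgroup.zpowers x⁆, Subgroup.zpowers x⁆ ≤ Z'
            exact (Subgroup.commutator_mono ((Subgroup.commutator_mono
              (Subgroup.commutator_mono le_rfl hzx) hzx).trans h2) le_rfl).trans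
              (Subgroup.commutator_le_left Z' _)
          · rw [eq_bot_iff, ← hZXX]
            exact Subgroup.commutator_mono (Subgroup.commutator_mono le_rfl hzx) hzx
      · have hex2 : ∃ B ∈ Cfsg.kLowerStarFamily (Cfsg.kSeqOdd ↥(S : Subgroup X) n),
            ¬ B ≤ Qs := by
          by_contra hc
          push Not at hc
          exact he (sSup_le hc)
        obtain ⟨B, hB, hBQ⟩ := hex2
        obtain ⟨g, hgB, hgQ⟩ := SetLike.not_le_iff_exists.mp hBQ
        have hz : Subgroup.zpowers g ≤ B := (Subgroup.zpowers_le).mpr hgB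
        have hAB : ⁅A', B⁆ ≤ B := ke_commutator_le_of_le_normalizer A' B (hAodd.trans hB.2.1)
        have h3 : ⁅⁅⁅A', B⁆, B⁆, B⁆ = ⊥ := by
          rw [Subgroup.commutator_eq_bot_iff_le_centralizer]
          exact (Subgroup.commutator_mono hAB le_rfl).trans hB.1
        have hq := hB.2.2 Z' (normal_abelian_mem_classTwo Z' hZ'ab) (hZ'A'.trans hAodd)
          (by rw [Subgroup.normalizer_eq_top_iff.mpr hZ'n]; exact le_top)
          (by rw [hZ'Z']; exact Subgroup.commutator_bot_right B)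
          (by
            rw [eq_bot_iff, ← hZ'Z']
            exact Subgroup.commutator_mono (Subgroup.commutator_le_right _ Z') le_rfl)
        refine ⟨g, hgQ, ?_, ?_⟩
        · show ⁅⁅⁅A', Subgroup.zpowers g⁆, Subgroup.zpowers g⁆, Subgroup.zpowers g⁆ ≤ Z'
          have h4 : ⁅⁅⁅A', Subgroup.zpowers g⁆, Subgroup.zpowers g⁆, Subgroup.zpowers g⁆ ≤
              ⁅⁅⁅A', B⁆, B⁆, B⁆ :=
            Subgroup.commutator_mono (Subgroup.commutator_mono
              (Subgroup.commutator_mono le_rfl hz) hz) hz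
          rw [h3] at h4
          exact h4.trans bot_le
        · have h1 : ⁅⁅Z', B⁆, B⁆ = ⊥ := by
            rw [Subgroup.commutator_eq_bot_iff_le_centralizer, Subgroup.commutator_comm]
            exact hq.trans inf_le_right
          rw [eq_bot_iff, ← h1]
          exact Subgroup.commutator_mono (Subgroup.commutator_mono le_rfl hz) hz
  obtain ⟨g, hgQ, hg3, hg2⟩ := claim
  refine ⟨(g : X), g.2, fun h => hgQ (by rw [hQs]; exact Subgroup.mem_subgroupOf.mpr h),
    fun U V hch hUQ => ?_⟩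
  have h3 := Subgroup.map_mono (f := (S : Subgroup X).subtype) hg3
  rw [iterCommutator_map, hA'map, hZ'map, MonoidHom.map_zpowers] at h3
  have h2 := congrArg (Subgroup.map (S : Subgroup X).subtype) hg2
  rw [Subgroup.map_commutator, Subgroup.map_commutator, hZ'map, MonoidHom.map_zpowers,
    Subgroup.map_bot] at h2
  exact ke_chief_engel Q hQp A hAQ Z hZ hQA hCA (Subgroup.zpowers (g : X)) h3 h2 U V hch hUQ

end Engel4

end Cfsg.Agent.Lib.Helper1
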