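import Mathlib
import Cfsg.Agent.Lib.Helper1.KE3

set_option autoImplicit false

namespace Cfsg.Agent.Lib.Helper1

open Cfsg.Agent.Lib.Helper3

universe u

section

variable {p : ℕ} [Fact p.Prime]

/-- The local Engel hypothesis for the lower K-infinity functor when `p ≥ 5`. -/
theorem kinf_hloc (hp : 5 ≤ p) (Y : Type u) [Group Y] [Finite Y] (T : Sylow p Y)
    (hnn : ¬ (Cfsg.inducedFunctor (G := Y) Cfsg.kInfLower (T : Subgroup Y)).Normal) :
    ∃ g : Y, g ∈ (T : Subgroup Y) ∧ g ∉ Cfsg.pCore p Y ∧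
      ∀ U V : Subgroup Y, Cfsg.IsChiefFactor U V → U ≤ Cfsg.pCore p Y →
        Cfsg.iterCommutator U (Subgroup.zpowers g) (p - 1) ≤ V := by
  obtain ⟨g, hgT, hgQ, hE⟩ := ke_engel4 Y T hnn
  refine ⟨g, hgT, hgQ, fun U V hch hUQ => ?_⟩
  haveI := hch.2.2.1
  obtain ⟨k, hk⟩ : ∃ k, p - 1 = 4 + k := ⟨p - 5, by omega⟩
  rw [hk]
  exact ke_iter_le_of_le _ 4 k (hE U V hch hUQ)

/-- For `p ≥ 5` the lower K-infinity functor controls transfer with respect to every Sylow
`p`-subgroup. -/
theorem kinf_transfer (hp : 5 ≤ p) (G : Type u) [Group G] [Finite G] (T : Sylow p G) :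
    (T : Subgroup G) ⊓ ⁅(⊤ : Subgroup G), ⊤⁆ =
      (T : Subgroup G) ⊓ ⁅(⊤ : Subgroup G) ⊓ Subgroup.normalizer
          ((Cfsg.inducedFunctor (G := G) Cfsg.kInfLower (T : Subgroup G) : Subgroup G) : Set G),
        (⊤ : Subgroup G) ⊓ Subgroup.normalizer
          ((Cfsg.inducedFunctor (G := G) Cfsg.kInfLower (T : Subgroup G) : Subgroup G) : Set G)⁆ := by
  have h𝓦 : ∀ W' ∈ ({Cfsg.kInfLower} : Set (∀ (Q : Type u) [Group Q], Subgroup Q)),
      Cfsg.IsCharPFunctor.{u} p W' := by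
    intro W' hW'; rw [Set.mem_singleton_iff] at hW'; rw [hW']; exact kInfLower_charP
  have key := tc_sections (G := G) (p := p) {Cfsg.kInfLower} h𝓦
    (by
      intro K R hR hcon IH T
      refine engel_constrained Cfsg.kInfLower kInfLower_charP T ?_ (kinf_hloc hp _ T)
      intro M hM T'
      refine IH ↥M ?_ (isSectionOf_subgroup (isSectionOf_section K R) M) T'
      refine lt_of_le_of_ne (Subgroup.card_le_card_group M) ?_
      intro h1; exact hM (Subgroup.eq_top_of_card_eq M h1))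
    G (isSectionOf_self G)
  have h := key T
  refine le_antisymm ?_ ?_
  · unfold TC TD at h
    rw [iSup_singleton] at h
    exact h
  · exact inf_le_inf_left _ (Subgroup.commutator_mono inf_le_left inf_le_left)

end

end Cfsg.Agent.Lib.Helper1
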