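import Mathlib
import Cfsg.Agent.Lib.Helper1.KE2

set_option autoImplicit false

namespace Cfsg.Agent.Lib.Helper1

open Cfsg.Agent.Lib.Helper3
open scoped commutatorElement

section Ann

variable {G : Type*} [Group G]

/-- The elements whose commutators with `A₁` lie in the normal subgroup `W₀`. -/
def keAnn (A₁ W₀ : Subgroup G) [hW : W₀.Normal] : Subgroup G where
  carrier := {x | ∀ a ∈ A₁, a * x * a⁻¹ * x⁻¹ ∈ W₀}
  one_mem' := by
    intro a _
    have e : a * 1 * a⁻¹ * (1 : G)⁻¹ = 1 := by group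
    rw [e]; exact W₀.one_mem
  mul_mem' := by
    intro x y hx hy a ha
    have e : a * (x * y) * a⁻¹ * (x * y)⁻¹ =
        (a * x * a⁻¹ * x⁻¹) * (x * (a * y * a⁻¹ * y⁻¹) * x⁻¹) := by group
    rw [e]
    exact W₀.mul_mem (hx a ha) (hW.conj_mem _ (hy a ha) x)
  inv_mem' := by
    intro x hx a ha
    have e : a * x⁻¹ * a⁻¹ * x⁻¹⁻¹ = x⁻¹ * (a * x * a⁻¹ * x⁻¹)⁻¹ * x⁻¹⁻¹ := by group
    rw [e]
    exact hW.conj_mem _ (W₀.inv_mem (hx a ha)) x⁻¹

theorem mem_keAnn (A₁ W₀ : Subgroup G) [hW : W₀.Normal] (x : G) :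
    x ∈ keAnn A₁ W₀ ↔ ∀ a ∈ A₁, a * x * a⁻¹ * x⁻¹ ∈ W₀ := Iff.rfl

theorem keAnn_normal (A₁ W₀ : Subgroup G) [hA : A₁.Normal] [hW : W₀.Normal] :
    (keAnn A₁ W₀).Normal := by
  refine ⟨fun x hx h => ?_⟩
  rw [mem_keAnn] at hx ⊢
  intro a ha
  have e : a * (h * x * h⁻¹) * a⁻¹ * (h * x * h⁻¹)⁻¹ =
      h * ((h⁻¹ * a * h⁻¹⁻¹) * x * (h⁻¹ * a * h⁻¹⁻¹)⁻¹ * x⁻¹) * h⁻¹ := by group
  rw [e]
  exact hW.conj_mem _ (hx _ (hA.conj_mem a ha h⁻¹)) h

theorem commutator_le_of_le_keAnn {A₁ W₀ R : Subgroup G} [hW : W₀.Normal]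
    (h : R ≤ keAnn A₁ W₀) : ⁅A₁, R⁆ ≤ W₀ := by
  rw [Subgroup.commutator_le]
  intro a ha r hr
  rw [commutatorElement_def]
  exact (mem_keAnn A₁ W₀ r).mp (h hr) a ha

theorem le_keAnn_of_commutator_le {A₁ W₀ R : Subgroup G} [hW : W₀.Normal]
    (h : ⁅A₁, R⁆ ≤ W₀) : R ≤ keAnn A₁ W₀ := by
  intro r hr
  rw [mem_keAnn]
  intro a ha
  have := h (Subgroup.commutator_mem_commutator ha hr)
  rw [commutatorElement_def] at this
  exact this

/-- The general ladder for a bimultiplicative commutator pairing. -/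
theorem ke_ladder_gen (A X' W : Subgroup G)
    (hAX : ⁅A, X'⁆ ≤ W) (hAW : A ≤ Subgroup.centralizer (W : Set G))
    (hXW : X' ≤ Subgroup.centralizer (W : Set G)) (hWab : ∀ a ∈ W, ∀ b ∈ W, a * b = b * a)
    (K : Subgroup G) (hKA : K ≤ Subgroup.normalizer (A : Set G))
    (A₁ A₀ R W₁ W₀ : Subgroup G) [hA₁n : A₁.Normal] [hRn : R.Normal] [hW₀n : W₀.Normal]
    (hA₁ : A₁ ≤ A) (hR : R ≤ X') (h1 : ⁅A₁, R⁆ ≤ W₁) (h0 : ⁅A₀, R⁆ ≤ W₀)
    (i j : ℕ) (hi : Cfsg.iterCommutator A₁ K i ≤ A₀) (hj : Cfsg.iterCommutator W₁ K j ≤ W₀)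
    (hi1 : 1 ≤ i) :
    ⁅A₁, Cfsg.iterCommutator R K (i + j - 1)⁆ ≤ W₀ := by
  have hKR : K ≤ Subgroup.normalizer (R : Set G) := by
    rw [Subgroup.normalizer_eq_top_iff.mpr hRn]; exact le_top
  have main : ∀ t d s c : ℕ, s + d = i → t + d ≤ c + 1 →
      ⁅Cfsg.iterCommutator A₁ K s, Cfsg.iterCommutator R K c⁆ ≤
        Cfsg.iterCommutator W₁ K t ⊔ W₀ := by
    intro t
    induction t with
    | zero =>
      intro d s c _ _
      exact ((Subgroup.commutator_mono (ke_iter_le_normal K le_rfl s)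
        (ke_iter_le_normal K le_rfl c)).trans h1).trans le_sup_left
    | succ t iht =>
      intro d
      induction d with
      | zero =>
        intro s c hs _
        have hs' : s = i := by omega
        rw [hs']
        exact ((Subgroup.commutator_mono hi (ke_iter_le_normal K le_rfl c)).trans h0).trans
          le_sup_right
      | succ d ihd =>
        intro s c hs hc
        obtain ⟨c', rfl⟩ : ∃ c', c = c' + 1 := ⟨c - 1, by omega⟩
        have e1 := iht (d + 1) s c' hs (by omega)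
        have e2 := ihd (s + 1) c' (by omega) (by omega)
        have e3 := ke_pair_step A X' W hAX hAW hXW hWab K hKA
          (Cfsg.iterCommutator A₁ K s) (Cfsg.iterCommutator R K c')
          (Cfsg.iterCommutator W₁ K t ⊔ W₀) (Cfsg.iterCommutator W₁ K (t + 1) ⊔ W₀)
          ((ke_iter_le_normal K le_rfl s).trans hA₁) ((ke_iter_le_normal K le_rfl c').trans hR)
          (ke_le_normalizer_iter R K hKR c') e1 e2
        refine e3.trans (sup_le ?_ le_rfl)
        exact ke_commutator_sup_le _ W₀ K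
  have h := main j i 0 (i + j - 1) (by omega) (by omega)
  exact h.trans (sup_le hj le_rfl)

end Ann

section DF

variable {G : Type*} [Group G] [Finite G]

/-- Double filtration: Engel conditions on the chief factors of both sides of a pairing
give an Engel condition on a chief factor covered by the right-hand side. -/
theorem ke_double_filtration (A X' W : Subgroup G) [hAn : A.Normal] [hXn : X'.Normal]
    (hAX : ⁅A, X'⁆ ≤ W) (hAW : A ≤ Subgroup.centralizer (W : Set G))
    (hXW : X' ≤ Subgroup.centralizer (W : Set G)) (hWab : ∀ a ∈ W, ∀ b ∈ W, a * b = b * a)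
    (K : Subgroup G) (i j : ℕ) (hi1 : 1 ≤ i)
    (hEA : ∀ A₁ A₀ : Subgroup G, Cfsg.IsChiefFactor A₁ A₀ → A₁ ≤ A →
      Cfsg.iterCommutator A₁ K i ≤ A₀)
    (hEW : ∀ W₁ W₀ : Subgroup G, Cfsg.IsChiefFactor W₁ W₀ → W₁ ≤ W →
      Cfsg.iterCommutator W₁ K j ≤ W₀)
    (U V : Subgroup G) (hch : Cfsg.IsChiefFactor U V) (hX'U : X' ≤ U) (hXV : X' ⊔ V = U)
    (hker : X' ⊓ Subgroup.centralizer (A : Set G) ≤ V) :
    Cfsg.iterCommutator U K (i + j - 1) ≤ V := by
  obtain ⟨hVU, hUn, hVn, hchief⟩ := hch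
  haveI := hUn
  haveI := hVn
  have dich : ∀ N : Subgroup G, N.Normal → N ≤ U → N ≤ V ∨ N ⊔ V = U := by
    intro N hN hNU
    haveI := hN
    rcases hchief (N ⊔ V) inferInstance le_sup_right (sup_le hNU hVU.le) with h | h
    · left; rw [← h]; exact le_sup_left
    · right; exact h
  have reduce : ∀ N : Subgroup G, N ⊔ V = U → ∀ k : ℕ,
      Cfsg.iterCommutator N K k ≤ V → Cfsg.iterCommutator U K k ≤ V := by
    intro N h k hk
    rw [← h]
    exact (ke_iter_sup_le N V K k).trans (sup_le hk le_rfl)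
  have hKA : K ≤ Subgroup.normalizer (A : Set G) := by
    rw [Subgroup.normalizer_eq_top_iff.mpr hAn]; exact le_top
  have inner : ∀ (A₁ A₀ : Subgroup G), A₁.Normal → Cfsg.IsChiefFactor A₁ A₀ → A₁ ≤ A →
      ∀ m : ℕ, ∀ W₁ : Subgroup G, W₁.Normal → W₁ ≤ W → Nat.card W₁ ≤ m →
      ∀ R₂ : Subgroup G, R₂.Normal → R₂ ≤ X' → R₂ ≤ Subgroup.centralizer (A₀ : Set G) →
        R₂ ⊔ V = U → ⁅A₁, R₂⁆ ≤ W₁ →
        Cfsg.iterCommutator U K (i + j - 1) ≤ V ∨
          (R₂ ⊓ Subgroup.centralizer (A₁ : Set G)) ⊔ V = U := by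
    intro A₁ A₀ hA₁n hchA hA₁A m
    induction m with
    | zero =>
      intro W₁ _ _ hc
      exfalso
      have := Nat.card_pos (α := W₁)
      omega
    | succ m ih =>
      intro W₁ hW₁n hW₁W hc R₂ hR₂n hR₂X hR₂A₀ hR₂V h12
      haveI := hW₁n
      haveI := hR₂n
      haveI := hA₁n
      by_cases hW₁ : W₁ = ⊥
      · right
        have h3 : R₂ ≤ Subgroup.centralizer (A₁ : Set G) := by
          rw [hW₁, le_bot_iff, Subgroup.commutator_comm,
            Subgroup.commutator_eq_bot_iff_le_centralizer] at h12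
          exact h12
        rw [inf_eq_left.mpr h3]; exact hR₂V
      · obtain ⟨W₀, hchW⟩ := ke_exists_chief_below W₁ hW₁
        haveI hW₀n := hchW.2.2.1
        have hcard : Nat.card W₀ ≤ m := by
          have := card_lt_card_of_lt' hchW.1
          omega
        haveI := keAnn_normal A₁ W₀
        rcases dich (R₂ ⊓ keAnn A₁ W₀) inferInstance (inf_le_left.trans (hR₂X.trans hX'U))
          with h | h
        · left
          refine reduce R₂ hR₂V (i + j - 1) ?_
          have h00 : ⁅A₀, R₂⁆ ≤ W₀ := by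
            have h4 : ⁅A₀, R₂⁆ = ⊥ := by
              rw [Subgroup.commutator_comm, Subgroup.commutator_eq_bot_iff_le_centralizer]
              exact hR₂A₀
            rw [h4]; exact bot_le
          have hlad := ke_ladder_gen A X' W hAX hAW hXW hWab K hKA A₁ A₀ R₂ W₁ W₀ hA₁A hR₂X
            h12 h00 i j (hEA A₁ A₀ hchA hA₁A) (hEW W₁ W₀ hchW hW₁W) hi1
          exact le_trans (le_inf (ke_iter_le_normal K le_rfl (i + j - 1))
            (le_keAnn_of_commutator_le hlad)) h
        · rcases ih W₀ hW₀n (hchW.1.le.trans hW₁W) hcard (R₂ ⊓ keAnn A₁ W₀) inferInstance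
            (inf_le_left.trans hR₂X) (inf_le_left.trans hR₂A₀) h
            (commutator_le_of_le_keAnn inf_le_right) with h' | h'
          · left; exact h'
          · right
            apply le_antisymm (sup_le (inf_le_left.trans (hR₂X.trans hX'U)) hVU.le)
            rw [← h']
            exact sup_le_sup_right (inf_le_inf_right _ inf_le_left) V
  have outer : ∀ n : ℕ, ∀ A₁ : Subgroup G, A₁.Normal → A₁ ≤ A → Nat.card A₁ ≤ n →
      ∀ R : Subgroup G, R.Normal → R ≤ X' → R ⊔ V = U →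
        Cfsg.iterCommutator U K (i + j - 1) ≤ V ∨
          (R ⊓ Subgroup.centralizer (A₁ : Set G)) ⊔ V = U := by
    intro n
    induction n with
    | zero =>
      intro A₁ _ _ hc
      exfalso
      have := Nat.card_pos (α := A₁)
      omega
    | succ n ih =>
      intro A₁ hA₁n hA₁A hc R hRn hRX hRV
      haveI := hA₁n
      haveI := hRn
      by_cases hA₁ : A₁ = ⊥
      · right
        have h3 : R ≤ Subgroup.centralizer (A₁ : Set G) := by
          rw [hA₁]
          intro r _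
          rw [Subgroup.mem_centralizer_iff]
          intro h hh
          have hh' : h = 1 := Subgroup.mem_bot.mp hh
          rw [hh']; group
        rw [inf_eq_left.mpr h3]; exact hRV
      · obtain ⟨A₀, hchA⟩ := ke_exists_chief_below A₁ hA₁
        haveI hA₀n := hchA.2.2.1
        have hcard : Nat.card A₀ ≤ n := by
          have := card_lt_card_of_lt' hchA.1
          omega
        rcases ih A₀ hA₀n (hchA.1.le.trans hA₁A) hcard R hRn hRX hRV with h | h
        · left; exact h
        · rcases inner A₁ A₀ hA₁n hchA hA₁A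
            (Nat.card (⁅A₁, R ⊓ Subgroup.centralizer (A₀ : Set G)⁆ : Subgroup G))
            ⁅A₁, R ⊓ Subgroup.centralizer (A₀ : Set G)⁆ inferInstance
            ((Subgroup.commutator_mono hA₁A (inf_le_left.trans hRX)).trans hAX) le_rfl
            (R ⊓ Subgroup.centralizer (A₀ : Set G)) inferInstance (inf_le_left.trans hRX)
            inf_le_right h le_rfl with h' | h'
          · left; exact h'
          · right
            apply le_antisymm (sup_le (inf_le_left.trans (hRX.trans hX'U)) hVU.le)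
            rw [← h']
            exact sup_le_sup_right (inf_le_inf_right _ inf_le_left) V
  rcases outer (Nat.card A) A inferInstance le_rfl le_rfl X' inferInstance le_rfl hXV with h | h
  · exact h
  · exfalso
    have h5 : U ≤ V := by rw [← h]; exact sup_le hker le_rfl
    exact lt_irrefl _ (lt_of_lt_of_le hVU h5)

end DF

end Cfsg.Agent.Lib.Helper1
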