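import Mathlib
import Cfsg.Prelude.Def_SolvableStructure

set_option autoImplicit false

namespace Cfsg.Agent.Lib.Helper1

universe u

/-- if `M` contains the normalizer of a Sylow `p`-subgroup then `[G : M] ≡ 1 (mod p)` -/
theorem index_modEq_one_of_normalizer_le {G : Type*} [Group G] [Finite G] {p : ℕ}
    [Fact p.Prime] (P : Sylow p G) (M : Subgroup G)
    (h : Subgroup.normalizer ((P : Subgroup G) : Set G) ≤ M) : M.index ≡ 1 [MOD p] := by
  have hPM : (P : Subgroup G) ≤ M := Subgroup.le_normalizer.trans h
  have h1 : Nat.card (Sylow p G) ≡ 1 [MOD p] := card_sylow_modEq_one p G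
  have h2 : Nat.card (Sylow p M) ≡ 1 [MOD p] := card_sylow_modEq_one p M
  rw [Sylow.card_eq_index_normalizer P] at h1
  rw [Sylow.card_eq_index_normalizer (P.subtype hPM)] at h2
  have h2' : ((Subgroup.normalizer ((P : Subgroup G) : Set G)).subgroupOf M).index ≡
      1 [MOD p] := by
    rw [Subgroup.subgroupOf_normalizer_eq hPM]
    exact h2
  have h3 : (Subgroup.normalizer ((P : Subgroup G) : Set G)).relIndex M * M.index =
      (Subgroup.normalizer ((P : Subgroup G) : Set G)).index := Subgroup.relIndex_mul_index h
  have h4 : (Subgroup.normalizer ((P : Subgroup G) : Set G)).relIndex M * M.index ≡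
      1 * M.index [MOD p] := Nat.ModEq.mul_right _ h2'
  rw [h3, one_mul] at h4
  exact h4.symm.trans h1

/-- if all maximal subgroups have prime index, the Sylow subgroup for the largest prime is normal -/
theorem sylow_normal_of_coatom_index_prime {G : Type*} [Group G] [Finite G]
    (h : ∀ M : Subgroup G, IsCoatom M → M.index.Prime) {p : ℕ} [Fact p.Prime]
    (hmax : ∀ q : ℕ, q.Prime → q ∣ Nat.card G → q ≤ p) (P : Sylow p G) :
    (P : Subgroup G).Normal := by
  by_contra hn
  have hN : Subgroup.normalizer ((P : Subgroup G) : Set G) ≠ ⊤ := by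
    intro htop
    exact hn (Subgroup.normalizer_eq_top_iff.mp htop)
  rcases eq_top_or_exists_le_coatom (Subgroup.normalizer ((P : Subgroup G) : Set G)) with h1 | h1
  · exact hN h1
  · obtain ⟨M, hM, hle⟩ := h1
    have hq := h M hM
    have hqle := hmax _ hq (Subgroup.index_dvd_card M)
    have hmod : M.index % p = 1 % p := index_modEq_one_of_normalizer_le P M hle
    have hp : p.Prime := Fact.out
    rw [Nat.mod_eq_of_lt hp.one_lt] at hmod
    rcases eq_or_lt_of_le hqle with heq | hlt
    · rw [heq, Nat.mod_self] at hmod
      exact absurd hmod (by norm_num)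
    · rw [Nat.mod_eq_of_lt hlt] at hmod
      rw [hmod] at hq
      exact Nat.not_prime_one hq

theorem isCoatom_comap_mk {G : Type*} [Group G] (N : Subgroup G) [N.Normal]
    (Mb : Subgroup (G ⧸ N)) (hM : IsCoatom Mb) : IsCoatom (Mb.comap (QuotientGroup.mk' N)) := by
  have hsurj := QuotientGroup.mk'_surjective N
  constructor
  · intro htop
    apply hM.1
    rw [← Subgroup.map_comap_eq_self_of_surjective hsurj Mb, htop,
      Subgroup.map_top_of_surjective _ hsurj]
  · intro K hK
    have hNK : N ≤ K := by
      refine le_trans ?_ hK.le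
      intro n hn
      rw [Subgroup.mem_comap]
      have : (QuotientGroup.mk' N) n = 1 := by
        rw [QuotientGroup.mk'_apply, QuotientGroup.eq_one_iff]; exact hn
      rw [this]; exact Subgroup.one_mem _
    have hker : (QuotientGroup.mk' N).ker ≤ K := by rw [QuotientGroup.ker_mk']; exact hNK
    have h1 : Mb ≤ K.map (QuotientGroup.mk' N) := by
      rw [← Subgroup.map_comap_eq_self_of_surjective hsurj Mb]
      exact Subgroup.map_mono hK.le
    have h2 : Mb ≠ K.map (QuotientGroup.mk' N) := by
      intro heq
      apply hK.ne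
      rw [heq, Subgroup.comap_map_eq_self hker]
    have h3 := hM.2 _ (lt_of_le_of_ne h1 h2)
    rw [← Subgroup.comap_map_eq_self hker, h3, Subgroup.comap_top]

theorem isSolvable_of_coatom_index_prime_aux : ∀ (n : ℕ) (G : Type u) [Group G] [Finite G],
    Nat.card G ≤ n → (∀ M : Subgroup G, IsCoatom M → M.index.Prime) → Group.IsSolvable G := by
  intro n
  induction n with
  | zero =>
    intro G _ _ hn
    exact absurd hn (by have := Nat.card_pos (α := G); omega)
  | succ n ih =>
    intro G _ _ hn h
    by_cases hnt : Nontrivial G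
    · have h1 : 1 < Nat.card G := Finite.one_lt_card
      have hne : (Nat.card G).primeFactors.Nonempty := Nat.nonempty_primeFactors.mpr h1
      obtain ⟨p, hp⟩ : ∃ p, p = (Nat.card G).primeFactors.max' hne := ⟨_, rfl⟩
      have hpmem : p ∈ (Nat.card G).primeFactors := by rw [hp]; exact Finset.max'_mem _ _
      have hpp : p.Prime := (Nat.mem_primeFactors.mp hpmem).1
      have hpd : p ∣ Nat.card G := (Nat.mem_primeFactors.mp hpmem).2.1
      have hmax : ∀ q : ℕ, q.Prime → q ∣ Nat.card G → q ≤ p := by
        intro q hq hqd
        rw [hp]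
        exact Finset.le_max' _ _ (Nat.mem_primeFactors.mpr ⟨hq, hqd, (Nat.card_pos).ne'⟩)
      have : Fact p.Prime := ⟨hpp⟩
      obtain ⟨P⟩ := (inferInstance : Nonempty (Sylow p G))
      have hPn : (P : Subgroup G).Normal := sylow_normal_of_coatom_index_prime h hmax P
      have hcard := Subgroup.card_eq_card_quotient_mul_card_subgroup (P : Subgroup G)
      have hPd : p ∣ Nat.card (P : Subgroup G) := P.dvd_card_of_dvd_card hpd
      have hle : Nat.card (G ⧸ (P : Subgroup G)) ≤ n := by
        have h2 := hpp.two_le
        have h3 := Nat.le_of_dvd Nat.card_pos hPd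
        have hpos := Nat.card_pos (α := G ⧸ (P : Subgroup G))
        nlinarith
      have hq : ∀ Mb : Subgroup (G ⧸ (P : Subgroup G)), IsCoatom Mb → Mb.index.Prime := by
        intro Mb hMb
        have := h _ (isCoatom_comap_mk (P : Subgroup G) Mb hMb)
        rwa [Subgroup.index_comap_of_surjective _ (QuotientGroup.mk'_surjective _)] at this
      have : Group.IsSolvable (G ⧸ (P : Subgroup G)) := ih _ hle hq
      have : Group.IsNilpotent (P : Subgroup G) := P.isPGroup'.isNilpotent
      have : Group.IsSolvable (P : Subgroup G) := inferInstance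
      refine Group.isSolvable_of_ker_le_range (P : Subgroup G).subtype
        (QuotientGroup.mk' (P : Subgroup G)) ?_
      rw [QuotientGroup.ker_mk', Subgroup.range_subtype]
    · rw [not_nontrivial_iff_subsingleton] at hnt
      exact Group.isSolvable_of_comm (fun a b => Subsingleton.elim _ _)

end Cfsg.Agent.Lib.Helper1
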