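import Mathlib

set_option autoImplicit false

namespace Cfsg.Agent.Lib.Helper1

open scoped commutatorElement

theorem commutator_le_centralizer_of_cyclic {Γ : Type*} [Group Γ] (N : Subgroup Γ) [N.Normal]
    [IsCyclic N] : commutator Γ ≤ Subgroup.centralizer (N : Set Γ) := by
  have hnorm : Subgroup.normalizer (N : Set Γ) = ⊤ := Subgroup.normalizer_eq_top N
  let f : Subgroup.normalizer (N : Set Γ) →* (ZMod (Nat.card N))ˣ :=
    (IsCyclic.mulAutMulEquiv N).toMonoidHom.comp N.normalizerMonoidHom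
  have hker : commutator (Subgroup.normalizer (N : Set Γ)) ≤ f.ker :=
    Abelianization.commutator_subset_ker f
  rw [commutator_def, Subgroup.commutator_le]
  intro x _ y _
  have hx : x ∈ Subgroup.normalizer (N : Set Γ) := by rw [hnorm]; trivial
  have hy : y ∈ Subgroup.normalizer (N : Set Γ) := by rw [hnorm]; trivial
  have hmem : ⁅(⟨x, hx⟩ : Subgroup.normalizer (N : Set Γ)), ⟨y, hy⟩⁆ ∈ f.ker :=
    hker (Subgroup.commutator_mem_commutator (Subgroup.mem_top _) (Subgroup.mem_top _))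
  have hmem2 : ⁅(⟨x, hx⟩ : Subgroup.normalizer (N : Set Γ)), ⟨y, hy⟩⁆ ∈
      N.normalizerMonoidHom.ker := by
    rw [MonoidHom.mem_ker] at hmem ⊢
    exact (MulEquiv.map_eq_one_iff (IsCyclic.mulAutMulEquiv N)).mp hmem
  rw [Subgroup.normalizerMonoidHom_ker, Subgroup.mem_subgroupOf] at hmem2
  exact hmem2

end Cfsg.Agent.Lib.Helper1
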