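import Mathlib
import Cfsg.Agent.S0079
import Cfsg.Agent.Lib.Lead.CoprimeSylow
import Cfsg.Agent.Lib.Helper6.Comm
import Cfsg.Agent.Lib.Helper1.Glauberman

set_option autoImplicit false

namespace Cfsg.Agent.Lib.Helper1

universe u

/-- class-two condition on a subgroup, elementwise. -/
def NmC2 {G : Type*} [Group G] (M : Subgroup G) : Prop :=
  ∀ a ∈ M, ∀ b ∈ M, ∀ c ∈ M, (a⁻¹ * b⁻¹ * a * b) * c = c * (a⁻¹ * b⁻¹ * a * b)

/-- the `p`-part of the centre of `M`. -/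
def nmZ {G : Type*} [Group G] (M : Subgroup G) (p : ℕ) : Subgroup G where
  carrier := {z | z ∈ M ∧ (∀ m ∈ M, m * z = z * m) ∧ ∃ k : ℕ, z ^ (p ^ k) = 1}
  one_mem' := ⟨M.one_mem, fun m _ => by simp, 0, by simp⟩
  mul_mem' := by
    rintro a b ⟨ha, hac, ka, hka⟩ ⟨hb, hbc, kb, hkb⟩
    refine ⟨M.mul_mem ha hb, fun m hm => ?_, ka + kb, ?_⟩
    · rw [← mul_assoc, hac m hm, mul_assoc, hbc m hm, mul_assoc]
    · have hcomm : Commute a b := (hac b hb).symm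
      rw [hcomm.mul_pow, pow_add, pow_mul, hka, one_pow, one_mul, mul_comm (p ^ ka) (p ^ kb),
        pow_mul, hkb, one_pow]
  inv_mem' := by
    rintro a ⟨ha, hac, ka, hka⟩
    refine ⟨M.inv_mem ha, fun m hm => ?_, ka, by rw [inv_pow, hka, inv_one]⟩
    have h := hac m hm
    calc m * a⁻¹ = a⁻¹ * (a * m) * a⁻¹ := by group
      _ = a⁻¹ * (m * a) * a⁻¹ := by rw [h]
      _ = a⁻¹ * m := by group

theorem nmZ_le {G : Type*} [Group G] (M : Subgroup G) (p : ℕ) : nmZ M p ≤ M := fun _ hz => hz.1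

theorem nmZ_comm {G : Type*} [Group G] {M : Subgroup G} {p : ℕ} {z : G} (hz : z ∈ nmZ M p)
    {m : G} (hm : m ∈ M) : m * z = z * m := hz.2.1 m hm

theorem nmZ_isPGroup {G : Type*} [Group G] (M : Subgroup G) (p : ℕ) : IsPGroup p (nmZ M p) := by
  rintro ⟨z, hz⟩
  obtain ⟨k, hk⟩ := hz.2.2
  exact ⟨k, Subtype.ext hk⟩

theorem nmZ_normalizer {G : Type*} [Group G] [Finite G] (M : Subgroup G) (p : ℕ) :
    M ≤ Subgroup.normalizer (nmZ M p : Set G) := by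
  intro m hm
  apply Cfsg.Agent.Lib.Helper6.mem_normalizer_of_conj_mem
  intro d hd
  have h := nmZ_comm hd hm
  have : m * d * m⁻¹ = d := by rw [h]; group
  rw [this]; exact hd

theorem nm_comm_mem {G : Type*} [Group G] {M : Subgroup G} (hC2 : NmC2 M) {p : ℕ} {w m : G}
    (hw : w ∈ M) (hm : m ∈ M) (hwp : ∃ k : ℕ, w ^ (p ^ k) = 1) :
    w⁻¹ * m⁻¹ * w * m ∈ nmZ M p := by
  obtain ⟨k, hk⟩ := hwp
  have hcM : w⁻¹ * m⁻¹ * w * m ∈ M :=
    M.mul_mem (M.mul_mem (M.mul_mem (M.inv_mem hw) (M.inv_mem hm)) hw) hm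
  refine ⟨hcM, fun c hc => (hC2 w hw m hm c hc).symm, k, ?_⟩
  have h1 : w * (w⁻¹ * m⁻¹ * w * m) = m⁻¹ * w * m⁻¹⁻¹ := by group
  have h2 : (m⁻¹ * w * m⁻¹⁻¹) ^ (p ^ k) = 1 := by rw [conj_pow, hk]; group
  have hcomm : Commute w (w⁻¹ * m⁻¹ * w * m) := hC2 w hw m hm w hw |>.symm
  rw [← h1, hcomm.mul_pow, hk, one_mul] at h2
  exact h2

theorem nm_normalizer_of_le {G : Type*} [Group G] [Finite G] {M : Subgroup G} (hC2 : NmC2 M)
    {p : ℕ} {W : Subgroup G} (hZW : nmZ M p ≤ W) (hWM : W ≤ M) (hW : IsPGroup p W) :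
    M ≤ Subgroup.normalizer (W : Set G) := by
  intro m hm
  have h1 : m⁻¹ ∈ Subgroup.normalizer (W : Set G) := by
    apply Cfsg.Agent.Lib.Helper6.mem_normalizer_of_conj_mem
    intro w hw
    have hwp : ∃ k : ℕ, w ^ (p ^ k) = 1 := by
      obtain ⟨k, hk⟩ := hW ⟨w, hw⟩
      exact ⟨k, congrArg Subtype.val hk⟩
    have h2 := hZW (nm_comm_mem hC2 (hWM hw) hm hwp)
    have h3 : m⁻¹ * w * m⁻¹⁻¹ = w * (w⁻¹ * m⁻¹ * w * m) := by group
    rw [h3]; exact W.mul_mem hw h2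
  simpa using (Subgroup.normalizer (W : Set G)).inv_mem h1

theorem nm_normalizer_eq {G : Type*} [Group G] {M : Subgroup G} (hmax : IsCoatom M)
    (hcf : ∀ N : Subgroup G, N.Normal → N ≤ M → N = ⊥) {W : Subgroup G} (hW : W ≠ ⊥)
    (hWM : W ≤ M) (hn : M ≤ Subgroup.normalizer (W : Set G)) :
    Subgroup.normalizer (W : Set G) = M := by
  by_contra hne
  have hlt : M < Subgroup.normalizer (W : Set G) := lt_of_le_of_ne hn (Ne.symm hne)
  have htop := hmax.2 _ hlt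
  have hnorm : W.Normal := Subgroup.normalizer_eq_top_iff.mp htop
  exact hW (hcf W hnorm hWM)

theorem nm_wc {G : Type*} [Group G] [Finite G] {M : Subgroup G} (hmax : IsCoatom M)
    (hcf : ∀ N : Subgroup G, N.Normal → N ≤ M → N = ⊥) (hC2 : NmC2 M) {p : ℕ}
    (hZ : nmZ M p ≠ ⊥) (y : G) (hy : ∀ z ∈ nmZ M p, y⁻¹ * z * y ∈ M) : y ∈ M := by
  have hNZ : Subgroup.normalizer (nmZ M p : Set G) = M :=
    nm_normalizer_eq hmax hcf hZ (nmZ_le M p) (nmZ_normalizer M p)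
  -- conjugates of Z by y lie in M
  have hZ' : ∀ z ∈ nmZ M p, y * z * y⁻¹ ∈ M := by
    intro z hz
    have hc : y * z * y⁻¹ ∈ Subgroup.centralizer (nmZ M p : Set G) := by
      rw [Subgroup.mem_centralizer_iff]
      intro u hu
      have h1 := nmZ_comm hz (hy u hu)
      calc u * (y * z * y⁻¹) = y * ((y⁻¹ * u * y) * z) * y⁻¹ := by group
        _ = y * (z * (y⁻¹ * u * y)) * y⁻¹ := by rw [h1]
        _ = y * z * y⁻¹ * u := by group
    have := (Subgroup.centralizer_le_normalizer _) hc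
    rwa [hNZ] at this
  obtain ⟨W₂, hW₂⟩ : ∃ W₂ : Subgroup G,
      W₂ = nmZ M p ⊔ (nmZ M p).map (MulAut.conj y⁻¹).toMonoidHom := ⟨_, rfl⟩
  have hcM : (nmZ M p).map (MulAut.conj y⁻¹).toMonoidHom ≤ M := by
    rintro _ ⟨z, hz, rfl⟩
    have := hy z hz
    simpa [MulAut.conj_apply] using this
  have hW₂M : W₂ ≤ M := by rw [hW₂]; exact sup_le (nmZ_le M p) hcM
  have hZW₂ : nmZ M p ≤ W₂ := by rw [hW₂]; exact le_sup_left
  have hW₂p : IsPGroup p W₂ := by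
    rw [hW₂]
    apply IsPGroup.to_sup_of_normal_left' (nmZ_isPGroup M p) ((nmZ_isPGroup M p).map _)
    exact hcM.trans (nmZ_normalizer M p)
  have hW₂ne : W₂ ≠ ⊥ := fun h => hZ (le_bot_iff.mp (h ▸ hZW₂))
  have hNW₂ : Subgroup.normalizer (W₂ : Set G) = M :=
    nm_normalizer_eq hmax hcf hW₂ne hW₂M (nm_normalizer_of_le hC2 hZW₂ hW₂M hW₂p)
  obtain ⟨W, hWdef⟩ : ∃ W : Subgroup G, W = W₂.map (MulAut.conj y).toMonoidHom := ⟨_, rfl⟩
  have hWp : IsPGroup p W := by rw [hWdef]; exact hW₂p.map _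
  have hZW : nmZ M p ≤ W := by
    intro z hz
    rw [hWdef]
    refine ⟨y⁻¹ * z * y, ?_, ?_⟩
    · apply hW₂ ▸ (le_sup_right : (nmZ M p).map (MulAut.conj y⁻¹).toMonoidHom ≤ _)
      exact ⟨z, hz, by simp [MulAut.conj_apply]⟩
    · simp only [MulEquiv.coe_toMonoidHom, MulAut.conj_apply]; group
  have hWM : W ≤ M := by
    rw [hWdef, Subgroup.map_le_iff_le_comap, hW₂]
    apply sup_le
    · intro z hz
      have := hZ' z hz
      simpa [Subgroup.mem_comap, MulAut.conj_apply] using this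
    · rintro _ ⟨z, hz, rfl⟩
      have : y * (y⁻¹ * z * y⁻¹⁻¹) * y⁻¹ = z := by group
      simp only [Subgroup.mem_comap, MulEquiv.coe_toMonoidHom, MulAut.conj_apply]
      rw [this]; exact nmZ_le M p hz
  have hWne : W ≠ ⊥ := fun h => hZ (le_bot_iff.mp (h ▸ hZW))
  have hNW : Subgroup.normalizer (W : Set G) = M :=
    nm_normalizer_eq hmax hcf hWne hWM (nm_normalizer_of_le hC2 hZW hWM hWp)
  have hmap : M.map (MulAut.conj y).toMonoidHom ≤ M := by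
    have h := Subgroup.le_normalizer_map (H := W₂) (MulAut.conj y).toMonoidHom
    rw [hNW₂, ← hWdef, hNW] at h
    exact h
  have hMne : M ≠ ⊥ := fun h => hZ (le_bot_iff.mp (h ▸ nmZ_le M p))
  have hNM : Subgroup.normalizer (M : Set G) = M :=
    nm_normalizer_eq hmax hcf hMne le_rfl Subgroup.le_normalizer
  have hyN : y ∈ Subgroup.normalizer (M : Set G) := by
    apply Cfsg.Agent.Lib.Helper6.mem_normalizer_of_conj_mem
    intro d hd
    have := hmap ⟨d, hd, rfl⟩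
    simpa [MulAut.conj_apply] using this
  rwa [hNM] at hyN

theorem nm_pgroup_le {G : Type*} [Group G] [Finite G] {M : Subgroup G} (hmax : IsCoatom M)
    (hcf : ∀ N : Subgroup G, N.Normal → N ≤ M → N = ⊥) (hC2 : NmC2 M) {p : ℕ} [Fact p.Prime]
    (hZ : nmZ M p ≠ ⊥) (T : Subgroup G) (hT : IsPGroup p T) (hZT : nmZ M p ≤ T) : T ≤ M := by
  by_contra hTM
  have hlt : T ⊓ M < T := lt_of_le_of_ne inf_le_left (fun h => hTM (h ▸ inf_le_right))
  obtain ⟨t, htT, htn, htV⟩ := Cfsg.Agent.Lib.Lead.exists_mem_normalizer_not_mem hT hlt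
  apply htV
  refine Subgroup.mem_inf.mpr ⟨htT, ?_⟩
  apply nm_wc hmax hcf hC2 hZ t
  intro z hz
  have hzV : z ∈ T ⊓ M := Subgroup.mem_inf.mpr ⟨hZT hz, nmZ_le M p hz⟩
  have h1 := (Subgroup.mem_normalizer_iff.mp (inv_mem htn) z).mp hzV
  rw [inv_inv] at h1
  exact (Subgroup.mem_inf.mp h1).2

theorem nm_fusion {G : Type*} [Group G] [Finite G] {M : Subgroup G} (hmax : IsCoatom M)
    (hcf : ∀ N : Subgroup G, N.Normal → N ≤ M → N = ⊥) (hC2 : NmC2 M) {p : ℕ} [Fact p.Prime]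
    (hZ : nmZ M p ≠ ⊥) :
    ∀ x ∈ M, ∀ y ∈ M, (∃ g : G, g * x * g⁻¹ = y) → ∃ h ∈ M, h * x * h⁻¹ = y := by
  rintro x hx y hy ⟨g, rfl⟩
  obtain ⟨C, hCdef⟩ : ∃ C : Subgroup G, C = Subgroup.centralizer ({x} : Set G) := ⟨_, rfl⟩
  have hmemC : ∀ c : G, c ∈ C ↔ x * c = c * x := by
    intro c; rw [hCdef, Subgroup.mem_centralizer_iff]; simp
  have hZC : nmZ M p ≤ C := by
    intro z hz
    rw [hmemC]; exact nmZ_comm hz hx
  obtain ⟨Z₁, hZ₁⟩ : ∃ Z₁ : Subgroup G, Z₁ = (nmZ M p).map (MulAut.conj g⁻¹).toMonoidHom :=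
    ⟨_, rfl⟩
  have hZ₁C : Z₁ ≤ C := by
    rw [hZ₁]
    rintro _ ⟨z, hz, rfl⟩
    rw [hmemC]
    have h1 := nmZ_comm hz hy
    simp only [MulEquiv.coe_toMonoidHom, MulAut.conj_apply, inv_inv]
    calc x * (g⁻¹ * z * g) = g⁻¹ * ((g * x * g⁻¹) * z) * g := by group
      _ = g⁻¹ * (z * (g * x * g⁻¹)) * g := by rw [h1]
      _ = g⁻¹ * z * g * x := by group
  have hZ₁p : IsPGroup p Z₁ := by rw [hZ₁]; exact (nmZ_isPGroup M p).map _
  obtain ⟨T, hT⟩ := ((nmZ_isPGroup M p).comap_subtype (K := C)).exists_le_sylow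
  obtain ⟨T₁, hT₁⟩ := (hZ₁p.comap_subtype (K := C)).exists_le_sylow
  obtain ⟨c, hcC, hc⟩ := Cfsg.Agent.Lib.Lead.sylow_map_conj C T₁ T
  have hTM : (T : Subgroup C).map C.subtype ≤ M := by
    apply nm_pgroup_le hmax hcf hC2 hZ _ (T.isPGroup'.map _)
    intro z hz
    exact ⟨⟨z, hZC hz⟩, hT (show (⟨z, hZC hz⟩ : C) ∈ (nmZ M p).comap C.subtype from hz), rfl⟩
  have hmem : g * c⁻¹ ∈ M := by
    apply nm_wc hmax hcf hC2 hZ
    intro z hz
    have hz1 : g⁻¹ * z * g ∈ Z₁ := by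
      rw [hZ₁]; exact ⟨z, hz, by simp [MulAut.conj_apply]⟩
    have hz2 : g⁻¹ * z * g ∈ (T₁ : Subgroup C).map C.subtype :=
      ⟨⟨g⁻¹ * z * g, hZ₁C hz1⟩,
        hT₁ (show (⟨g⁻¹ * z * g, hZ₁C hz1⟩ : C) ∈ Z₁.comap C.subtype from hz1), rfl⟩
    have hz3 := Subgroup.smul_mem_pointwise_smul _ (MulAut.conj c) _ hz2
    rw [hc, MulAut.smul_def, MulAut.conj_apply] at hz3
    have hz4 := hTM hz3
    have : (g * c⁻¹)⁻¹ * z * (g * c⁻¹) = c * (g⁻¹ * z * g) * c⁻¹ := by group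
    rw [this]; exact hz4
  refine ⟨g * c⁻¹, hmem, ?_⟩
  have hcx := (hmemC c).mp hcC
  calc g * c⁻¹ * x * (g * c⁻¹)⁻¹ = g * (c⁻¹ * (x * c)) * g⁻¹ := by group
    _ = g * (c⁻¹ * (c * x)) * g⁻¹ := by rw [hcx]
    _ = g * x * g⁻¹ := by group

theorem nm_Z_ne_bot {G : Type*} [Group G] [Finite G] {M : Subgroup G} (hC2 : NmC2 M) {q : ℕ}
    [hq : Fact q.Prime] (hqM : q ∣ Nat.card M) : nmZ M q ≠ ⊥ := by
  intro hbot
  obtain ⟨x, hx⟩ := exists_prime_orderOf_dvd_card' q hqM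
  have hxq : (x : G) ^ (q ^ 1) = 1 := by
    rw [pow_one, ← hx]
    have := pow_orderOf_eq_one x
    exact_mod_cast congrArg Subtype.val this
  have hcen : ∀ m ∈ M, m * (x : G) = (x : G) * m := by
    intro m hm
    have h := nm_comm_mem (p := q) hC2 x.2 hm ⟨1, hxq⟩
    rw [hbot, Subgroup.mem_bot] at h
    calc m * (x : G) = m * (x : G) * ((x : G)⁻¹ * m⁻¹ * (x : G) * m) := by rw [h, mul_one]
      _ = (x : G) * m := by group
  have hxZ : (x : G) ∈ nmZ M q := ⟨x.2, hcen, 1, hxq⟩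
  rw [hbot, Subgroup.mem_bot] at hxZ
  have hx1 : x = 1 := Subtype.ext hxZ
  rw [hx1, orderOf_one] at hx
  exact hq.out.one_lt.ne hx

theorem nm_hall {G : Type*} [Group G] [Finite G] {M : Subgroup G} (hmax : IsCoatom M)
    (hcf : ∀ N : Subgroup G, N.Normal → N ≤ M → N = ⊥) (hC2 : NmC2 M) :
    (Nat.card M).Coprime M.index := by
  by_contra hnc
  obtain ⟨q, hq, hqM, hqI⟩ := Nat.Prime.not_coprime_iff_dvd.mp hnc
  haveI : Fact q.Prime := ⟨hq⟩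
  have hZ := nm_Z_ne_bot hC2 hqM
  obtain ⟨S, hS⟩ := (nmZ_isPGroup M q).exists_le_sylow
  have hSM : (S : Subgroup G) ≤ M := nm_pgroup_le hmax hcf hC2 hZ _ S.isPGroup' hS
  have h1 := Subgroup.relIndex_mul_index hSM
  have h2 : q ∣ (S : Subgroup G).index := by rw [← h1]; exact Dvd.dvd.mul_left hqI _
  exact S.not_dvd_index h2

end Cfsg.Agent.Lib.Helper1
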