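import Mathlib
import Cfsg.Agent.Lib.Helper1.NM1

set_option autoImplicit false

namespace Cfsg.Agent.Lib.Helper1

universe u

theorem nm_corefree_solvable {G : Type*} [Group G] [Finite G] {M : Subgroup G} (hmax : IsCoatom M)
    (hcf : ∀ N : Subgroup G, N.Normal → N ≤ M → N = ⊥) (hC2 : NmC2 M)
    (hnil : Group.IsNilpotent M) : Group.IsSolvable G := by
  by_cases hM : M = ⊥
  · apply Group.isSolvable_of_comm
    intro a b
    by_cases ha : Subgroup.zpowers a = ⊥
    · have : a = 1 := by
        have h := Subgroup.mem_zpowers a
        rw [ha, Subgroup.mem_bot] at h; exact h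
      rw [this]; simp
    · have hlt : M < Subgroup.zpowers a := by rw [hM]; exact bot_lt_iff_ne_bot.mpr ha
      have htop := hmax.2 _ hlt
      have hb : b ∈ Subgroup.zpowers a := by rw [htop]; trivial
      obtain ⟨k, rfl⟩ := Subgroup.mem_zpowers_iff.mp hb
      exact (Commute.zpow_right (Commute.refl a) k).eq
  · have hcard : Nat.card M ≠ 1 := fun h => hM (Subgroup.card_eq_one.mp h)
    obtain ⟨p, hp, hpM⟩ := Nat.exists_prime_and_dvd hcard
    haveI : Fact p.Prime := ⟨hp⟩
    have hZ := nm_Z_ne_bot hC2 hpM
    have hHall := nm_hall hmax hcf hC2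
    obtain ⟨K, hKn, hKM⟩ :=
      (Cfsg.Agent.S0079.result M hnil hHall).mpr (nm_fusion hmax hcf hC2 hZ)
    haveI := hKn
    have hKsolv : Group.IsSolvable K := by
      by_cases hK : Nat.card K = 1
      · have hKbot : K = ⊥ := Subgroup.card_eq_one.mp hK
        apply Group.isSolvable_of_comm
        intro a b
        have ha : (a : G) ∈ (⊥ : Subgroup G) := hKbot ▸ a.2
        have hb : (b : G) ∈ (⊥ : Subgroup G) := hKbot ▸ b.2
        rw [Subgroup.mem_bot] at ha hb
        have ha' : a = 1 := Subtype.ext ha
        have hb' : b = 1 := Subtype.ext hb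
        rw [ha', hb']
      · obtain ⟨q, hq, hqK⟩ := Nat.exists_prime_and_dvd hK
        haveI : Fact q.Prime := ⟨hq⟩
        have hMK : M ≤ Subgroup.normalizer (K : Set G) := by
          rw [Subgroup.normalizer_eq_top_iff.mpr hKn]; exact le_top
        have hcop : (Nat.card M).Coprime (Nat.card K) := by
          rw [← hKM.index_eq_card]; exact hHall
        haveI : Group.IsSolvable M := inferInstance
        obtain ⟨Q, hQ⟩ := Cfsg.Agent.Lib.Lead.exists_invariant_sylow M K hMK hcop
          (Or.inl inferInstance) q
        obtain ⟨QG, hQG⟩ : ∃ QG : Subgroup G, QG = (Q : Subgroup K).map K.subtype := ⟨_, rfl⟩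
        rw [← hQG] at hQ
        have hQGK : QG ≤ K := by rw [hQG]; exact Subgroup.map_subtype_le _
        have hQGcard : Nat.card QG = q ^ (Nat.card K).factorization q := by
          rw [hQG]; exact Cfsg.Agent.Lib.Lead.card_sylow_map K Q
        have hinf : M ⊓ QG = ⊥ := by
          have hd := hKM.disjoint
          exact le_bot_iff.mp (le_trans (inf_le_inf_left M hQGK)
            (by rw [inf_comm]; exact hd.le_bot))
        have hQGne : ¬ QG ≤ M := by
          intro h
          have h1 : QG ≤ M ⊓ QG := le_inf h le_rfl
          rw [hinf, le_bot_iff] at h1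
          rw [h1, Subgroup.card_bot] at hQGcard
          have hpos : 0 < (Nat.card K).factorization q :=
            hq.factorization_pos_of_dvd Nat.card_pos.ne' hqK
          have : 1 < q ^ (Nat.card K).factorization q := Nat.one_lt_pow hpos.ne' hq.one_lt
          omega
        have hlt : M < M ⊔ QG :=
          lt_of_le_of_ne le_sup_left (fun h => hQGne (h ▸ le_sup_right))
        have htop := hmax.2 _ hlt
        have hc1 := card_sup_mul_card_inf_of_le_normalizer M QG hQ
        rw [htop, hinf, Subgroup.card_bot, mul_one, Subgroup.card_top, ← hKM.card_mul_card,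
          mul_comm] at hc1
        have hc2 : Nat.card K = Nat.card QG := Nat.eq_of_mul_eq_mul_left Nat.card_pos hc1
        have hKp : IsPGroup q K := IsPGroup.of_card (hc2.trans hQGcard)
        haveI := hKp.isNilpotent
        infer_instance
    have hsurj : Function.Surjective ((QuotientGroup.mk' K).comp M.subtype) := by
      intro x
      obtain ⟨g, rfl⟩ := QuotientGroup.mk'_surjective K x
      obtain ⟨⟨k, m⟩, hkm⟩ := hKM.2 g
      refine ⟨m, ?_⟩
      simp only [MonoidHom.coe_comp, Function.comp_apply, Subgroup.coe_subtype,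
        QuotientGroup.mk'_apply]
      simp only at hkm
      rw [← hkm, QuotientGroup.mk_mul, (QuotientGroup.eq_one_iff (k : G)).mpr k.2, one_mul]
    haveI : Group.IsSolvable M := inferInstance
    haveI : Group.IsSolvable (G ⧸ K) := Group.isSolvable_of_surjective hsurj
    exact Group.isSolvable_of_ker_le_range K.subtype (QuotientGroup.mk' K) (by simp)

theorem nm_solvable_aux (n : ℕ) : ∀ (G : Type u) [Group G] [Finite G] (M : Subgroup G),
    Nat.card G = n → IsCoatom M → NmC2 M → Group.IsNilpotent M → Group.IsSolvable G := by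
  induction n using Nat.strong_induction_on with
  | _ n ih =>
    intro G _ _ M hn hmax hC2 hnil
    by_cases hcf : ∀ N : Subgroup G, N.Normal → N ≤ M → N = ⊥
    · exact nm_corefree_solvable hmax hcf hC2 hnil
    · push Not at hcf
      obtain ⟨N, hNn, hNM, hNbot⟩ := hcf
      haveI := hNn
      have hlt : Nat.card (G ⧸ N) < n := by
        rw [← hn, Subgroup.card_eq_card_quotient_mul_card_subgroup N]
        have h1 : 1 < Nat.card N := N.one_lt_card_iff_ne_bot.mpr hNbot
        have h2 : 0 < Nat.card (G ⧸ N) := Nat.card_pos
        nlinarith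
      have hcomap : (M.map (QuotientGroup.mk' N)).comap (QuotientGroup.mk' N) = M := by
        rw [Subgroup.comap_map_eq, QuotientGroup.ker_mk', sup_eq_left.mpr hNM]
      have hco : IsCoatom (M.map (QuotientGroup.mk' N)) := by
        refine ⟨?_, ?_⟩
        · intro htop
          rw [htop, Subgroup.comap_top] at hcomap
          exact hmax.1 hcomap.symm
        · intro b hb
          have h1 : M ≤ b.comap (QuotientGroup.mk' N) := by
            rw [← hcomap]; exact Subgroup.comap_mono hb.le
          have h2 : M ≠ b.comap (QuotientGroup.mk' N) := by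
            intro h
            have h3 : (b.comap (QuotientGroup.mk' N)).map (QuotientGroup.mk' N) = b :=
              Subgroup.map_comap_eq_self_of_surjective (QuotientGroup.mk'_surjective N) b
            rw [← h] at h3
            exact hb.ne h3
          have h4 := hmax.2 _ (lt_of_le_of_ne h1 h2)
          have h3 : (b.comap (QuotientGroup.mk' N)).map (QuotientGroup.mk' N) = b :=
            Subgroup.map_comap_eq_self_of_surjective (QuotientGroup.mk'_surjective N) b
          rw [h4, Subgroup.map_top_of_surjective _ (QuotientGroup.mk'_surjective N)] at h3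
          exact h3.symm
      have hC2' : NmC2 (M.map (QuotientGroup.mk' N)) := by
        rintro _ ⟨a, ha, rfl⟩ _ ⟨b, hb, rfl⟩ _ ⟨c, hc, rfl⟩
        have h := hC2 a ha b hb c hc
        simp only [← map_inv, ← map_mul]
        rw [h]
      have hnil' : Group.IsNilpotent (M.map (QuotientGroup.mk' N)) :=
        Group.nilpotent_of_surjective ((QuotientGroup.mk' N).subgroupMap M)
          ((QuotientGroup.mk' N).subgroupMap_surjective M)
      haveI : Group.IsSolvable (G ⧸ N) :=
        ih _ hlt (G ⧸ N) (M.map (QuotientGroup.mk' N)) rfl hco hC2' hnil'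
      haveI : Group.IsSolvable M := inferInstance
      haveI : Group.IsSolvable N :=
        Group.isSolvable_of_isSolvable_injective (Subgroup.inclusion_injective hNM)
      exact Group.isSolvable_of_ker_le_range N.subtype (QuotientGroup.mk' N) (by simp)

theorem nm_solvable {G : Type u} [Group G] [Finite G] (M : Subgroup G) (hmax : IsCoatom M)
    (hnil : Group.IsNilpotent M) (hcl : Group.nilpotencyClass ↥M ≤ 2) : Group.IsSolvable G := by
  apply nm_solvable_aux (Nat.card G) G M rfl hmax ?_ hnil
  have htop : Subgroup.upperCentralSeries ↥M 2 = ⊤ := by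
    apply top_le_iff.mp
    rw [← Subgroup.upperCentralSeries_nilpotencyClass (G := ↥M)]
    exact Subgroup.upperCentralSeries_mono ↥M hcl
  intro a ha b hb c hc
  have h1 : (⟨a, ha⟩ : M)⁻¹ ∈ Subgroup.upperCentralSeries ↥M (1 + 1) := by
    rw [show (1 + 1 : ℕ) = 2 from rfl, htop]; trivial
  rw [Subgroup.mem_upperCentralSeries_succ_iff] at h1
  have h2 := h1 (⟨b, hb⟩ : M)⁻¹
  rw [Subgroup.upperCentralSeries_one, Subgroup.mem_center_iff] at h2
  have h3 := h2 ⟨c, hc⟩
  have h4 := congrArg Subtype.val h3
  simp only [commutatorElement_def, inv_inv, Subgroup.coe_mul, Subgroup.coe_inv] at h4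
  exact h4.symm

end Cfsg.Agent.Lib.Helper1
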