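import Mathlib
import Cfsg.Prelude.Def_PLocal
import Cfsg.Prelude.Def_LocalEven
import Cfsg.Agent.Lib.Helper1.GT8
import Cfsg.Agent.Lib.Helper1.GT9

/-!
# `p`-stability of groups with a normal series `p`-group / abelian `p'`-group / `p`-group
(helper1)
-/

set_option autoImplicit false
open scoped commutatorElement

namespace Cfsg.Agent.Lib.Helper1

/-- `Z` has a normal series `A ≤ M ≤ Z` with `A` a `p`-group, `M / A` an abelian `p'`-group and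
`Z / M` a `p`-group. -/
def InD (p : ℕ) (Z : Type*) [Group Z] : Prop :=
  ∃ A M : Subgroup Z, A.Normal ∧ M.Normal ∧ A ≤ M ∧ IsPGroup p A ∧
    (∀ x ∈ M, ∀ y ∈ M, x * y * x⁻¹ * y⁻¹ ∈ A) ∧
    (∀ x ∈ M, ∃ n : ℕ, ¬ p ∣ n ∧ x ^ n ∈ A) ∧ (∀ z : Z, ∃ k : ℕ, z ^ (p ^ k) ∈ M)

theorem inD_subgroup {p : ℕ} {Z : Type*} [Group Z] (h : InD p Z) (N : Subgroup Z) :
    InD p ↥N := by
  obtain ⟨A, M, hAn, hMn, hAM, hAp, hcomm, hpow, hq⟩ := h
  refine ⟨A.subgroupOf N, M.subgroupOf N, hAn.subgroupOf N, hMn.subgroupOf N, ?_,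
    hAp.comap_subtype, ?_, ?_, ?_⟩
  · intro x hx
    rw [Subgroup.mem_subgroupOf] at hx ⊢
    exact hAM hx
  · intro x hx y hy
    rw [Subgroup.mem_subgroupOf] at hx hy ⊢
    simpa using hcomm _ hx _ hy
  · intro x hx
    rw [Subgroup.mem_subgroupOf] at hx
    obtain ⟨n, hn, hxn⟩ := hpow _ hx
    exact ⟨n, hn, by rw [Subgroup.mem_subgroupOf]; simpa using hxn⟩
  · intro z
    obtain ⟨k, hk⟩ := hq (z : Z)
    exact ⟨k, by rw [Subgroup.mem_subgroupOf]; simpa using hk⟩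

theorem inD_of_surjective {p : ℕ} {Z Z' : Type*} [Group Z] [Group Z'] (f : Z →* Z')
    (hf : Function.Surjective f) (h : InD p Z) : InD p Z' := by
  obtain ⟨A, M, hAn, hMn, hAM, hAp, hcomm, hpow, hq⟩ := h
  refine ⟨A.map f, M.map f, hAn.map f hf, hMn.map f hf, Subgroup.map_mono hAM, hAp.map f,
    ?_, ?_, ?_⟩
  · rintro _ ⟨x, hx, rfl⟩ _ ⟨y, hy, rfl⟩
    exact ⟨x * y * x⁻¹ * y⁻¹, hcomm x hx y hy, by simp⟩
  · rintro _ ⟨x, hx, rfl⟩
    obtain ⟨n, hn, hxn⟩ := hpow x hx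
    exact ⟨n, hn, ⟨x ^ n, hxn, by simp⟩⟩
  · intro z
    obtain ⟨x, rfl⟩ := hf z
    obtain ⟨k, hk⟩ := hq x
    exact ⟨k, ⟨x ^ (p ^ k), hk, by simp⟩⟩

theorem inD_quot {p : ℕ} [Fact p.Prime] {Z : Type*} [Group Z] [Finite Z] (h : InD p Z)
    (D : Subgroup Z) [hDn : D.Normal]
    (hDmax : ∀ N : Subgroup Z, N.Normal → IsPGroup p N → N ≤ D) :
    ∃ Lb : Subgroup (Z ⧸ D), Lb.Normal ∧ (Nat.card Lb).Coprime p ∧
      (∀ x : Z ⧸ D, ∃ k : ℕ, x ^ (p ^ k) ∈ Lb) ∧ (∀ a ∈ Lb, ∀ b ∈ Lb, a * b = b * a) := by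
  classical
  have hp : p.Prime := Fact.out
  obtain ⟨A, M, hAn, hMn, hAM, hAp, hcomm, hpow, hq⟩ := h
  obtain ⟨π, hπ⟩ : ∃ π : Z →* Z ⧸ D, π = QuotientGroup.mk' D := ⟨_, rfl⟩
  have hπk : ∀ x : Z, π x = 1 ↔ x ∈ D := by
    intro x; rw [hπ]; exact QuotientGroup.eq_one_iff x
  have hπs : Function.Surjective π := by rw [hπ]; exact QuotientGroup.mk'_surjective _
  have hAD : A ≤ D := hDmax A hAn hAp
  refine ⟨M.map π, hMn.map π hπs, ?_, ?_, ?_⟩
  · rw [Nat.coprime_comm, Nat.Prime.coprime_iff_not_dvd hp]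
    intro hdvd
    obtain ⟨x, hx⟩ := exists_prime_orderOf_dvd_card' p hdvd
    obtain ⟨m, hm, hmx⟩ := Subgroup.mem_map.mp x.2
    obtain ⟨n, hn, hmn⟩ := hpow m hm
    have h1 : (x : Z ⧸ D) ^ n = 1 := by
      rw [← hmx, ← map_pow]; exact (hπk _).mpr (hAD hmn)
    have h2 : x ^ n = 1 := Subtype.ext (by rw [Subgroup.coe_pow, h1]; rfl)
    have h3 := orderOf_dvd_of_pow_eq_one h2
    rw [hx] at h3
    exact hn h3
  · intro x
    obtain ⟨z, rfl⟩ := hπs x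
    obtain ⟨k, hk⟩ := hq z
    exact ⟨k, ⟨z ^ (p ^ k), hk, by simp⟩⟩
  · rintro _ ⟨x, hx, rfl⟩ _ ⟨y, hy, rfl⟩
    have h1 : π (x * y * x⁻¹ * y⁻¹) = 1 := (hπk _).mpr (hAD (hcomm x hx y hy))
    rw [map_mul, map_mul, map_mul, map_inv, map_inv] at h1
    calc π x * π y = (π x * π y * (π x)⁻¹ * (π y)⁻¹) * (π y * π x) := by group
      _ = π y * π x := by rw [h1, one_mul]

theorem sup_sylow_eq_top {X : Type*} [Group X] [Finite X] {p : ℕ} [Fact p.Prime]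
    (L : Subgroup X) [hLn : L.Normal] (hLq : ∀ x : X, ∃ k : ℕ, x ^ (p ^ k) ∈ L)
    (T : Sylow p X) : L ⊔ (T : Subgroup X) = ⊤ := by
  have hp : p.Prime := Fact.out
  have h1 : IsPGroup p (X ⧸ L) := by
    intro g
    obtain ⟨x, rfl⟩ := QuotientGroup.mk_surjective g
    obtain ⟨k, hk⟩ := hLq x
    exact ⟨k, by rw [← QuotientGroup.mk_pow]; exact (QuotientGroup.eq_one_iff _).mpr hk⟩
  obtain ⟨j, hj⟩ := IsPGroup.iff_card.mp h1
  have h2 : L.index = p ^ j := by rw [Subgroup.index_eq_card]; exact hj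
  have h3 : (L ⊔ (T : Subgroup X)).index ∣ p ^ j := by
    rw [← h2]; exact Subgroup.index_dvd_of_le le_sup_left
  have h4 : (L ⊔ (T : Subgroup X)).index ∣ (T : Subgroup X).index :=
    Subgroup.index_dvd_of_le le_sup_right
  have h5 : ¬ p ∣ (T : Subgroup X).index := T.not_dvd_index
  obtain ⟨i, -, hi⟩ := (Nat.dvd_prime_pow hp).mp h3
  rw [← Subgroup.index_eq_one, hi]
  rcases Nat.eq_zero_or_pos i with h0 | h0
  · rw [h0, pow_zero]
  · exfalso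
    apply h5
    exact (dvd_pow_self p h0.ne').trans (hi ▸ h4)

theorem exists_noncentral2 {G : Type*} [Group G] [Finite G] {p : ℕ} [Fact p.Prime]
    (D : Subgroup G) [hDn : D.Normal]
    (Lb : Subgroup (G ⧸ D)) [hLbn : Lb.Normal]
    (hLbq : ∀ x : G ⧸ D, ∃ k : ℕ, x ^ (p ^ k) ∈ Lb)
    (hOp : ∀ Xb : Subgroup (G ⧸ D), Xb.Normal → IsPGroup p Xb → Xb = ⊥)
    (a₁ : G) (ha₁D : a₁ ∉ D) (ha₁p : a₁ ^ p ∈ D) :
    ∃ y : G, (QuotientGroup.mk' D) y ∈ Lb ∧ a₁ * y * a₁⁻¹ * y⁻¹ ∉ D := by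
  classical
  have hp : p.Prime := Fact.out
  obtain ⟨πD, hπD⟩ : ∃ πD : G →* G ⧸ D, πD = QuotientGroup.mk' D := ⟨_, rfl⟩
  have hπDk : ∀ x : G, πD x = 1 ↔ x ∈ D := by
    intro x; rw [hπD]; exact QuotientGroup.eq_one_iff x
  have hπDs : Function.Surjective πD := by rw [hπD]; exact QuotientGroup.mk'_surjective _
  rw [← hπD]
  by_contra hcon
  push Not at hcon
  obtain ⟨Eb, hEb⟩ : ∃ Eb : Subgroup (G ⧸ D), Eb = Subgroup.centralizer (Lb : Set (G ⧸ D)) :=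
    ⟨_, rfl⟩
  haveI hEbn : Eb.Normal := by rw [hEb]; infer_instance
  have ha₁E : πD a₁ ∈ Eb := by
    rw [hEb, Subgroup.mem_centralizer_iff]
    intro l hl
    obtain ⟨y, rfl⟩ := hπDs l
    have h2 := (hπDk _).mpr (hcon y hl)
    rw [map_mul, map_mul, map_mul, map_inv, map_inv] at h2
    calc πD y * πD a₁ = (πD a₁ * πD y * (πD a₁)⁻¹ * (πD y)⁻¹)⁻¹ * (πD a₁ * πD y) := by group
      _ = πD a₁ * πD y := by rw [h2, inv_one, one_mul]
  have hzp : IsPGroup p ↥(Subgroup.zpowers (πD a₁)) := by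
    rintro ⟨x, hx⟩
    obtain ⟨i, rfl⟩ := Subgroup.mem_zpowers_iff.mp hx
    refine ⟨1, ?_⟩
    apply Subtype.ext
    show (πD a₁ ^ i) ^ (p ^ 1) = 1
    have h2 : πD a₁ ^ p = 1 := by rw [← map_pow]; exact (hπDk _).mpr ha₁p
    rw [pow_one, ← zpow_natCast, ← zpow_mul, mul_comm, zpow_mul, zpow_natCast, h2, one_zpow]
  obtain ⟨Tb, hTb⟩ := hzp.exists_le_sylow
  obtain ⟨Xb, hXb⟩ : ∃ Xb : Subgroup (G ⧸ D), Xb = Eb ⊓ (Tb : Subgroup (G ⧸ D)) := ⟨_, rfl⟩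
  have hLX : Lb ≤ Subgroup.normalizer (Xb : Set (G ⧸ D)) := by
    intro l hl
    apply Cfsg.Agent.Lib.Helper6.mem_normalizer_of_conj_mem
    intro d hd
    have hdE : d ∈ Eb := by rw [hXb] at hd; exact (Subgroup.mem_inf.mp hd).1
    rw [hEb, Subgroup.mem_centralizer_iff] at hdE
    have h2 : l * d * l⁻¹ = d := by rw [hdE l hl]; group
    rw [h2]; exact hd
  have hTX : (Tb : Subgroup (G ⧸ D)) ≤ Subgroup.normalizer (Xb : Set (G ⧸ D)) := by
    intro t ht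
    apply Cfsg.Agent.Lib.Helper6.mem_normalizer_of_conj_mem
    intro d hd
    rw [hXb] at hd ⊢
    exact Subgroup.mem_inf.mpr ⟨hEbn.conj_mem d (Subgroup.mem_inf.mp hd).1 t,
      Subgroup.mul_mem _ (Subgroup.mul_mem _ ht (Subgroup.mem_inf.mp hd).2)
        (Subgroup.inv_mem _ ht)⟩
  have htop : Subgroup.normalizer (Xb : Set (G ⧸ D)) = ⊤ := by
    rw [eq_top_iff, ← sup_sylow_eq_top Lb hLbq Tb]
    exact sup_le hLX hTX
  have hXn : Xb.Normal := Subgroup.normalizer_eq_top_iff.mp htop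
  have hXp : IsPGroup p Xb := by
    rw [hXb]; exact Tb.isPGroup'.to_le inf_le_right
  have hbot := hOp Xb hXn hXp
  have h3 : πD a₁ ∈ Xb := by
    rw [hXb]
    exact Subgroup.mem_inf.mpr ⟨ha₁E, hTb (Subgroup.mem_zpowers _)⟩
  rw [hbot, Subgroup.mem_bot] at h3
  exact ha₁D ((hπDk _).mp h3)

theorem step_lt2 {G : Type*} [Group G] [Finite G] {p : ℕ} [Fact p.Prime] (H U : Subgroup G)
    [hHn : H.Normal] [hUn : U.Normal] (hUpg : IsPGroup p U) (hUH : U ≤ H)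
    (hHU : ∀ h ∈ H, ∃ k : ℕ, h ^ (p ^ k) ∈ Subgroup.centralizer (U : Set G)) (hne : U ≠ ⊥) :
    ∃ W : Subgroup G, W.Normal ∧ W < U ∧ ⁅U, H⁆ ≤ W ∧ ∀ u ∈ U, u ^ p ∈ W := by
  classical
  have hp : p.Prime := Fact.out
  obtain ⟨K, hK⟩ : ∃ K : Subgroup G, K = ⁅U, H⁆ := ⟨_, rfl⟩
  haveI hKn : K.Normal := by rw [hK]; infer_instance
  have hKU : K ≤ U := by rw [hK]; exact Subgroup.commutator_le_left U H
  have hKne : K ≠ U := by
    rw [hK]
    exact commutator_ne_self_of_pgroup_action U H hUpg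
      (by rw [Subgroup.normalizer_eq_top_iff.mpr hUn]; exact le_top) hHU hne
  obtain ⟨π, hπ⟩ : ∃ π : G →* G ⧸ K, π = QuotientGroup.mk' K := ⟨_, rfl⟩
  have hπk : ∀ x : G, π x = 1 ↔ x ∈ K := by
    intro x; rw [hπ]; exact QuotientGroup.eq_one_iff x
  have hcomm : ∀ u ∈ U, ∀ v ∈ U, π u * π v = π v * π u := by
    intro u hu v hv
    have h1 : ⁅u, v⁆ ∈ K := by rw [hK]; exact Subgroup.commutator_mem_commutator hu (hUH hv)
    have h2 : π ⁅u, v⁆ = 1 := (hπk _).mpr h1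
    rw [commutatorElement_def, map_mul, map_mul, map_mul, map_inv, map_inv] at h2
    calc π u * π v = (π u * π v * (π u)⁻¹ * (π v)⁻¹) * (π v * π u) := by group
      _ = π v * π u := by rw [h2, one_mul]
  let Pw : Subgroup (G ⧸ K) :=
    { carrier := {x | ∃ u ∈ U, x = π u ^ p}
      one_mem' := ⟨1, U.one_mem, by simp⟩
      mul_mem' := by
        rintro _ _ ⟨u, hu, rfl⟩ ⟨v, hv, rfl⟩
        refine ⟨u * v, U.mul_mem hu hv, ?_⟩
        rw [map_mul, (show Commute (π u) (π v) from hcomm u hu v hv).mul_pow]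
      inv_mem' := by
        rintro _ ⟨u, hu, rfl⟩
        exact ⟨u⁻¹, U.inv_mem hu, by rw [map_inv, inv_pow]⟩ }
  have hPwmem : ∀ x, x ∈ Pw ↔ ∃ u ∈ U, x = π u ^ p := fun x => Iff.rfl
  have hPwn : Pw.Normal := by
    constructor
    intro x hx g
    obtain ⟨u, hu, rfl⟩ := (hPwmem x).mp hx
    obtain ⟨g', rfl⟩ : ∃ g', π g' = g := by rw [hπ]; exact QuotientGroup.mk'_surjective K g
    rw [hPwmem]
    refine ⟨g' * u * g'⁻¹, hUn.conj_mem u hu g', ?_⟩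
    rw [map_mul, map_mul, map_inv, conj_pow]
  have hle : Pw.comap π ≤ U := by
    intro x hx
    rw [Subgroup.mem_comap, hPwmem] at hx
    obtain ⟨u, hu, hxu⟩ := hx
    have h1 : π ((u ^ p)⁻¹ * x) = 1 := by rw [map_mul, map_inv, map_pow, hxu]; group
    have h2 : (u ^ p)⁻¹ * x ∈ U := hKU ((hπk _).mp h1)
    have h3 : x = u ^ p * ((u ^ p)⁻¹ * x) := by group
    rw [h3]; exact U.mul_mem (U.pow_mem hu p) h2
  refine ⟨Pw.comap π, hPwn.comap π, lt_of_le_of_ne hle ?_, ?_, ?_⟩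
  · intro heq
    obtain ⟨Ub, hUb⟩ : ∃ Ub : Subgroup (G ⧸ K), Ub = U.map π := ⟨_, rfl⟩
    have hUbp : IsPGroup p Ub := by rw [hUb]; exact hUpg.map π
    have hUbne : Ub ≠ ⊥ := by
      intro h
      apply hKne
      apply le_antisymm hKU
      intro u hu
      have : π u ∈ Ub := by rw [hUb]; exact ⟨u, hu, rfl⟩
      rw [h, Subgroup.mem_bot] at this
      exact (hπk u).mp this
    have hdvd : p ∣ Nat.card Ub := by
      obtain ⟨n, hn⟩ := IsPGroup.iff_card.mp hUbp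
      rcases Nat.eq_zero_or_pos n with h0 | h0
      · exfalso; apply hUbne; rw [h0, pow_zero] at hn; exact Subgroup.card_eq_one.mp hn
      · rw [hn]; exact dvd_pow_self p h0.ne'
    obtain ⟨x, hx⟩ := exists_prime_orderOf_dvd_card' p hdvd
    have hsurj : Function.Surjective (fun v : ↥Ub => v ^ p) := by
      rintro ⟨v, hv⟩
      rw [hUb] at hv
      obtain ⟨u, hu, rfl⟩ := hv
      have h1 : u ∈ Pw.comap π := by rw [heq]; exact hu
      rw [Subgroup.mem_comap, hPwmem] at h1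
      obtain ⟨u', hu', h2⟩ := h1
      refine ⟨⟨π u', by rw [hUb]; exact ⟨u', hu', rfl⟩⟩, ?_⟩
      apply Subtype.ext
      show (π u') ^ p = π u
      exact h2.symm
    have hinj := Finite.injective_iff_surjective.mpr hsurj
    have h1 : x ^ p = (1 : ↥Ub) ^ p := by
      rw [one_pow, ← hx]; exact pow_orderOf_eq_one x
    have h2 : x = 1 := hinj h1
    rw [h2, orderOf_one] at hx
    exact hp.one_lt.ne hx
  · intro x hx
    rw [Subgroup.mem_comap, hPwmem]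
    refine ⟨1, U.one_mem, ?_⟩
    rw [map_one, one_pow]
    exact (hπk x).mpr (by rw [hK]; exact hx)
  · intro u hu
    rw [Subgroup.mem_comap, hPwmem]
    exact ⟨u, hu, map_pow π u p⟩

theorem pstable_inD {G : Type*} [Group G] [Finite G] {p : ℕ} [Fact p.Prime] (hp2 : p ≠ 2)
    (hInD : InD p G) (B : Subgroup G) [hBn : B.Normal] (hB : IsPGroup p B) :
    Cfsg.IsPStableOn p B := by
  classical
  have hp : p.Prime := Fact.out
  intro a hq
  obtain ⟨πC, hπC⟩ : ∃ πC : G →* G ⧸ Subgroup.centralizer (B : Set G),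
      πC = QuotientGroup.mk' _ := ⟨_, rfl⟩
  have hπCs : Function.Surjective πC := by rw [hπC]; exact QuotientGroup.mk'_surjective _
  have hπCk : πC.ker = Subgroup.centralizer (B : Set G) := by
    rw [hπC]; exact QuotientGroup.ker_mk' _
  obtain ⟨D, hD⟩ : ∃ D : Subgroup G,
      D = (Cfsg.pCore p (G ⧸ Subgroup.centralizer (B : Set G))).comap πC := ⟨_, rfl⟩
  haveI hDn : D.Normal := by rw [hD]; exact (Cfsg.pCore_normal p _).comap πC
  suffices haD : a ∈ D by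
    rw [hD] at haD
    have := Subgroup.mem_comap.mp haD
    rw [hπC] at this
    exact this
  have hDmax : ∀ N : Subgroup G, N.Normal → IsPGroup p N → N ≤ D := by
    intro N hN hNp x hx
    rw [hD, Subgroup.mem_comap]
    have h1 : N.map πC ≤ Cfsg.pCore p (G ⧸ Subgroup.centralizer (B : Set G)) :=
      Cfsg.Agent.Lib.Helper4.le_pCore (hN.map πC hπCs) (hNp.map πC)
    exact h1 ⟨x, hx, rfl⟩
  have hCD : Subgroup.centralizer (B : Set G) ≤ D := by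
    intro c hc
    rw [hD, Subgroup.mem_comap]
    have : πC c = 1 := by
      have h1 : c ∈ πC.ker := by rw [hπCk]; exact hc
      exact h1
    rw [this]; exact Subgroup.one_mem _
  have hDel : ∀ d ∈ D, ∃ k : ℕ, d ^ (p ^ k) ∈ Subgroup.centralizer (B : Set G) := by
    intro d hd
    have h1 : πC d ∈ Cfsg.pCore p (G ⧸ Subgroup.centralizer (B : Set G)) := by
      rw [hD] at hd; exact hd
    obtain ⟨k, hk⟩ := (Cfsg.Agent.Lib.Helper4.pCore_isPGroup p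
      (G ⧸ Subgroup.centralizer (B : Set G))) ⟨πC d, h1⟩
    have h2 : (πC d) ^ (p ^ k) = 1 := pow_eq_one_of_subtype h1 hk
    rw [← map_pow] at h2
    have h3 : d ^ (p ^ k) ∈ πC.ker := h2
    rw [hπCk] at h3
    exact ⟨k, h3⟩
  obtain ⟨πD, hπD⟩ : ∃ πD : G →* G ⧸ D, πD = QuotientGroup.mk' D := ⟨_, rfl⟩
  have hπDk : ∀ x : G, πD x = 1 ↔ x ∈ D := by
    intro x; rw [hπD]; exact QuotientGroup.eq_one_iff x
  have hπDs : Function.Surjective πD := by rw [hπD]; exact QuotientGroup.mk'_surjective _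
  have hOp : ∀ Xb : Subgroup (G ⧸ D), Xb.Normal → IsPGroup p Xb → Xb = ⊥ := by
    intro Xb hXn hXp
    have h1 : IsPGroup p ↥((Xb.comap πD).map πC) := by
      rintro ⟨x, hx⟩
      obtain ⟨x', hx'', rfl⟩ := hx
      have hx' : πD x' ∈ Xb := hx''
      obtain ⟨k, hk⟩ := hXp ⟨πD x', hx'⟩
      have h2 : (πD x') ^ (p ^ k) = 1 := pow_eq_one_of_subtype hx' hk
      rw [← map_pow, hπDk] at h2
      obtain ⟨k2, hk2⟩ := hDel _ h2
      refine ⟨k + k2, ?_⟩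
      apply Subtype.ext
      show (πC x') ^ (p ^ (k + k2)) = 1
      rw [← map_pow, pow_add, pow_mul]
      have h3 : (x' ^ p ^ k) ^ p ^ k2 ∈ πC.ker := by rw [hπCk]; exact hk2
      exact h3
    have h2 : (Xb.comap πD).map πC ≤ Cfsg.pCore p (G ⧸ Subgroup.centralizer (B : Set G)) :=
      Cfsg.Agent.Lib.Helper4.le_pCore ((hXn.comap πD).map πC hπCs) h1
    rw [eq_bot_iff]
    intro x hx
    obtain ⟨x', rfl⟩ := hπDs x
    rw [Subgroup.mem_bot, hπDk, hD, Subgroup.mem_comap]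
    exact h2 ⟨x', hx, rfl⟩
  by_contra haD
  obtain ⟨nB, hnB⟩ := IsPGroup.iff_card.mp hB
  have hBpow : ∀ b ∈ B, b ^ (p ^ nB) = 1 := by
    intro b hb
    have := pow_card_eq_one' (G := B) (x := ⟨b, hb⟩)
    rw [hnB] at this
    exact pow_eq_one_of_subtype hb this
  have h1 := quad_pow_mem_centralizer B a hq (p ^ nB) hBpow
  have hex : ∃ k : ℕ, a ^ (p ^ k) ∈ D := ⟨nB, hCD h1⟩
  obtain ⟨k₀, hk₀, hmin⟩ : ∃ k₀ : ℕ, a ^ (p ^ k₀) ∈ D ∧ ∀ j < k₀, a ^ (p ^ j) ∉ D :=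
    ⟨Nat.find hex, Nat.find_spec hex, fun j hj => Nat.find_min hex hj⟩
  have hk₀pos : k₀ ≠ 0 := by
    intro h0
    rw [h0, pow_zero, pow_one] at hk₀
    exact haD hk₀
  obtain ⟨a₁, ha₁⟩ : ∃ a₁, a₁ = a ^ (p ^ (k₀ - 1)) := ⟨_, rfl⟩
  have ha₁D : a₁ ∉ D := by rw [ha₁]; exact hmin (k₀ - 1) (by omega)
  have ha₁p : a₁ ^ p ∈ D := by
    rw [ha₁, ← pow_mul, ← pow_succ]
    have : k₀ - 1 + 1 = k₀ := by omega
    rw [this]; exact hk₀
  have hz₁ : Subgroup.zpowers a₁ ≤ Subgroup.zpowers a := by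
    rw [Subgroup.zpowers_le, ha₁]
    exact Subgroup.pow_mem _ (Subgroup.mem_zpowers a) _
  have hq₁ : ∀ U : Subgroup G, U ≤ B →
      ⁅⁅U, Subgroup.zpowers a₁⁆, Subgroup.zpowers a₁⁆ = ⊥ := by
    intro U hUB
    rw [eq_bot_iff, ← hq]
    exact Subgroup.commutator_mono (Subgroup.commutator_mono hUB hz₁) hz₁
  obtain ⟨Lb, hLbn, hLbc, hLbq, hLab⟩ := inD_quot hInD D hDmax
  haveI := hLbn
  have hF0 : ∀ y ∈ Lb, (∃ k : ℕ, y ^ (p ^ k) = 1) → y = 1 := by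
    intro y hy ⟨k, hk⟩
    have h2 : orderOf (⟨y, hy⟩ : ↥Lb) ∣ Nat.card ↥Lb := orderOf_dvd_natCard _
    have h3 : orderOf (⟨y, hy⟩ : ↥Lb) ∣ p ^ k := by
      apply orderOf_dvd_of_pow_eq_one
      apply Subtype.ext
      rw [Subgroup.coe_pow]; exact hk
    have h4 : (Nat.card ↥Lb).Coprime (p ^ k) := Nat.Coprime.pow_right k hLbc
    have h5 := orderOf_eq_one_iff.mp (Nat.eq_one_of_dvd_coprimes h4 h2 h3)
    exact congrArg Subtype.val h5
  obtain ⟨y, hy, hzD⟩ := exists_noncentral2 D Lb hLbq hOp a₁ ha₁D ha₁p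
  have hBD : B ≤ D := hDmax B hBn hB
  obtain ⟨e, he⟩ := chain_cent B hBn hB (a₁ * y * a₁⁻¹ * y⁻¹) (by
    intro U hUn hUB hU
    haveI := hUn
    have hUD : U ≤ D := hUB.trans hBD
    obtain ⟨W, hWn, hWU, hUDW, hUp⟩ := step_lt2 D U (hB.to_le hUB) hUD (by
      intro d hd
      obtain ⟨k, hk⟩ := hDel d hd
      exact ⟨k, Subgroup.centralizer_le hUB hk⟩) hU
    refine ⟨W, hWn, hWU, fun u hu => ?_⟩
    haveI := hWn
    exact sec_act hp2 D Lb hLbc hLab a₁ ha₁p U W hUD hUDW hUp (hq₁ U hUB) y hy u hu)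
  have hzD' : (a₁ * y * a₁⁻¹ * y⁻¹) ^ (p ^ e) ∈ D := hCD he
  rw [← hπD] at hy
  have hzL : πD (a₁ * y * a₁⁻¹ * y⁻¹) ∈ Lb := by
    rw [map_mul, map_mul, map_mul, map_inv, map_inv]
    exact Lb.mul_mem (hLbn.conj_mem _ hy _) (Lb.inv_mem hy)
  have h5 : πD (a₁ * y * a₁⁻¹ * y⁻¹) = 1 :=
    hF0 _ hzL ⟨e, by rw [← map_pow]; exact (hπDk _).mpr hzD'⟩
  exact hzD ((hπDk _).mp h5)

theorem pCore_quot_congr {N : Type*} [Group N] {p : ℕ} (C₁ C₂ : Subgroup N) [h₁ : C₁.Normal]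
    [h₂ : C₂.Normal] (h : C₁ = C₂) (a : N)
    (ha : (QuotientGroup.mk a : N ⧸ C₁) ∈ Cfsg.pCore p (N ⧸ C₁)) :
    (QuotientGroup.mk a : N ⧸ C₂) ∈ Cfsg.pCore p (N ⧸ C₂) := by
  subst h
  exact ha

theorem normalizerPStable_of_inD {Z : Type*} [Group Z] [Finite Z] {p : ℕ} [Fact p.Prime]
    (hp2 : p ≠ 2) (hInD : InD p Z) : Cfsg.IsNormalizerPStable p Z := by
  intro P hP g hg hq
  obtain ⟨N, hN⟩ : ∃ N : Subgroup Z, N = Subgroup.normalizer (P : Set Z) := ⟨_, rfl⟩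
  have hPN : P ≤ Subgroup.normalizer (P : Set Z) := Subgroup.le_normalizer
  haveI hBn : (P.subgroupOf (Subgroup.normalizer (P : Set Z))).Normal :=
    Subgroup.normal_in_normalizer
  have hBp : IsPGroup p ↥(P.subgroupOf (Subgroup.normalizer (P : Set Z))) := hP.comap_subtype
  have hquad : ⁅⁅P.subgroupOf (Subgroup.normalizer (P : Set Z)),
      Subgroup.zpowers (⟨g, hg⟩ : ↥(Subgroup.normalizer (P : Set Z)))⁆,
      Subgroup.zpowers (⟨g, hg⟩ : ↥(Subgroup.normalizer (P : Set Z)))⁆ = ⊥ := by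
    apply (Subgroup.map_eq_bot_iff_of_injective _
      (Subgroup.subtype_injective (Subgroup.normalizer (P : Set Z)))).mp
    rw [Subgroup.map_commutator, Subgroup.map_commutator, Subgroup.map_subgroupOf_eq_of_le hPN,
      MonoidHom.map_zpowers]
    exact hq
  have key := pstable_inD hp2 (inD_subgroup hInD (Subgroup.normalizer (P : Set Z)))
    (P.subgroupOf (Subgroup.normalizer (P : Set Z))) hBp ⟨g, hg⟩ hquad
  refine pCore_quot_congr _ _ ?_ _ key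
  ext x
  rw [Subgroup.mem_subgroupOf, Subgroup.mem_centralizer_iff, Subgroup.mem_centralizer_iff]
  constructor
  · intro h b hb
    have := h ⟨b, hPN hb⟩ (by
      show (⟨b, hPN hb⟩ : ↥(Subgroup.normalizer (P : Set Z))) ∈
        P.subgroupOf (Subgroup.normalizer (P : Set Z))
      rw [Subgroup.mem_subgroupOf]; exact hb)
    exact congrArg Subtype.val this
  · intro h b hb
    have hb' : (b : Z) ∈ P := by
      have : b ∈ P.subgroupOf (Subgroup.normalizer (P : Set Z)) := hb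
      rwa [Subgroup.mem_subgroupOf] at this
    exact Subtype.ext (h (b : Z) hb')

theorem inD_of_min {Y : Type*} [Group Y] [Finite Y] {p : ℕ} [Fact p.Prime]
    (hbar : Cfsg.HasNormalPComplement p (Y ⧸ Cfsg.pCore p Y))
    (T : Sylow p Y) (hT : IsCoatom (T : Subgroup Y)) : InD p Y := by
  classical
  have hp : p.Prime := Fact.out
  obtain ⟨Lb, hLbn, hLbc, hLbq, hLab, -, -⟩ := min_struct (Cfsg.pCore p Y) T hT hbar
  obtain ⟨π, hπ⟩ : ∃ π : Y →* Y ⧸ Cfsg.pCore p Y, π = QuotientGroup.mk' _ := ⟨_, rfl⟩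
  have hπk : ∀ x : Y, π x = 1 ↔ x ∈ Cfsg.pCore p Y := by
    intro x; rw [hπ]; exact QuotientGroup.eq_one_iff x
  refine ⟨Cfsg.pCore p Y, Lb.comap π, Cfsg.pCore_normal p Y, hLbn.comap π, ?_,
    Cfsg.Agent.Lib.Helper4.pCore_isPGroup p Y, ?_, ?_, ?_⟩
  · intro x hx
    rw [Subgroup.mem_comap, (hπk x).mpr hx]; exact Lb.one_mem
  · intro x hx y hy
    rw [Subgroup.mem_comap] at hx hy
    rw [← hπk, map_mul, map_mul, map_mul, map_inv, map_inv, hLab _ hx _ hy]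
    group
  · intro x hx
    rw [Subgroup.mem_comap] at hx
    refine ⟨Nat.card ↥Lb, ?_, ?_⟩
    · exact (Nat.Prime.coprime_iff_not_dvd hp).mp hLbc.symm
    · rw [← hπk, map_pow]
      have := pow_card_eq_one' (G := ↥Lb) (x := ⟨π x, hx⟩)
      exact pow_eq_one_of_subtype hx this
  · intro z
    obtain ⟨k, hk⟩ := hLbq (π z)
    exact ⟨k, by rw [Subgroup.mem_comap, map_pow]; exact hk⟩

theorem normal_of_controls {Y : Type*} [Group Y] [Finite Y] {p : ℕ} [Fact p.Prime]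
    (hc : Subgroup.centralizer (Cfsg.pCore p Y : Set Y) ≤ Cfsg.pCore p Y)
    (U : Subgroup Y) (hUn : Cfsg.pCore p Y ≤ Subgroup.normalizer (U : Set Y))
    (h : Cfsg.ControlsStrongFusion p U) : U.Normal := by
  obtain ⟨T₂, -, hctl⟩ := h
  obtain ⟨-, h1⟩ := hctl (Cfsg.pCore p Y : Set Y) (Cfsg.Agent.Lib.Helper4.pCore_le_sylow T₂)
  apply Subgroup.normalizer_eq_top_iff.mp
  rw [eq_top_iff]
  intro g _
  obtain ⟨x, hx, hxa⟩ := h1 g (by
    rintro _ ⟨a, ha, rfl⟩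
    exact Cfsg.Agent.Lib.Helper4.pCore_le_sylow T₂ ((Cfsg.pCore_normal p Y).conj_mem a ha g))
  have h2 : x⁻¹ * g ∈ Subgroup.centralizer (Cfsg.pCore p Y : Set Y) := by
    rw [Subgroup.mem_centralizer_iff]
    intro a ha
    have h3 := hxa a ha
    calc a * (x⁻¹ * g) = x⁻¹ * (x * a * x⁻¹) * g := by group
      _ = x⁻¹ * (g * a * g⁻¹) * g := by rw [h3]
      _ = x⁻¹ * g * a := by group
  have h4 : g = x * (x⁻¹ * g) := by group
  rw [h4]
  exact Subgroup.mul_mem _ hx (hUn (hc h2))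

end Cfsg.Agent.Lib.Helper1
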