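import Mathlib
import Cfsg.Prelude
import Cfsg.Agent.Lib.Helper1.PU1
import Cfsg.Agent.Lib.Helper1.OS4
import Cfsg.Agent.Lib.Helper1.ZJ2
import Cfsg.Agent.Lib.Lead.PCore
import Cfsg.Agent.Lib.Lead.PCore2
import Cfsg.Agent.Lib.Helper7.SylowCount
import Cfsg.Agent.S1465

set_option autoImplicit false

namespace Cfsg.Agent.Lib.Helper1

universe u

theorem pu_self_centralizing {G : Type*} [Group G] [Finite G] {p : ℕ} [Fact p.Prime]
    (H : Subgroup G) (hH : IsPGroup p H)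
    (N : Subgroup G) (hNH : N ≤ H) (hHN : H ≤ Subgroup.normalizer (N : Set G))
    (hL2 : puRelStep H H ≤ N) : H ⊓ Subgroup.centralizer (N : Set G) ≤ N := by
  classical
  by_contra hcon
  haveI hNn : (N.subgroupOf H).Normal :=
    (Subgroup.normal_subgroupOf_iff_le_normalizer hNH).mpr hHN
  haveI : Group.IsNilpotent (↥H ⧸ N.subgroupOf H) :=
    (hH.to_quotient (N.subgroupOf H)).isNilpotent
  have hconjN : ∀ h ∈ H, ∀ n ∈ N, h * n * h⁻¹ ∈ N :=
    fun h hh n hn => ((Subgroup.mem_normalizer_iff.mp (hHN hh)) n).mp hn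
  have hconjC : ∀ h ∈ H, ∀ c ∈ Subgroup.centralizer (N : Set G),
      h * c * h⁻¹ ∈ Subgroup.centralizer (N : Set G) := by
    intro h hh c hc
    rw [Subgroup.mem_centralizer_iff] at hc ⊢
    intro n hn
    have hn' : h⁻¹ * n * h ∈ N := by
      have := hconjN h⁻¹ (H.inv_mem hh) n hn
      rwa [inv_inv] at this
    have h1 := hc _ hn'
    calc n * (h * c * h⁻¹) = h * (h⁻¹ * n * h * c) * h⁻¹ := by group
      _ = h * (c * (h⁻¹ * n * h)) * h⁻¹ := by rw [h1]
      _ = h * c * h⁻¹ * n := by group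
  have hCn : ((H ⊓ Subgroup.centralizer (N : Set G)).subgroupOf H).Normal := by
    constructor
    intro c hc h
    rw [Subgroup.mem_subgroupOf] at hc ⊢
    exact Subgroup.mem_inf.mpr ⟨(h * c * h⁻¹).2, hconjC h h.2 c (Subgroup.mem_inf.mp hc).2⟩
  have hsurj := QuotientGroup.mk'_surjective (N.subgroupOf H)
  haveI hKn : (((H ⊓ Subgroup.centralizer (N : Set G)).subgroupOf H).map
      (QuotientGroup.mk' (N.subgroupOf H))).Normal := hCn.map _ hsurj
  have hK1 : ((H ⊓ Subgroup.centralizer (N : Set G)).subgroupOf H).map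
      (QuotientGroup.mk' (N.subgroupOf H)) ≠ ⊥ := by
    obtain ⟨x, hxC, hxN⟩ := SetLike.not_le_iff_exists.mp hcon
    intro hbot
    have hmem : QuotientGroup.mk' (N.subgroupOf H) ⟨x, (Subgroup.mem_inf.mp hxC).1⟩ ∈
        ((H ⊓ Subgroup.centralizer (N : Set G)).subgroupOf H).map
          (QuotientGroup.mk' (N.subgroupOf H)) := Subgroup.mem_map_of_mem _ hxC
    rw [hbot, Subgroup.mem_bot] at hmem
    have h' : (⟨x, (Subgroup.mem_inf.mp hxC).1⟩ : ↥H) ∈ N.subgroupOf H :=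
      (QuotientGroup.eq_one_iff (⟨x, (Subgroup.mem_inf.mp hxC).1⟩ : ↥H)).mp hmem
    exact hxN h'
  have hne := Cfsg.Agent.Lib.Lead.normal_inf_center_ne_bot _ hK1
  obtain ⟨⟨z, hz⟩, hz1⟩ := Subgroup.ne_bot_iff_exists_ne_one.mp hne
  obtain ⟨hzK, hzc⟩ := Subgroup.mem_inf.mp hz
  obtain ⟨y, hyC, rfl⟩ := hzK
  have hxH : (y : G) ∈ H := y.2
  have hxC : (y : G) ∈ Subgroup.centralizer (N : Set G) :=
    (Subgroup.mem_inf.mp (Subgroup.mem_subgroupOf.mp hyC)).2
  have hxN : (y : G) ∉ N := by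
    intro h
    apply hz1
    apply Subtype.ext
    exact (QuotientGroup.eq_one_iff _).mpr h
  have hcentral : ∀ h ∈ H, (h * (y : G))⁻¹ * ((y : G) * h) ∈ N := by
    intro h hh
    have h1 := Subgroup.mem_center_iff.mp hzc (QuotientGroup.mk' (N.subgroupOf H) ⟨h, hh⟩)
    rw [← map_mul, ← map_mul] at h1
    have h2 : ((⟨h, hh⟩ : ↥H) * y)⁻¹ * (y * ⟨h, hh⟩) ∈ N.subgroupOf H := by
      rw [← QuotientGroup.eq]; exact h1
    exact h2
  obtain ⟨x, hx⟩ : ∃ x : G, x = (y : G) := ⟨_, rfl⟩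
  rw [← hx] at hxH hxC hxN hcentral
  obtain ⟨A, hA⟩ : ∃ A : Subgroup G, A = Subgroup.closure
      (((N ⊓ Subgroup.centralizer (N : Set G) : Subgroup G) : Set G) ∪ {x}) := ⟨_, rfl⟩
  have hcomm : ∀ a ∈ (((N ⊓ Subgroup.centralizer (N : Set G) : Subgroup G) : Set G) ∪ {x}),
      ∀ b ∈ (((N ⊓ Subgroup.centralizer (N : Set G) : Subgroup G) : Set G) ∪ {x}),
      a * b = b * a := by
    rintro a (ha | ha) b (hb | hb)
    · exact Subgroup.mem_centralizer_iff.mp (Subgroup.mem_inf.mp hb).2 a (Subgroup.mem_inf.mp ha).1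
    · rw [Set.mem_singleton_iff.mp hb]
      exact Subgroup.mem_centralizer_iff.mp hxC a (Subgroup.mem_inf.mp ha).1
    · rw [Set.mem_singleton_iff.mp ha]
      exact (Subgroup.mem_centralizer_iff.mp hxC b (Subgroup.mem_inf.mp hb).1).symm
    · rw [Set.mem_singleton_iff.mp ha, Set.mem_singleton_iff.mp hb]
  have hAc : IsMulCommutative A := by rw [hA]; exact pu_closure_comm _ hcomm
  have hAH : A ≤ H := by
    rw [hA, Subgroup.closure_le]
    rintro a (ha | ha)
    · exact hNH (Subgroup.mem_inf.mp ha).1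
    · rw [Set.mem_singleton_iff.mp ha]; exact hxH
  have hxA : x ∈ A := by rw [hA]; exact Subgroup.subset_closure (Or.inr rfl)
  have hZA : N ⊓ Subgroup.centralizer (N : Set G) ≤ A := by
    rw [hA]; exact fun a ha => Subgroup.subset_closure (Or.inl ha)
  have hHA : H ≤ Subgroup.normalizer (A : Set G) := by
    intro h hh
    apply Cfsg.Agent.Lib.Helper6.mem_normalizer_of_conj_mem
    have hmap : A.map (MulAut.conj h).toMonoidHom ≤ A := by
      rw [hA, MonoidHom.map_closure, Subgroup.closure_le]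
      rintro _ ⟨a, ha, rfl⟩
      show h * a * h⁻¹ ∈ Subgroup.closure _
      rw [← hA]
      rcases ha with ha | ha
      · exact hZA (Subgroup.mem_inf.mpr ⟨hconjN h hh a (Subgroup.mem_inf.mp ha).1,
          hconjC h hh a (Subgroup.mem_inf.mp ha).2⟩)
      · rw [Set.mem_singleton_iff.mp ha]
        have h1 : h * x * h⁻¹ * x⁻¹ ∈ N := by
          have h2 := hcentral h⁻¹ (H.inv_mem hh)
          have h3 := hconjN x hxH _ h2
          have e : x * ((h⁻¹ * x)⁻¹ * (x * h⁻¹)) * x⁻¹ = h * x * h⁻¹ * x⁻¹ := by group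
          rwa [e] at h3
        have h4 : h * x * h⁻¹ * x⁻¹ ∈ Subgroup.centralizer (N : Set G) :=
          Subgroup.mul_mem _ (hconjC h hh x hxC) (Subgroup.inv_mem _ hxC)
        have e : h * x * h⁻¹ = (h * x * h⁻¹ * x⁻¹) * x := by group
        rw [e]
        exact A.mul_mem (hZA (Subgroup.mem_inf.mpr ⟨h1, h4⟩)) hxA
    intro d hd
    exact hmap ⟨d, hd, rfl⟩
  have hAL : A ≤ puRelStep H H := le_sSup ⟨hAH, hAc, hHA⟩
  exact hxN (hL2 (hAL hxA))

theorem pu_center_map {G : Type*} [Group G] (S : Subgroup G) (L : Subgroup ↥S) :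
    ((Subgroup.center ↥L).map L.subtype).map S.subtype =
      L.map S.subtype ⊓ Subgroup.centralizer ((L.map S.subtype : Subgroup G) : Set G) := by
  ext x
  constructor
  · rintro ⟨_, ⟨z, hz, rfl⟩, rfl⟩
    refine Subgroup.mem_inf.mpr ⟨⟨(z : ↥S), z.2, rfl⟩, ?_⟩
    rw [Subgroup.mem_centralizer_iff]
    rintro _ ⟨l, hl, rfl⟩
    have := Subgroup.mem_center_iff.mp hz ⟨l, hl⟩
    exact congrArg (fun t : ↥L => ((t : ↥S) : G)) this
  · intro hx
    obtain ⟨hx1, hc⟩ := Subgroup.mem_inf.mp hx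
    obtain ⟨l, hl, rfl⟩ := hx1
    refine ⟨l, ⟨⟨l, hl⟩, ?_, rfl⟩, rfl⟩
    show (⟨l, hl⟩ : ↥L) ∈ Subgroup.center ↥L
    rw [Subgroup.mem_center_iff]
    intro g
    apply Subtype.ext; apply Subtype.ext
    exact Subgroup.mem_centralizer_iff.mp hc _ ⟨(g : ↥S), g.2, rfl⟩

theorem pu_sylow_core {G : Type u} [Group G] [Finite G] [Group.IsSolvable G]
    (hodd : Odd (Nat.card G)) (p : ℕ) [Fact p.Prime] (hp : p ≠ 2)
    (hO : Cfsg.pPrimeCore p G = ⊥) (S : Sylow p G) :
    ∀ n, puRelSeq (S : Subgroup G) (2 * n) ≤ puRelSeq (Cfsg.pCore p G) (2 * n) ∧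
      puRelSeq (Cfsg.pCore p G) (2 * n + 1) ≤ puRelSeq (S : Subgroup G) (2 * n + 1) := by
  classical
  have hTn : (Cfsg.pCore p G).Normal := Cfsg.pCore_normal p G
  have hTp : IsPGroup p ↥(Cfsg.pCore p G) := Cfsg.Agent.Lib.Helper4.pCore_isPGroup p G
  have hTS : Cfsg.pCore p G ≤ (S : Subgroup G) := Cfsg.Agent.Lib.Lead.pCore_le_sylow' S
  have hTtop : Subgroup.normalizer ((Cfsg.pCore p G : Subgroup G) : Set G) = ⊤ :=
    Subgroup.normalizer_eq_top_iff.mpr hTn
  intro n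
  induction n with
  | zero =>
    refine ⟨le_rfl, ?_⟩
    rw [show 2 * 0 + 1 = 1 from rfl, puRelSeq_one, puRelSeq_one]; exact hTS
  | succ n ih =>
    obtain ⟨P, hP⟩ : ∃ P : Subgroup G, P = puRelSeq (Cfsg.pCore p G) (2 * n + 1) := ⟨_, rfl⟩
    have hPT : P ≤ Cfsg.pCore p G := by rw [hP]; exact puRelSeq_le _ _
    haveI hPn : P.Normal := by
      rw [← Subgroup.normalizer_eq_top_iff, eq_top_iff, ← hTtop, hP]
      exact puRelSeq_normalizer _ _
    have hPp : IsPGroup p ↥P := hTp.to_le hPT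
    have hself : Cfsg.pCore p G ⊓ Subgroup.centralizer (P : Set G) ≤ P := by
      apply pu_self_centralizing (Cfsg.pCore p G) hTp P hPT
        (by rw [Subgroup.normalizer_eq_top_iff.mpr hPn]; exact le_top)
      have h2 : puRelStep (Cfsg.pCore p G) (Cfsg.pCore p G)
          = puRelSeq (Cfsg.pCore p G) (2 * 1) := by
        show _ = puRelStep (Cfsg.pCore p G) (puRelSeq (Cfsg.pCore p G) 1)
        rw [puRelSeq_one]
      rw [h2, hP]
      exact puRelSeq_even_le_odd _ 1 n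
    have hPS : P ≤ puRelSeq (S : Subgroup G) (2 * n + 1) := by rw [hP]; exact ih.2
    have e1 : puRelSeq (S : Subgroup G) (2 * (n + 1)) ≤
        puRelSeq (Cfsg.pCore p G) (2 * (n + 1)) := by
      show puRelStep (S : Subgroup G) (puRelSeq (S : Subgroup G) (2 * n + 1)) ≤
        puRelStep (Cfsg.pCore p G) (puRelSeq (Cfsg.pCore p G) (2 * n + 1))
      rw [← hP]
      refine (puRelStep_anti (S : Subgroup G) hPS).trans ?_
      have hres := (Cfsg.Agent.S1465.result hodd p hp P hPp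
        {B : Subgroup G | B ≤ (S : Subgroup G) ∧ IsMulCommutative B ∧
          P ≤ Subgroup.normalizer (B : Set G)}
        (fun B hB => ⟨hB.2.1, S.isPGroup'.to_le hB.1, hB.2.2⟩)).2 hO hself
      apply sSup_le
      rintro B hB
      exact le_sSup ⟨(le_sSup hB).trans hres, hB.2.1, hB.2.2⟩
    refine ⟨e1, ?_⟩
    show puRelStep (Cfsg.pCore p G) (puRelSeq (Cfsg.pCore p G) (2 * (n + 1))) ≤
      puRelStep (S : Subgroup G) (puRelSeq (S : Subgroup G) (2 * (n + 1)))
    exact (puRelStep_mono hTS _).trans (puRelStep_anti (S : Subgroup G) e1)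

theorem pu_center_normal {G : Type u} [Group G] [Finite G] [Group.IsSolvable G]
    (hodd : Odd (Nat.card G)) (p : ℕ) [Fact p.Prime] (hp : p ≠ 2)
    (hO : Cfsg.pPrimeCore p G = ⊥) (S : Sylow p G) :
    (puUpper (S : Subgroup G) ⊓
      Subgroup.centralizer (puUpper (S : Subgroup G) : Set G)).Normal := by
  classical
  have hTn : (Cfsg.pCore p G).Normal := Cfsg.pCore_normal p G
  have hTp : IsPGroup p ↥(Cfsg.pCore p G) := Cfsg.Agent.Lib.Helper4.pCore_isPGroup p G
  have hTS : Cfsg.pCore p G ≤ (S : Subgroup G) := Cfsg.Agent.Lib.Lead.pCore_le_sylow' S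
  have hTtop : Subgroup.normalizer ((Cfsg.pCore p G : Subgroup G) : Set G) = ⊤ :=
    Subgroup.normalizer_eq_top_iff.mpr hTn
  have hcore := pu_sylow_core hodd p hp hO S
  have h1 : puLower (S : Subgroup G) ≤ puLower (Cfsg.pCore p G) :=
    iSup_mono (fun n => (hcore n).1)
  have h2 := puLower_le_puUpper (Cfsg.pCore p G)
  have h3 : puUpper (Cfsg.pCore p G) ≤ puUpper (S : Subgroup G) :=
    iInf_mono (fun n => (hcore n).2)
  obtain ⟨LS, hLS⟩ : ∃ L, L = puUpper (S : Subgroup G) := ⟨_, rfl⟩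
  obtain ⟨LT, hLT⟩ : ∃ L, L = puUpper (Cfsg.pCore p G) := ⟨_, rfl⟩
  rw [← hLS]
  rw [← hLS, ← hLT] at h3
  rw [← hLT] at h2
  have hLSS : LS ≤ (S : Subgroup G) := by rw [hLS]; exact puUpper_le _
  have hLTT : LT ≤ Cfsg.pCore p G := by rw [hLT]; exact puUpper_le _
  haveI hLTn : LT.Normal := by
    rw [← Subgroup.normalizer_eq_top_iff, eq_top_iff, ← hTtop, hLT]
    exact puUpper_normalizer _
  obtain ⟨Y, hY⟩ : ∃ Y, Y = LT ⊓ Subgroup.centralizer (LT : Set G) := ⟨_, rfl⟩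
  haveI hYn : Y.Normal := by rw [hY]; infer_instance
  have hYT : Y ≤ Cfsg.pCore p G := by rw [hY]; exact inf_le_left.trans hLTT
  have hYp : IsPGroup p ↥Y := hTp.to_le hYT
  have hcab : ∀ L : Subgroup G, IsMulCommutative ↥(L ⊓ Subgroup.centralizer (L : Set G)) := by
    intro L
    rw [imc_iff]
    intro a ha b hb
    exact Subgroup.mem_centralizer_iff.mp (Subgroup.mem_inf.mp hb).2 a (Subgroup.mem_inf.mp ha).1
  have hYab : IsMulCommutative ↥Y := by rw [hY]; exact hcab LT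
  have hS2 : ∀ A : Subgroup G, A ≤ (S : Subgroup G) → IsMulCommutative A →
      (S : Subgroup G) ≤ Subgroup.normalizer (A : Set G) → A ≤ puLower (S : Subgroup G) := by
    intro A hAS hAc hAn
    have h : A ≤ puRelSeq (S : Subgroup G) (2 * 1) := by
      show A ≤ puRelStep (S : Subgroup G) (puRelSeq (S : Subgroup G) 1)
      rw [puRelSeq_one]
      exact le_sSup ⟨hAS, hAc, hAn⟩
    exact h.trans (le_iSup (fun n => puRelSeq (S : Subgroup G) (2 * n)) 1)
  obtain ⟨Z, hZ⟩ : ∃ Z, Z = LS ⊓ Subgroup.centralizer (LS : Set G) := ⟨_, rfl⟩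
  rw [← hZ]
  have hZS : Z ≤ (S : Subgroup G) := by rw [hZ]; exact inf_le_left.trans hLSS
  have hNLS : Subgroup.normalizer (LS : Set G) ≤ Subgroup.normalizer (Z : Set G) := by
    rw [hZ]; exact pu_normalizer_center LS
  have hSLS : (S : Subgroup G) ≤ Subgroup.normalizer (LS : Set G) := by
    rw [hLS]; exact Subgroup.le_normalizer.trans (puUpper_normalizer (S : Subgroup G))
  have hSZ : (S : Subgroup G) ≤ Subgroup.normalizer (Z : Set G) := hSLS.trans hNLS
  have hZL : Z ≤ puLower (S : Subgroup G) := hS2 Z hZS (by rw [hZ]; exact hcab LS) hSZ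
  have hZY : Z ≤ Y := by
    rw [hY]
    refine le_inf (hZL.trans (h1.trans h2)) ?_
    rw [hZ]
    exact inf_le_right.trans (Subgroup.centralizer_le (SetLike.coe_subset_coe.mpr h3))
  have hYL : Y ≤ puLower (S : Subgroup G) := hS2 Y (hYT.trans hTS) hYab
    (by rw [Subgroup.normalizer_eq_top_iff.mpr hYn]; exact le_top)
  have hsurj := QuotientGroup.mk'_surjective (Subgroup.centralizer (Y : Set G))
  have hres := (Cfsg.Agent.S1465.result hodd p hp Y hYp
      {B : Subgroup G | B ≤ (S : Subgroup G) ∧ IsMulCommutative B ∧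
        puLower (S : Subgroup G) ≤ Subgroup.normalizer (B : Set G)}
      (fun B hB => ⟨hB.2.1, S.isPGroup'.to_le hB.1, hYL.trans hB.2.2⟩)).1
  have hLSeq : LS = sSup {B : Subgroup G | B ≤ (S : Subgroup G) ∧ IsMulCommutative B ∧
      puLower (S : Subgroup G) ≤ Subgroup.normalizer (B : Set G)} := by
    rw [hLS, puUpper_eq]; rfl
  rw [← hLSeq] at hres
  haveI hPCn : (Cfsg.pCore p (G ⧸ Subgroup.centralizer (Y : Set G))).Normal :=
    Cfsg.pCore_normal p _
  obtain ⟨K, hK⟩ : ∃ K, K = (Cfsg.pCore p (G ⧸ Subgroup.centralizer (Y : Set G))).comap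
      (QuotientGroup.mk' (Subgroup.centralizer (Y : Set G))) := ⟨_, rfl⟩
  haveI hKn : K.Normal := by rw [hK]; exact hPCn.comap _
  have hLK : LS ≤ K := by rw [hK]; exact Subgroup.map_le_iff_le_comap.mp hres
  have hKZ : K ≤ Subgroup.normalizer (Z : Set G) := by
    intro k hk
    rw [hK] at hk
    have hk' : QuotientGroup.mk' (Subgroup.centralizer (Y : Set G)) k ∈
        Cfsg.pCore p (G ⧸ Subgroup.centralizer (Y : Set G)) := hk
    have hle := Cfsg.Agent.Lib.Lead.pCore_le_sylow' (S.mapSurjective hsurj)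
    rw [Sylow.coe_mapSurjective] at hle
    obtain ⟨s, hs, hsk⟩ := hle hk'
    have hc : s⁻¹ * k ∈ Subgroup.centralizer (Y : Set G) := by
      rw [← QuotientGroup.eq]; exact hsk
    have hc' : s⁻¹ * k ∈ Subgroup.normalizer (Z : Set G) :=
      Subgroup.centralizer_le_normalizer _
        (Subgroup.centralizer_le (SetLike.coe_subset_coe.mpr hZY) hc)
    have e : k = s * (s⁻¹ * k) := by group
    rw [e]
    exact Subgroup.mul_mem _ (hSZ hs) hc'
  have hfr := frattini_inf S K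
  have hN1 : Subgroup.normalizer (((S : Subgroup G) ⊓ K : Subgroup G) : Set G) ≤
      Subgroup.normalizer (Z : Set G) := by
    have heq : puUpper ((S : Subgroup G) ⊓ K) = LS := by
      rw [hLS]
      exact puUpper_eq_of_le inf_le_left (le_inf (puUpper_le _) (by rw [← hLS]; exact hLK))
    have := puUpper_normalizer ((S : Subgroup G) ⊓ K)
    rw [heq] at this
    exact this.trans hNLS
  rw [← Subgroup.normalizer_eq_top_iff, eq_top_iff, ← hfr]
  exact sup_le hN1 hKZ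

theorem pu_factorization {G : Type u} [Group G] [Finite G] [Group.IsSolvable G]
    (hodd : Odd (Nat.card G)) (p : ℕ) [Fact p.Prime] (hp : p ≠ 2) (S : Sylow p G) :
    Cfsg.pPrimeCore p G ⊔ Subgroup.normalizer ((puUpper (S : Subgroup G) ⊓
      Subgroup.centralizer (puUpper (S : Subgroup G) : Set G) : Subgroup G) : Set G) = ⊤ := by
  classical
  have hpr : p.Prime := Fact.out
  haveI hOn : (Cfsg.pPrimeCore p G).Normal := inferInstance
  have hsurj := QuotientGroup.mk'_surjective (Cfsg.pPrimeCore p G)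
  have hOcop : (Nat.card ↥(Cfsg.pPrimeCore p G)).Coprime p :=
    Cfsg.Agent.Lib.Lead.pPrimeCore_coprime p
  have hSO : ∀ x ∈ (S : Subgroup G), x ∈ Cfsg.pPrimeCore p G → x = 1 := by
    intro x hxS hxO
    obtain ⟨k, hk⟩ := S.isPGroup' ⟨x, hxS⟩
    have hk' : x ^ p ^ k = 1 := congrArg Subtype.val hk
    have h1 : x ^ Nat.card ↥(Cfsg.pPrimeCore p G) = 1 := by
      have := pow_card_eq_one' (G := ↥(Cfsg.pPrimeCore p G)) (x := ⟨x, hxO⟩)
      exact congrArg Subtype.val this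
    exact os_eq_one_of_coprime x _ k h1 hk' hOcop
  have hinj : ∀ a ∈ (S : Subgroup G), ∀ b ∈ (S : Subgroup G),
      QuotientGroup.mk' (Cfsg.pPrimeCore p G) a = QuotientGroup.mk' (Cfsg.pPrimeCore p G) b →
      a = b := by
    intro a ha b hb hab
    have h1 : a⁻¹ * b ∈ Cfsg.pPrimeCore p G := by rw [← QuotientGroup.eq]; exact hab
    have h2 := hSO _ ((S : Subgroup G).mul_mem ((S : Subgroup G).inv_mem ha) hb) h1
    exact inv_mul_eq_one.mp h2
  have hoddQ : Odd (Nat.card (G ⧸ Cfsg.pPrimeCore p G)) :=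
    hodd.of_dvd_nat (Subgroup.card_quotient_dvd_card _)
  have hA := pu_center_normal (G := G ⧸ Cfsg.pPrimeCore p G) hoddQ p hp
    (Cfsg.Agent.Lib.Lead.pPrimeCore_quotient p) (S.mapSurjective hsurj)
  rw [Sylow.coe_mapSurjective, puUpper_map _ _ hinj] at hA
  obtain ⟨LS, hLS⟩ : ∃ L, L = puUpper (S : Subgroup G) := ⟨_, rfl⟩
  rw [← hLS] at hA ⊢
  have hLSS : LS ≤ (S : Subgroup G) := by rw [hLS]; exact puUpper_le _
  obtain ⟨Z, hZ⟩ : ∃ Z, Z = LS ⊓ Subgroup.centralizer (LS : Set G) := ⟨_, rfl⟩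
  rw [← hZ]
  have hZmap : Z.map (QuotientGroup.mk' (Cfsg.pPrimeCore p G)) =
      LS.map (QuotientGroup.mk' (Cfsg.pPrimeCore p G)) ⊓ Subgroup.centralizer
        ((LS.map (QuotientGroup.mk' (Cfsg.pPrimeCore p G)) : Subgroup _) : Set _) := by
    apply le_antisymm
    · rintro _ ⟨z, hz, rfl⟩
      rw [hZ] at hz
      obtain ⟨hz1, hz2⟩ := Subgroup.mem_inf.mp hz
      refine Subgroup.mem_inf.mpr ⟨Subgroup.mem_map_of_mem _ hz1, ?_⟩
      rw [Subgroup.mem_centralizer_iff]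
      rintro _ ⟨l, hl, rfl⟩
      rw [← map_mul, ← map_mul, Subgroup.mem_centralizer_iff.mp hz2 l hl]
    · intro y hy
      obtain ⟨hy1, hy2⟩ := Subgroup.mem_inf.mp hy
      obtain ⟨l, hl, rfl⟩ := hy1
      refine ⟨l, ?_, rfl⟩
      rw [hZ]
      refine Subgroup.mem_inf.mpr ⟨hl, ?_⟩
      rw [Subgroup.mem_centralizer_iff]
      intro l' hl'
      have h1 := Subgroup.mem_centralizer_iff.mp hy2 _ (Subgroup.mem_map_of_mem _ hl')
      rw [← map_mul, ← map_mul] at h1
      exact hinj _ ((S : Subgroup G).mul_mem (hLSS hl') (hLSS hl)) _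
        ((S : Subgroup G).mul_mem (hLSS hl) (hLSS hl')) h1
  rw [← hZmap] at hA
  have hNn : (Z ⊔ Cfsg.pPrimeCore p G).Normal := by
    have := hA.comap (QuotientGroup.mk' (Cfsg.pPrimeCore p G))
    rwa [Subgroup.comap_map_eq, QuotientGroup.ker_mk'] at this
  haveI := hNn
  have hZp : IsPGroup p ↥Z := S.isPGroup'.to_le (by rw [hZ]; exact inf_le_left.trans hLSS)
  have hZp' : IsPGroup p ↥(Z.subgroupOf (Z ⊔ Cfsg.pPrimeCore p G)) := hZp.comap_subtype
  have hidx : ¬ p ∣ (Z.subgroupOf (Z ⊔ Cfsg.pPrimeCore p G)).index := by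
    show ¬ p ∣ Z.relIndex (Z ⊔ Cfsg.pPrimeCore p G)
    rw [Cfsg.Agent.Lib.Helper7.relIndex_sup_of_normal Z (Cfsg.pPrimeCore p G)]
    intro hdvd
    have h1 : p ∣ Nat.card ↥(Cfsg.pPrimeCore p G) :=
      hdvd.trans (Subgroup.relIndex_dvd_card _ _)
    exact (Nat.Prime.coprime_iff_not_dvd hpr).mp hOcop.symm h1
  have hfr := Sylow.normalizer_sup_eq_top (hZp'.toSylow hidx)
  rw [IsPGroup.toSylow_coe, Subgroup.map_subgroupOf_eq_of_le le_sup_left] at hfr
  rw [eq_top_iff, ← hfr]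
  exact sup_le le_sup_right (sup_le (Subgroup.le_normalizer.trans le_sup_right) le_sup_left)

end Cfsg.Agent.Lib.Helper1
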