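import Mathlib
import Cfsg.Agent.Lib.Helper5.Derangement
import Cfsg.Agent.Lib.Lead.Basic

set_option autoImplicit false
open Pointwise

namespace Cfsg.Agent.Lib.Helper1

open Cfsg.Agent.Lib.Lead Cfsg.Agent.Lib.Helper5

universe u

theorem quot_fixed_iff {G : Type*} [Group G] (M : Subgroup G) (y g : G) :
    y • (g : G ⧸ M) = (g : G ⧸ M) ↔ g⁻¹ * y * g ∈ M := by
  rw [MulAction.Quotient.smul_mk, QuotientGroup.eq]
  constructor
  · intro h
    have := M.inv_mem h
    simpa [mul_assoc] using this
  · intro h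
    have := M.inv_mem h
    simpa [mul_assoc] using this

open Classical in
/-- counting the nonidentity elements in the conjugates of a malnormal subgroup -/
theorem card_conj_union_add_index {G : Type*} [Group G] [Fintype G] [DecidableEq G]
    (M : Subgroup G)
    (hmal : ∀ g : G, ∀ m ∈ M, m ≠ 1 → g⁻¹ * m * g ∈ M → g ∈ M) :
    (Finset.univ.filter (fun y : G => y ≠ 1 ∧ ∃ g : G, g⁻¹ * y * g ∈ M)).card + M.index =
      Fintype.card G := by
  classical
  have hb := burnside_natCard G (G ⧸ M)
  rw [card_orbits_eq_one (MulAction.isPretransitive_quotient G M), one_mul,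
    Nat.card_eq_fintype_card] at hb
  have hfix : ∀ y : G, Nat.card (MulAction.fixedBy (G ⧸ M) y) =
      (if y = 1 then M.index else 0) + (if (y ≠ 1 ∧ ∃ g : G, g⁻¹ * y * g ∈ M) then 1 else 0) := by
    intro y
    by_cases hy : y = 1
    · subst hy
      rw [if_pos rfl, if_neg (fun h => h.1 rfl), add_zero, Subgroup.index_eq_card]
      have : MulAction.fixedBy (G ⧸ M) (1 : G) = Set.univ := by
        ext q; simp
      rw [this, Nat.card_congr (Equiv.Set.univ _)]
    · rw [if_neg hy, zero_add]
      by_cases hex : ∃ g : G, g⁻¹ * y * g ∈ M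
      · rw [if_pos ⟨hy, hex⟩]
        obtain ⟨g, hg⟩ := hex
        rw [Nat.card_eq_one_iff_unique]
        constructor
        · constructor
          rintro ⟨q₁, hq₁⟩ ⟨q₂, hq₂⟩
          apply Subtype.ext
          show q₁ = q₂
          induction q₁ using QuotientGroup.induction_on with
          | _ g₁ =>
          induction q₂ using QuotientGroup.induction_on with
          | _ g₂ =>
          rw [MulAction.mem_fixedBy, quot_fixed_iff] at hq₁ hq₂
          rw [QuotientGroup.eq]
          apply hmal (g₁⁻¹ * g₂) (g₁⁻¹ * y * g₁) hq₁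
          · intro h1
            apply hy
            have : y = g₁ * (g₁⁻¹ * y * g₁) * g₁⁻¹ := by group
            rw [this, h1]; group
          · have : (g₁⁻¹ * g₂)⁻¹ * (g₁⁻¹ * y * g₁) * (g₁⁻¹ * g₂) = g₂⁻¹ * y * g₂ := by group
            rw [this]; exact hq₂
        · exact ⟨⟨(g : G ⧸ M), by rw [MulAction.mem_fixedBy, quot_fixed_iff]; exact hg⟩⟩
      · rw [if_neg (fun h => hex h.2)]
        rw [Nat.card_eq_zero]
        left
        constructor
        rintro ⟨q, hq⟩
        induction q using QuotientGroup.induction_on with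
        | _ g =>
        rw [MulAction.mem_fixedBy, quot_fixed_iff] at hq
        exact hex ⟨g, hq⟩
  rw [Finset.sum_congr rfl (fun y _ => hfix y), Finset.sum_add_distrib, Finset.sum_ite_eq'] at hb
  simp only [Finset.mem_univ, if_true] at hb
  rw [Finset.sum_boole] at hb
  simp only [Nat.cast_id] at hb
  omega

theorem nilpotent_normalizer_grow {G : Type*} [Group G] (M D : Subgroup G)
    (hM : Group.IsNilpotent M) (hDM : D < M) :
    ∃ x ∈ M, x ∈ Subgroup.normalizer (D : Set G) ∧ x ∉ D := by
  have hnc : NormalizerCondition M := Group.normalizerCondition_of_isNilpotent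
  have hlt : D.subgroupOf M < ⊤ := by
    rw [lt_top_iff_ne_top]
    intro h
    exact hDM.not_ge (Subgroup.subgroupOf_eq_top.mp h)
  obtain ⟨x, hxN, hxD⟩ := SetLike.exists_of_lt (hnc _ hlt)
  refine ⟨(x : G), x.2, ?_, ?_⟩
  · rw [← Subgroup.subgroupOf_normalizer_eq hDM.le] at hxN
    exact Subgroup.mem_subgroupOf.mp hxN
  · intro h
    exact hxD (Subgroup.mem_subgroupOf.mpr h)

theorem isCoatom_conj_smul {G : Type*} [Group G] (g : G) {M : Subgroup G} (hM : IsCoatom M) :
    IsCoatom (MulAut.conj g • M) := by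
  show IsCoatom ((MulEquiv.mapSubgroup (MulAut.conj g)) M)
  exact (OrderIso.isCoatom_iff _ _).mpr hM

theorem coatom_inf_eq_bot {G : Type*} [Group G] [Finite G]
    (hsimple : ∀ N : Subgroup G, N.Normal → N = ⊥ ∨ N = ⊤)
    (hnil : ∀ H : Subgroup G, H ≠ ⊤ → Group.IsNilpotent H)
    (M₁ M₂ : Subgroup G) (h₁ : IsCoatom M₁) (h₂ : IsCoatom M₂) (hne : M₁ ≠ M₂) :
    M₁ ⊓ M₂ = ⊥ := by
  by_contra hcon
  obtain ⟨S, hS⟩ : ∃ S : Set (Subgroup G × Subgroup G),
      S = {p | IsCoatom p.1 ∧ IsCoatom p.2 ∧ p.1 ≠ p.2 ∧ p.1 ⊓ p.2 ≠ ⊥} := ⟨_, rfl⟩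
  have hSne : S.Nonempty := ⟨(M₁, M₂), by rw [hS]; exact ⟨h₁, h₂, hne, hcon⟩⟩
  obtain ⟨⟨A, B⟩, hABS, hmax⟩ := Set.exists_max_image S
    (fun p => Nat.card (p.1 ⊓ p.2 : Subgroup G)) (Set.toFinite S) hSne
  rw [hS] at hABS
  obtain ⟨hA, hB, hAB, hD⟩ := hABS
  obtain ⟨D, hDdef⟩ : ∃ D : Subgroup G, D = A ⊓ B := ⟨_, rfl⟩
  have hDA : D ≤ A := hDdef ▸ inf_le_left
  have hDB : D ≤ B := hDdef ▸ inf_le_right
  have hD' : D ≠ ⊥ := hDdef ▸ hD
  have hDnn : Subgroup.normalizer (D : Set G) ≠ ⊤ := by
    intro htop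
    have hn : D.Normal := Subgroup.normalizer_eq_top_iff.mp htop
    rcases hsimple D hn with h | h
    · exact hD' h
    · exact hA.1 (top_le_iff.mp (h ▸ hDA))
  obtain ⟨C, hC, hNC⟩ := (eq_top_or_exists_le_coatom _).resolve_left hDnn
  have hDC : D ≤ C := Subgroup.le_normalizer.trans hNC
  have key : ∀ X : Subgroup G, IsCoatom X → D ≤ X → D ≠ X → X = C := by
    intro X hX hDX hDneX
    by_contra hXC
    obtain ⟨x, hxX, hxN, hxD⟩ :=
      nilpotent_normalizer_grow X D (hnil X hX.1) (lt_of_le_of_ne hDX hDneX)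
    have hmem : (X, C) ∈ S := by
      rw [hS]
      exact ⟨hX, hC, hXC, fun h => hD' (le_bot_iff.mp (h ▸ le_inf hDX hDC))⟩
    have h1 := hmax (X, C) hmem
    have hlt : D < X ⊓ C :=
      lt_of_le_of_ne (le_inf hDX hDC) (fun h => hxD (h ▸ ⟨hxX, hNC hxN⟩))
    have h2 := card_lt_of_lt hlt
    rw [hDdef] at h2
    exact absurd h1 (not_le.mpr h2)
  have hDneA : D ≠ A := by
    intro h
    have hAB' : A ≤ B := h ▸ hDB
    rcases eq_or_lt_of_le hAB' with h' | h'
    · exact hAB h'
    · exact hB.1 (hA.2 _ h')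
  have hDneB : D ≠ B := by
    intro h
    have hBA' : B ≤ A := h ▸ hDA
    rcases eq_or_lt_of_le hBA' with h' | h'
    · exact hAB h'.symm
    · exact hA.1 (hB.2 _ h')
  exact hAB ((key A hA hDA hDneA).trans (key B hB hDB hDneB).symm)

theorem schmidt_false {G : Type*} [Group G] [Finite G]
    (hsimple : ∀ N : Subgroup G, N.Normal → N = ⊥ ∨ N = ⊤)
    (hnil : ∀ H : Subgroup G, H ≠ ⊤ → Group.IsNilpotent H)
    (hG : ¬ Group.IsNilpotent G) : False := by
  classical
  have : Fintype G := Fintype.ofFinite G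
  have hncyc : ∀ x : G, Subgroup.zpowers x ≠ ⊤ := by
    intro x htop
    apply hG
    have : IsCyclic G := isCyclic_iff_exists_zpowers_eq_top.mpr ⟨x, htop⟩
    let _ := IsCyclic.commGroup (α := G)
    exact CommGroup.isNilpotent
  have hcbot : ∀ M : Subgroup G, IsCoatom M → M ≠ ⊥ := by
    intro M hM hbot
    have hbt : (⊥ : Subgroup G) ≠ ⊤ := hbot ▸ hM.1
    obtain ⟨x, hx⟩ : ∃ x : G, x ≠ 1 := by
      by_contra hcon
      push Not at hcon
      apply hbt
      rw [eq_top_iff]
      intro y _
      rw [hcon y]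
      exact Subgroup.one_mem _
    have hlt : M < Subgroup.zpowers x := by
      rw [hbot, bot_lt_iff_ne_bot]
      intro h
      exact hx (Subgroup.zpowers_eq_bot.mp h)
    exact hncyc x (hM.2 _ hlt)
  have hmal : ∀ M : Subgroup G, IsCoatom M → ∀ g : G, ∀ m ∈ M, m ≠ 1 →
      g⁻¹ * m * g ∈ M → g ∈ M := by
    intro M hM g m hm hm1 hgm
    by_contra hg
    have hcoat : IsCoatom (MulAut.conj g • M) := isCoatom_conj_smul g hM
    have hne : M ≠ MulAut.conj g • M := by
      intro heq
      have hgN : g ∈ Subgroup.normalizer (M : Set G) := mem_normalizer_of_conj_smul_eq heq.symm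
      have hN : Subgroup.normalizer (M : Set G) = M := by
        rcases eq_or_lt_of_le (Subgroup.le_normalizer (H := M)) with h | h
        · exact h.symm
        · have htop := hM.2 _ h
          have hn : M.Normal := Subgroup.normalizer_eq_top_iff.mp htop
          rcases hsimple M hn with h0 | h0
          · exact absurd h0 (hcbot M hM)
          · exact absurd h0 hM.1
      rw [hN] at hgN
      exact hg hgN
    have hinf := coatom_inf_eq_bot hsimple hnil M _ hM hcoat hne
    have : m ∈ M ⊓ MulAut.conj g • M := ⟨hm, mem_conj_smul.mpr hgm⟩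
    rw [hinf] at this
    exact hm1 (Subgroup.mem_bot.mp this)
  obtain ⟨T, hTdef⟩ : ∃ T : Subgroup G → Finset G, T = fun M =>
      Finset.univ.filter (fun y : G => y ≠ 1 ∧ ∃ g : G, g⁻¹ * y * g ∈ M) := ⟨_, rfl⟩
  have hTmem : ∀ (M : Subgroup G) (y : G), y ∈ T M ↔ (y ≠ 1 ∧ ∃ g : G, g⁻¹ * y * g ∈ M) := by
    intro M y
    rw [hTdef]
    simp only [Finset.mem_filter, Finset.mem_univ, true_and]
  have hT : ∀ M : Subgroup G, IsCoatom M → (T M).card + M.index = Fintype.card G := by
    intro M hM
    rw [hTdef]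
    exact card_conj_union_add_index M (hmal M hM)
  have hidx : ∀ M : Subgroup G, IsCoatom M → 2 * M.index ≤ Fintype.card G ∧ 2 ≤ M.index := by
    intro M hM
    have h0 : Nat.card M ≠ 1 := fun h => hcbot M hM (Subgroup.card_eq_one.mp h)
    have h1 : 0 < Nat.card M := Nat.card_pos
    have h2 := Subgroup.card_mul_index M
    have h3 : M.index ≠ 1 := fun h => hM.1 (Subgroup.index_eq_one.mp h)
    have h4 : M.index ≠ 0 := Subgroup.index_ne_zero_of_finite
    constructor
    · rw [← Nat.card_eq_fintype_card, ← h2]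
      exact Nat.mul_le_mul_right _ (by omega)
    · omega
  obtain ⟨M, hM⟩ : ∃ M : Subgroup G, IsCoatom M := by
    have hbt : (⊥ : Subgroup G) ≠ ⊤ := by
      intro h
      apply hG
      have : Subsingleton G := Subgroup.subsingleton_iff.mp (subsingleton_of_bot_eq_top h)
      infer_instance
    obtain ⟨M, hM, _⟩ := (eq_top_or_exists_le_coatom (⊥ : Subgroup G)).resolve_left hbt
    exact ⟨M, hM⟩
  obtain ⟨x, hx1, hxT⟩ : ∃ x : G, x ≠ 1 ∧ x ∉ T M := by
    by_contra hcon
    push Not at hcon
    have hsub : Finset.univ.erase (1 : G) ⊆ T M :=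
      fun x hx => hcon x (Finset.ne_of_mem_erase hx)
    have hc := Finset.card_le_card hsub
    rw [Finset.card_erase_of_mem (Finset.mem_univ _), Finset.card_univ] at hc
    have h1 := hT M hM
    have h2 := hidx M hM
    omega
  obtain ⟨L, hL, hxL⟩ := (eq_top_or_exists_le_coatom _).resolve_left (hncyc x)
  have hdisj : Disjoint (T M) (T L) := by
    rw [Finset.disjoint_left]
    intro y hyM hyL
    rw [hTmem] at hyM hyL
    obtain ⟨hy1, g, hg⟩ := hyM
    obtain ⟨_, h, hh⟩ := hyL
    have hcM : IsCoatom (MulAut.conj g • M) := isCoatom_conj_smul g hM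
    have hcL : IsCoatom (MulAut.conj h • L) := isCoatom_conj_smul h hL
    by_cases heq : MulAut.conj g • M = MulAut.conj h • L
    · apply hxT
      rw [hTmem]
      refine ⟨hx1, h⁻¹ * g, ?_⟩
      have hxL' : x ∈ L := hxL (Subgroup.mem_zpowers x)
      have h5 : h * x * h⁻¹ ∈ MulAut.conj h • L := conj_mem_conj_smul hxL'
      rw [← heq, mem_conj_smul] at h5
      have h6 : (h⁻¹ * g)⁻¹ * x * (h⁻¹ * g) = g⁻¹ * (h * x * h⁻¹) * g := by group
      rw [h6]
      exact h5
    · have hinf := coatom_inf_eq_bot hsimple hnil _ _ hcM hcL heq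
      have : y ∈ MulAut.conj g • M ⊓ MulAut.conj h • L :=
        ⟨mem_conj_smul.mpr hg, mem_conj_smul.mpr hh⟩
      rw [hinf] at this
      exact hy1 (Subgroup.mem_bot.mp this)
  have hunion : (T M ∪ T L).card ≤ Fintype.card G - 1 := by
    have hsub : T M ∪ T L ⊆ Finset.univ.erase (1 : G) := by
      intro y hy
      rw [Finset.mem_erase]
      refine ⟨?_, Finset.mem_univ _⟩
      rcases Finset.mem_union.mp hy with h | h
      · exact ((hTmem M y).mp h).1
      · exact ((hTmem L y).mp h).1
    have := Finset.card_le_card hsub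
    rwa [Finset.card_erase_of_mem (Finset.mem_univ _), Finset.card_univ] at this
  rw [Finset.card_union_of_disjoint hdisj] at hunion
  have h1 := hT M hM
  have h2 := hT L hL
  have h3 := hidx M hM
  have h4 := hidx L hL
  have h5 := Fintype.card_pos (α := G)
  omega

theorem isSolvable_of_proper_nilpotent_aux : ∀ (n : ℕ) (G : Type u) [Group G] [Finite G],
    Nat.card G ≤ n → (∀ H : Subgroup G, H ≠ ⊤ → Group.IsNilpotent H) → Group.IsSolvable G := by
  intro n
  induction n with
  | zero =>
    intro G _ _ hn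
    exact absurd hn (by have := Nat.card_pos (α := G); omega)
  | succ n ih =>
    intro G _ _ hn hnil
    by_cases hG : Group.IsNilpotent G
    · infer_instance
    by_cases hs : ∀ N : Subgroup G, N.Normal → N = ⊥ ∨ N = ⊤
    · exact (schmidt_false hs hnil hG).elim
    push Not at hs
    obtain ⟨N, hNn, hNbot, hNtop⟩ := hs
    have hNnil := hnil N hNtop
    have hNsolv : Group.IsSolvable N := inferInstance
    have hQ : Group.IsSolvable (G ⧸ N) := by
      apply ih
      · have h1 := Subgroup.card_eq_card_quotient_mul_card_subgroup N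
        have h0 : Nat.card N ≠ 1 := fun h => hNbot (Subgroup.card_eq_one.mp h)
        have h2 : 0 < Nat.card N := Nat.card_pos
        have h3 := Nat.card_pos (α := G ⧸ N)
        have h4 : Nat.card (G ⧸ N) * 2 ≤ Nat.card (G ⧸ N) * Nat.card N :=
          Nat.mul_le_mul_left _ (by omega)
        omega
      · intro Hb hHb
        have hne : Hb.comap (QuotientGroup.mk' N) ≠ ⊤ := by
          intro h
          apply hHb
          rw [← Subgroup.map_comap_eq_self_of_surjective (QuotientGroup.mk'_surjective N) Hb, h,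
            Subgroup.map_top_of_surjective _ (QuotientGroup.mk'_surjective N)]
        have := hnil _ hne
        exact Group.nilpotent_of_surjective ((QuotientGroup.mk' N).subgroupComap Hb)
          (MonoidHom.subgroupComap_surjective_of_surjective _ _ (QuotientGroup.mk'_surjective N))
    exact Group.isSolvable_of_ker_le_range N.subtype (QuotientGroup.mk' N)
      (by rw [QuotientGroup.ker_mk', Subgroup.range_subtype])

/-- Schmidt: a finite group all of whose proper subgroups are nilpotent is solvable -/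
theorem isSolvable_of_proper_nilpotent {G : Type u} [Group G] [Finite G]
    (h : ∀ H : Subgroup G, H ≠ ⊤ → Group.IsNilpotent H) : Group.IsSolvable G :=
  isSolvable_of_proper_nilpotent_aux (Nat.card G) G le_rfl h

end Cfsg.Agent.Lib.Helper1
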