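import Mathlib
import Cfsg.Agent.Lib.Helper1.Schmidt
import Cfsg.Agent.Lib.Lead.SZ3
import Cfsg.Agent.Lib.Helper6.NilpComm
import Cfsg.Agent.Lib.Helper6.PSub

set_option autoImplicit false
open Pointwise

namespace Cfsg.Agent.Lib.Helper1

open Cfsg.Agent.Lib.Lead Cfsg.Agent.Lib.Helper6

universe u

/-- a subgroup containing a Sylow subgroup for every prime is everything -/
theorem eq_top_of_sylow_le {G : Type*} [Group G] [Finite G] (K : Subgroup G)
    (h : ∀ r : ℕ, ∀ _ : Fact r.Prime, ∃ S : Sylow r G, (S : Subgroup G) ≤ K) : K = ⊤ := by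
  rw [← Subgroup.index_eq_one]
  by_contra hne
  obtain ⟨r, hr, hrd⟩ := Nat.exists_prime_and_dvd hne
  have : Fact r.Prime := ⟨hr⟩
  obtain ⟨S, hS⟩ := h r ⟨hr⟩
  exact S.not_dvd_index (hrd.trans (Subgroup.index_dvd_of_le hS))

/-- commuting in nilpotent subgroups -/
theorem comm_of_nilpotent_subgroup {G : Type*} [Group G] [Finite G] (K : Subgroup G)
    (hK : Group.IsNilpotent K) {p : ℕ} [Fact p.Prime] {u v : G} (huK : u ∈ K) (hvK : v ∈ K)
    {i : ℕ} (hu : orderOf u = p ^ i) (hv : (orderOf v).Coprime p) : u * v = v * u := by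
  have h := commute_of_pelt_of_coprime hK (u := (⟨u, huK⟩ : K)) (v := ⟨v, hvK⟩) (i := i)
    (by rw [Subgroup.orderOf_mk]; exact hu) (by rw [Subgroup.orderOf_mk]; exact hv)
  exact congrArg Subtype.val h.eq

/-- a Sylow subgroup inside a nilpotent subgroup is normalized by it -/
theorem le_normalizer_of_nilpotent {G : Type*} [Group G] [Finite G] (K : Subgroup G)
    (hK : Group.IsNilpotent K) {p : ℕ} [Fact p.Prime] (P : Sylow p G)
    (hPK : (P : Subgroup G) ≤ K) : K ≤ Subgroup.normalizer ((P : Subgroup G) : Set G) := by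
  have hsyl := ((Group.isNilpotent_of_finite_tfae (G := K)).out 0 3).mp hK
  have hn := hsyl p inferInstance (P.subtype hPK)
  rw [Sylow.coe_subtype] at hn
  exact (Subgroup.normal_subgroupOf_iff_le_normalizer hPK).mp hn

/-- structure of minimal non-nilpotent groups -/
theorem schmidt_structure {G : Type u} [Group G] [Finite G] (hG : ¬ Group.IsNilpotent G)
    (hnil : ∀ H : Subgroup G, H ≠ ⊤ → Group.IsNilpotent H) :
    ∃ p q : ℕ, p.Prime ∧ q.Prime ∧ p ≠ q ∧ ∃ (P : Sylow p G) (Q : Sylow q G),
      IsCyclic P ∧ (Q : Subgroup G).Normal ∧ (P : Subgroup G) ⊔ Q = ⊤ ∧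
        ¬ (P : Subgroup G).Normal := by
  have : Group.IsSolvable G := isSolvable_of_proper_nilpotent hnil
  have : Nontrivial G := by
    by_contra h
    rw [not_nontrivial_iff_subsingleton] at h
    exact hG inferInstance
  obtain ⟨N, hNn, hNp⟩ := exists_normal_prime_index G
  obtain ⟨p, hp⟩ : ∃ p, p = N.index := ⟨_, rfl⟩
  have hpp : p.Prime := hp ▸ hNp
  have : Fact p.Prime := ⟨hpp⟩
  have hNtop : N ≠ ⊤ := by
    intro h
    rw [h, Subgroup.index_top] at hp
    exact hpp.ne_one hp
  have hNnil := hnil N hNtop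
  have hsylN : ∀ (q : ℕ) (hq : Fact q.Prime), q ≠ p → ∀ Q : Sylow q G,
      (Q : Subgroup G).Normal := by
    intro q hq hqp Q
    have hQN : (Q : Subgroup G) ≤ N := by
      rw [← Subgroup.relIndex_eq_one]
      have h1 : N.relIndex (Q : Subgroup G) ∣ p := hp ▸ Subgroup.relIndex_dvd_index_of_normal N Q
      have h2 : N.relIndex (Q : Subgroup G) ∣ Nat.card (Q : Subgroup G) :=
        Subgroup.relIndex_dvd_card N Q
      obtain ⟨k, hk⟩ := IsPGroup.iff_card.mp Q.isPGroup'
      rw [hk] at h2
      rcases (Nat.dvd_prime hpp).mp h1 with h | h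
      · exact h
      · exfalso
        rw [h] at h2
        exact hqp ((Nat.prime_dvd_prime_iff_eq hpp hq.out).mp (hpp.dvd_of_dvd_pow h2)).symm
    have hsyl := ((Group.isNilpotent_of_finite_tfae (G := N)).out 0 3).mp hNnil
    have hn : ((Q.subtype hQN : Sylow q N) : Subgroup N).Normal := hsyl q hq (Q.subtype hQN)
    have hc : ((Q.subtype hQN : Sylow q N) : Subgroup N).Characteristic :=
      Sylow.characteristic_of_normal _ hn
    have h3 : (((Q.subtype hQN : Sylow q N) : Subgroup N).map N.subtype).Normal :=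
      ConjAct.normal_of_characteristic_of_normal
    rw [Sylow.coe_subtype, Subgroup.subgroupOf_map_subtype, inf_eq_left.mpr hQN] at h3
    exact h3
  have hexP : ∃ P : Sylow p G, ¬ (P : Subgroup G).Normal := by
    by_contra hcon
    push Not at hcon
    apply hG
    apply ((Group.isNilpotent_of_finite_tfae (G := G)).out 0 3).mpr
    intro r hr R
    by_cases hrp : r = p
    · subst hrp
      exact hcon R
    · exact hsylN r hr hrp R
  obtain ⟨P, hPn⟩ := hexP
  have hexQ : ∃ (q : ℕ) (_ : Fact q.Prime), q ≠ p ∧ ∃ Q : Sylow q G,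
      (P : Subgroup G) ⊔ Q = ⊤ := by
    by_contra hcon
    push Not at hcon
    apply hPn
    rw [← Subgroup.normalizer_eq_top_iff]
    apply eq_top_of_sylow_le
    intro r hr
    by_cases hrp : r = p
    · subst hrp
      exact ⟨P, Subgroup.le_normalizer⟩
    · obtain ⟨R⟩ : Nonempty (Sylow r G) := inferInstance
      refine ⟨R, ?_⟩
      have hne := hcon r hr hrp R
      exact le_sup_right.trans (le_normalizer_of_nilpotent _ (hnil _ hne) P le_sup_left)
  obtain ⟨q, hq, hqp, Q, hPQ⟩ := hexQ
  have hQn := hsylN q hq hqp Q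
  refine ⟨p, q, hpp, hq.out, fun h => hqp h.symm, P, Q, ?_, hQn, hPQ, hPn⟩
  by_contra hcyc
  apply hPn
  rw [← Subgroup.normalizer_eq_top_iff, eq_top_iff, ← hPQ]
  refine sup_le Subgroup.le_normalizer ?_
  have hcomm : ∀ x ∈ (P : Subgroup G), ∀ y ∈ (Q : Subgroup G), x * y = y * x := by
    intro x hx y hy
    have hZne : Subgroup.zpowers x ⊔ (Q : Subgroup G) ≠ ⊤ := by
      intro htop
      apply hcyc
      have hZP : Subgroup.zpowers x ≤ (P : Subgroup G) := Subgroup.zpowers_le.mpr hx
      have h1 := relIndex_mul_card_of_le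
        (le_sup_left : (Q : Subgroup G) ≤ (Q : Subgroup G) ⊔ Subgroup.zpowers x)
      rw [Subgroup.relIndex_sup_left] at h1
      have h2 : (Q : Subgroup G).relIndex (Subgroup.zpowers x) ∣ Nat.card (Subgroup.zpowers x) :=
        Subgroup.relIndex_dvd_card _ _
      have h3 : Nat.card ((Q : Subgroup G) ⊔ Subgroup.zpowers x : Subgroup G) = Nat.card G := by
        rw [sup_comm, htop]; exact Subgroup.card_top
      have hcop : (Nat.card (P : Subgroup G)).Coprime (Nat.card (Q : Subgroup G)) :=
        IsPGroup.coprime_card_of_ne p q (fun h => hqp h.symm) _ _ P.isPGroup' Q.isPGroup'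
      have h4 : Nat.card (P : Subgroup G) * Nat.card (Q : Subgroup G) ∣ Nat.card G :=
        Nat.Coprime.mul_dvd_of_dvd_of_dvd hcop (Subgroup.card_subgroup_dvd_card _)
          (Subgroup.card_subgroup_dvd_card _)
      have h5 : Nat.card (P : Subgroup G) ≤ Nat.card (Subgroup.zpowers x) := by
        have h6 := Nat.le_of_dvd Nat.card_pos h4
        have h7 := Nat.le_of_dvd Nat.card_pos h2
        have hQpos : 0 < Nat.card (Q : Subgroup G) := Nat.card_pos
        rw [← h3, ← h1] at h6
        have : Nat.card (P : Subgroup G) * Nat.card (Q : Subgroup G) ≤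
            Nat.card (Subgroup.zpowers x) * Nat.card (Q : Subgroup G) :=
          h6.trans (Nat.mul_le_mul_right _ h7)
        exact Nat.le_of_mul_le_mul_right this hQpos
      have h8 : Subgroup.zpowers x = (P : Subgroup G) := Subgroup.eq_of_le_of_card_ge hZP h5
      have h9 : IsCyclic (Subgroup.zpowers x) := inferInstance
      rw [h8] at h9
      exact h9
    have hnilZ := hnil _ hZne
    obtain ⟨i, hi⟩ := orderOf_mem_sylow P hx
    obtain ⟨j, hj⟩ := orderOf_mem_sylow Q hy
    exact comm_of_nilpotent_subgroup _ hnilZ (Subgroup.mem_sup_left (Subgroup.mem_zpowers x))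
      (Subgroup.mem_sup_right hy) hi
      (by rw [hj]; exact Nat.Coprime.pow_left j ((Nat.coprime_primes hq.out hpp).mpr hqp))
  intro y hy
  rw [Subgroup.mem_normalizer_iff'']
  intro x
  constructor
  · intro hx
    have h := hcomm x hx y hy
    have e : y⁻¹ * x * y = x := by rw [mul_assoc, h, ← mul_assoc, inv_mul_cancel, one_mul]
    rw [e]
    exact hx
  · intro hx
    have h := hcomm _ hx y hy
    have e : y⁻¹ * x * y = x := by
      have h' : (y⁻¹ * x * y) * y = x * y := by rw [h]; group
      exact mul_right_cancel h'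
    rw [e] at hx
    exact hx

end Cfsg.Agent.Lib.Helper1
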