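import Mathlib
import Cfsg.Agent.Lib.Helper1.Schmidt2

set_option autoImplicit false
open Pointwise

namespace Cfsg.Agent.Lib.Helper1

open Cfsg.Agent.Lib.Lead Cfsg.Agent.Lib.Helper6

/-- normal Sylow subgroups are unique -/
theorem sylow_eq_of_normal {G : Type*} [Group G] [Finite G] {p : ℕ} [Fact p.Prime]
    (Q Q' : Sylow p G) (hQ : (Q : Subgroup G).Normal) : Q' = Q := by
  obtain ⟨g, hg⟩ := MulAction.exists_smul_eq G Q Q'
  rw [Sylow.smul_eq_of_normal] at hg
  exact hg.symm

/-- a `p`-subgroup lies in a normal Sylow `p`-subgroup -/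
theorem le_normal_sylow {G : Type*} [Group G] [Finite G] {p : ℕ} [Fact p.Prime]
    (Q : Sylow p G) (hQ : (Q : Subgroup G).Normal) (B : Subgroup G) (hB : IsPGroup p B) :
    B ≤ Q := by
  obtain ⟨Q', hQ'⟩ := hB.exists_le_sylow
  rw [sylow_eq_of_normal Q Q' hQ] at hQ'
  exact hQ'

/-- if one Sylow `p`-subgroup is cyclic, every `p`-subgroup is commutative -/
theorem comm_of_pgroup_of_cyclic_sylow {G : Type*} [Group G] [Finite G] {p : ℕ} [Fact p.Prime]
    (P : Sylow p G) (hc : IsCyclic P) (A : Subgroup G) (hA : IsPGroup p A) :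
    ∀ a ∈ A, ∀ b ∈ A, a * b = b * a := by
  obtain ⟨P', hP'⟩ := hA.exists_le_sylow
  have : IsCyclic P' := isCyclic_of_surjective (P.equiv P') (P.equiv P').surjective
  intro a ha b hb
  let _ := IsCyclic.commGroup (α := P')
  exact congrArg Subtype.val (mul_comm (⟨a, hP' ha⟩ : P') ⟨b, hP' hb⟩)

theorem prime_dvd_card_of_sup_eq_top {G : Type*} [Group G] [Finite G] {p q : ℕ} [Fact p.Prime]
    [Fact q.Prime] (P : Sylow p G) (Q : Sylow q G) (hQ : (Q : Subgroup G).Normal)
    (h : (P : Subgroup G) ⊔ Q = ⊤) (r : ℕ) (hr : r.Prime) (hrd : r ∣ Nat.card G) :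
    r = p ∨ r = q := by
  have h1 := relIndex_mul_card_of_le
    (le_sup_left : (Q : Subgroup G) ≤ (Q : Subgroup G) ⊔ (P : Subgroup G))
  rw [Subgroup.relIndex_sup_left, sup_comm, h, Subgroup.card_top] at h1
  have h2 : (Q : Subgroup G).relIndex (P : Subgroup G) ∣ Nat.card (P : Subgroup G) :=
    Subgroup.relIndex_dvd_card _ _
  obtain ⟨a, ha⟩ := IsPGroup.iff_card.mp P.isPGroup'
  obtain ⟨b, hb⟩ := IsPGroup.iff_card.mp Q.isPGroup'
  rw [← h1] at hrd
  rcases (Nat.Prime.dvd_mul hr).mp hrd with h3 | h3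
  · left
    have h4 := h3.trans h2
    rw [ha] at h4
    exact (Nat.prime_dvd_prime_iff_eq hr (Fact.out)).mp (hr.dvd_of_dvd_pow h4)
  · right
    rw [hb] at h3
    exact (Nat.prime_dvd_prime_iff_eq hr (Fact.out)).mp (hr.dvd_of_dvd_pow h3)

/-- a Sylow `r`-subgroup is trivial when `r` does not divide the order -/
theorem sylow_eq_bot_of_not_dvd {G : Type*} [Group G] [Finite G] {r : ℕ} [Fact r.Prime]
    (R : Sylow r G) (h : ¬ r ∣ Nat.card G) : (R : Subgroup G) = ⊥ := by
  rw [← Subgroup.card_eq_one, Sylow.card_eq_multiplicity,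
    Nat.factorization_eq_zero_of_not_dvd h, pow_zero]

/-- a nilpotent `{p,q}`-subgroup is generated by a `p`-subgroup and a `q`-subgroup that commute -/
theorem exists_decomp_of_nilpotent {G : Type*} [Group G] [Finite G] {p q : ℕ} [Fact p.Prime]
    [Fact q.Prime] (hpq : p ≠ q) (K : Subgroup G) (hK : Group.IsNilpotent K)
    (hcard : ∀ r : ℕ, r.Prime → r ∣ Nat.card K → r = p ∨ r = q) :
    ∃ A B : Subgroup G, IsPGroup p A ∧ IsPGroup q B ∧ A ⊔ B = K ∧
      ∀ a ∈ A, ∀ b ∈ B, a * b = b * a := by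
  have hsyl := ((Group.isNilpotent_of_finite_tfae (G := K)).out 0 3).mp hK
  obtain ⟨Sp⟩ : Nonempty (Sylow p K) := inferInstance
  obtain ⟨Sq⟩ : Nonempty (Sylow q K) := inferInstance
  have hSpn := hsyl p inferInstance Sp
  have hSqn := hsyl q inferInstance Sq
  have htop : (Sp : Subgroup K) ⊔ (Sq : Subgroup K) = ⊤ := by
    apply eq_top_of_sylow_le
    intro r hr
    by_cases hrp : r = p
    · subst hrp
      exact ⟨Sp, le_sup_left⟩
    · by_cases hrq : r = q
      · subst hrq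
        exact ⟨Sq, le_sup_right⟩
      · obtain ⟨R⟩ : Nonempty (Sylow r K) := inferInstance
        refine ⟨R, ?_⟩
        have hnd : ¬ r ∣ Nat.card K := by
          intro h
          rcases hcard r hr.out h with h' | h'
          · exact hrp h'
          · exact hrq h'
        rw [sylow_eq_bot_of_not_dvd R hnd]
        exact bot_le
  refine ⟨(Sp : Subgroup K).map K.subtype, (Sq : Subgroup K).map K.subtype,
    Sp.isPGroup'.map K.subtype, Sq.isPGroup'.map K.subtype, ?_, ?_⟩
  · rw [← Subgroup.map_sup, htop, ← MonoidHom.range_eq_map, Subgroup.range_subtype]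
  · rintro _ ⟨a, ha, rfl⟩ _ ⟨b, hb, rfl⟩
    have hdis : Disjoint (Sp : Subgroup K) (Sq : Subgroup K) :=
      IsPGroup.disjoint_of_ne p q hpq _ _ Sp.isPGroup' Sq.isPGroup'
    have := Subgroup.commute_of_normal_of_disjoint _ _ hSpn hSqn hdis a b ha hb
    exact congrArg Subtype.val this.eq

end Cfsg.Agent.Lib.Helper1
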