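import Mathlib
import Cfsg.Agent.Lib.Lead.Basic
import Cfsg.Agent.Lib.Helper6.Comm

/-!
# Wielandt's join theorem for subnormal subgroups of a finite group (helper1)

`ncs H i` is the normal closure series of `H`; `sup_isSubnormal` is the join theorem.
-/

set_option autoImplicit false
open Pointwise

namespace Cfsg.Agent.Lib.Helper1

universe u

/-- the normal closure series of `H` in `G` -/
def ncs {G : Type*} [Group G] (H : Subgroup G) : ℕ → Subgroup G
  | 0 => ⊤
  | (i + 1) => Subgroup.closure {x | ∃ g ∈ ncs H i, ∃ h ∈ H, x = g * h * g⁻¹}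

theorem ncs_zero {G : Type*} [Group G] (H : Subgroup G) : ncs H 0 = ⊤ := rfl

theorem ncs_succ {G : Type*} [Group G] (H : Subgroup G) (i : ℕ) :
    ncs H (i + 1) = Subgroup.closure {x | ∃ g ∈ ncs H i, ∃ h ∈ H, x = g * h * g⁻¹} := rfl

theorem le_ncs {G : Type*} [Group G] (H : Subgroup G) (i : ℕ) : H ≤ ncs H i := by
  cases i with
  | zero => rw [ncs_zero]; exact le_top
  | succ i =>
    intro h hh
    rw [ncs_succ]
    apply Subgroup.subset_closure
    exact ⟨1, Subgroup.one_mem _, h, hh, by simp⟩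

theorem ncs_succ_le {G : Type*} [Group G] (H : Subgroup G) (i : ℕ) : ncs H (i + 1) ≤ ncs H i := by
  rw [ncs_succ, Subgroup.closure_le]
  rintro x ⟨g, hg, h, hh, rfl⟩
  exact Subgroup.mul_mem _ (Subgroup.mul_mem _ hg (le_ncs H i hh)) (Subgroup.inv_mem _ hg)

theorem conj_mem_ncs_succ {G : Type*} [Group G] (H : Subgroup G) (i : ℕ) (a : G)
    (ha : a ∈ ncs H i) (x : G) (hx : x ∈ ncs H (i + 1)) : a * x * a⁻¹ ∈ ncs H (i + 1) := by
  rw [ncs_succ] at hx ⊢
  induction hx using Subgroup.closure_induction with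
  | mem x hx =>
    obtain ⟨g, hg, h, hh, rfl⟩ := hx
    apply Subgroup.subset_closure
    exact ⟨a * g, Subgroup.mul_mem _ ha hg, h, hh, by group⟩
  | one => simp
  | mul x y _ _ ihx ihy =>
    have : a * (x * y) * a⁻¹ = (a * x * a⁻¹) * (a * y * a⁻¹) := by group
    rw [this]; exact Subgroup.mul_mem _ ihx ihy
  | inv x _ ihx =>
    have : a * x⁻¹ * a⁻¹ = (a * x * a⁻¹)⁻¹ := by group
    rw [this]; exact Subgroup.inv_mem _ ihx

theorem ncs_le_normalizer {G : Type*} [Group G] [Finite G] (H : Subgroup G) (i : ℕ) :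
    ncs H i ≤ Subgroup.normalizer ((ncs H (i + 1) : Subgroup G) : Set G) := by
  intro a ha
  exact Cfsg.Agent.Lib.Helper6.mem_normalizer_of_conj_mem (fun x hx => conj_mem_ncs_succ H i a ha x hx)

theorem conj_mem_ncs_of_normalizes {G : Type*} [Group G] (H : Subgroup G) (k : G)
    (hk : ∀ h ∈ H, k * h * k⁻¹ ∈ H) (i : ℕ) : ∀ x ∈ ncs H i, k * x * k⁻¹ ∈ ncs H i := by
  induction i with
  | zero => intro x _; rw [ncs_zero]; trivial
  | succ i ih =>
    intro x hx
    rw [ncs_succ] at hx ⊢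
    induction hx using Subgroup.closure_induction with
    | mem x hx =>
      obtain ⟨g, hg, h, hh, rfl⟩ := hx
      apply Subgroup.subset_closure
      exact ⟨k * g * k⁻¹, ih g hg, k * h * k⁻¹, hk h hh, by group⟩
    | one => simp
    | mul x y _ _ ihx ihy =>
      have : k * (x * y) * k⁻¹ = (k * x * k⁻¹) * (k * y * k⁻¹) := by group
      rw [this]; exact Subgroup.mul_mem _ ihx ihy
    | inv x _ ihx =>
      have : k * x⁻¹ * k⁻¹ = (k * x * k⁻¹)⁻¹ := by group
      rw [this]; exact Subgroup.inv_mem _ ihx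

theorem le_normalizer_ncs {G : Type*} [Group G] [Finite G] (H K : Subgroup G)
    (hK : K ≤ Subgroup.normalizer ((H : Subgroup G) : Set G)) (i : ℕ) :
    K ≤ Subgroup.normalizer ((ncs H i : Subgroup G) : Set G) := by
  intro k hk
  apply Cfsg.Agent.Lib.Helper6.mem_normalizer_of_conj_mem
  apply conj_mem_ncs_of_normalizes H k
  intro h hh
  exact (Subgroup.mem_normalizer_iff.mp (hK hk) h).mp hh

theorem exists_ncs_le {G : Type*} [Group G] (L : Subgroup G) (hL : L.IsSubnormal) :
    ∃ r, ∀ H : Subgroup G, H ≤ L → ncs H r ≤ L := by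
  induction hL with
  | top => exact ⟨0, fun H _ => le_top⟩
  | step L L' h_le _ hN ih =>
    obtain ⟨r, hr⟩ := ih
    refine ⟨r + 1, fun H hH => ?_⟩
    rw [ncs_succ, Subgroup.closure_le]
    rintro x ⟨g, hg, h, hh, rfl⟩
    have hgL' : g ∈ L' := hr H (hH.trans h_le) hg
    have hnorm := (Subgroup.normal_subgroupOf_iff_le_normalizer h_le).mp hN
    exact (Subgroup.mem_normalizer_iff.mp (hnorm hgL') h).mp (hH hh)

theorem exists_ncs_eq {G : Type*} [Group G] (H : Subgroup G) (hH : H.IsSubnormal) :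
    ∃ r, ncs H r = H := by
  obtain ⟨r, hr⟩ := exists_ncs_le H hH
  exact ⟨r, le_antisymm (hr H le_rfl) (le_ncs H r)⟩

/-- normal ⊔ subnormal is subnormal -/
theorem normal_sup_isSubnormal {G : Type*} [Group G] (N K : Subgroup G) [N.Normal]
    (hK : K.IsSubnormal) : (N ⊔ K).IsSubnormal := by
  have h1 : (K.map (QuotientGroup.mk' N)).IsSubnormal := hK.quotient
  have h2 := h1.comap (QuotientGroup.mk' N)
  rwa [QuotientGroup.comap_map_mk'] at h2

/-- if `K` normalizes `H`, both subnormal, then `H ⊔ K` is subnormal -/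
theorem sup_isSubnormal_of_le_normalizer {G : Type*} [Group G] [Finite G] (H K : Subgroup G)
    (hH : H.IsSubnormal) (hK : K.IsSubnormal)
    (hKH : K ≤ Subgroup.normalizer ((H : Subgroup G) : Set G)) : (H ⊔ K).IsSubnormal := by
  obtain ⟨r, hr⟩ := exists_ncs_eq H hH
  have key : ∀ i, (ncs H i ⊔ K).IsSubnormal := by
    intro i
    induction i with
    | zero => rw [ncs_zero, top_sup_eq]; exact Subgroup.IsSubnormal.top
    | succ i ih =>
      obtain ⟨M, hM⟩ : ∃ M, M = ncs H i ⊔ K := ⟨_, rfl⟩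
      rw [← hM] at ih
      have h1 : ncs H (i + 1) ≤ M := hM ▸ (ncs_succ_le H i).trans le_sup_left
      have h2 : K ≤ M := hM ▸ le_sup_right
      have hle : ncs H (i + 1) ⊔ K ≤ M := sup_le h1 h2
      have hMn : M ≤ Subgroup.normalizer ((ncs H (i + 1) : Subgroup G) : Set G) := by
        rw [hM]
        exact sup_le (ncs_le_normalizer H i) (le_normalizer_ncs H K hKH (i + 1))
      haveI : ((ncs H (i + 1)).subgroupOf M).Normal :=
        Subgroup.normal_subgroupOf_of_le_normalizer hMn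
      have h3 : ((ncs H (i + 1)).subgroupOf M ⊔ K.subgroupOf M).IsSubnormal :=
        normal_sup_isSubnormal _ _ hK.subgroupOf
      rw [← Subgroup.subgroupOf_sup h1 h2] at h3
      exact Subgroup.IsSubnormal.trans hle h3 ih
  have := key r
  rwa [hr] at this

/-- Wielandt: the join of two subnormal subgroups of a finite group is subnormal -/
theorem sup_isSubnormal_aux : ∀ (n : ℕ) (G : Type u) [Group G] [Finite G], Nat.card G = n →
    ∀ A B : Subgroup G, A.IsSubnormal → B.IsSubnormal → (A ⊔ B).IsSubnormal := by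
  intro n
  induction n using Nat.strong_induction_on with
  | _ n ih =>
  intro G _ _ hn A B hA hB
  classical
  by_cases hAtop : A = ⊤
  · rw [hAtop, top_sup_eq]; exact Subgroup.IsSubnormal.top
  obtain ⟨N, hNn, hAN, hNlt⟩ := hA.exists_normal_and_le_and_lt_top_of_ne hAtop
  have hNcard : Nat.card N < n := by
    have := Cfsg.Agent.Lib.Lead.card_lt_of_lt hNlt
    rwa [Subgroup.card_top, hn] at this
  have hNsub : N.IsSubnormal := hNn.isSubnormal
  -- joins inside `N`
  have hjoin : ∀ X Y : Subgroup G, X ≤ N → Y ≤ N → X.IsSubnormal → Y.IsSubnormal →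
      (X ⊔ Y).IsSubnormal := by
    intro X Y hX hY hXs hYs
    have h1 := ih (Nat.card N) hNcard N rfl (X.subgroupOf N) (Y.subgroupOf N)
      hXs.subgroupOf hYs.subgroupOf
    rw [← Subgroup.subgroupOf_sup hX hY] at h1
    exact Subgroup.IsSubnormal.trans (sup_le hX hY) h1 hNsub
  obtain ⟨f, hf⟩ : ∃ f : B → Subgroup G, f = fun k : B => MulAut.conj (k : G) • A := ⟨_, rfl⟩
  have hfN : ∀ k, f k ≤ N := by
    intro k x hx
    rw [hf] at hx
    have hx' : x ∈ MulAut.conj (k : G) • A := hx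
    rw [Cfsg.Agent.Lib.Lead.mem_conj_smul] at hx'
    have h1 := hNn.conj_mem _ (hAN hx') (k : G)
    have h2 : (k : G) * ((k : G)⁻¹ * x * (k : G)) * (k : G)⁻¹ = x := by group
    rwa [h2] at h1
  have hfs : ∀ k, (f k).IsSubnormal := by
    intro k; rw [hf]; exact hA.smul _
  haveI : Fintype B := Fintype.ofFinite _
  have hfin : ∀ T : Finset B, T.sup f ≤ N ∧ (T.sup f).IsSubnormal := by
    intro T
    induction T using Finset.induction_on with
    | empty => exact ⟨by simp, by rw [Finset.sup_empty]; exact Subgroup.IsSubnormal.bot⟩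
    | insert k T _ ihT =>
      rw [Finset.sup_insert]
      exact ⟨sup_le (hfN k) ihT.1, hjoin _ _ (hfN k) ihT.1 (hfs k) ihT.2⟩
  obtain ⟨A', hA'⟩ : ∃ A', A' = ⨆ k, f k := ⟨_, rfl⟩
  have hA's : A'.IsSubnormal := by
    rw [hA', ← Finset.sup_univ_eq_iSup]; exact (hfin _).2
  have hAA' : A ≤ A' := by
    have h1 : f ⟨1, B.one_mem⟩ ≤ A' := hA' ▸ le_iSup f ⟨1, B.one_mem⟩
    have h2 : f ⟨1, B.one_mem⟩ = A := by
      rw [hf]; show MulAut.conj (1 : G) • A = A
      rw [map_one, one_smul]
    rwa [h2] at h1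
  have hA'le : A' ≤ A ⊔ B := by
    rw [hA']
    apply iSup_le
    intro k x hx
    rw [hf] at hx
    have hx' : x ∈ MulAut.conj (k : G) • A := hx
    rw [Cfsg.Agent.Lib.Lead.mem_conj_smul] at hx'
    have hkB : (k : G) ∈ A ⊔ B := (le_sup_right : B ≤ A ⊔ B) k.2
    have h1 := Subgroup.mul_mem _ (Subgroup.mul_mem _ hkB ((le_sup_left : A ≤ A ⊔ B) hx'))
      (Subgroup.inv_mem _ hkB)
    have h2 : (k : G) * ((k : G)⁻¹ * x * (k : G)) * (k : G)⁻¹ = x := by group
    rwa [h2] at h1
  have hBn : B ≤ Subgroup.normalizer ((A' : Subgroup G) : Set G) := by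
    intro b hb
    apply Cfsg.Agent.Lib.Helper6.mem_normalizer_of_conj_mem
    intro x hx
    have h1 : MulAut.conj b • A' ≤ A' := by
      have h0 : MulAut.conj b • (⨆ k, f k) = ⨆ k, MulAut.conj b • f k :=
        Subgroup.map_iSup _ _
      rw [hA', h0]
      apply iSup_le
      intro k
      have h2 : MulAut.conj b • f k = f ⟨b * k, B.mul_mem hb k.2⟩ := by
        rw [hf]
        show MulAut.conj b • (MulAut.conj (k : G) • A) = MulAut.conj (b * (k : G)) • A
        rw [← mul_smul, ← map_mul]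
      rw [h2]
      exact le_iSup f _
    exact h1 (Cfsg.Agent.Lib.Lead.conj_mem_conj_smul hx)
  have h3 := sup_isSubnormal_of_le_normalizer A' B hA's hB hBn
  have h4 : A ⊔ B = A' ⊔ B :=
    le_antisymm (sup_le (hAA'.trans le_sup_left) le_sup_right) (sup_le hA'le le_sup_right)
  rw [h4]; exact h3

theorem sup_isSubnormal {G : Type u} [Group G] [Finite G] (A B : Subgroup G)
    (hA : A.IsSubnormal) (hB : B.IsSubnormal) : (A ⊔ B).IsSubnormal :=
  sup_isSubnormal_aux (Nat.card G) G rfl A B hA hB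

theorem finset_sup_isSubnormal {G : Type u} [Group G] [Finite G] {ι : Type*} (T : Finset ι)
    (f : ι → Subgroup G) (hf : ∀ i ∈ T, (f i).IsSubnormal) : (T.sup f).IsSubnormal := by
  classical
  induction T using Finset.induction_on with
  | empty => rw [Finset.sup_empty]; exact Subgroup.IsSubnormal.bot
  | insert k T _ ihT =>
    rw [Finset.sup_insert]
    exact sup_isSubnormal _ _ (hf k (Finset.mem_insert_self k T))
      (ihT (fun i hi => hf i (Finset.mem_insert_of_mem hi)))

theorem sSup_isSubnormal {G : Type u} [Group G] [Finite G] (S : Set (Subgroup G))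
    (hS : ∀ U ∈ S, U.IsSubnormal) : (sSup S).IsSubnormal := by
  have hfin : S.Finite := Set.toFinite S
  have h1 := finset_sup_isSubnormal hfin.toFinset id (fun U hU => hS U (hfin.mem_toFinset.mp hU))
  rwa [Finset.sup_id_eq_sSup, Set.Finite.coe_toFinset] at h1

end Cfsg.Agent.Lib.Helper1
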