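import Mathlib
import Cfsg.Agent.Lib.Helper1.Subnormal
import Cfsg.Agent.Lib.Lead.Hall

/-!
# Subnormal subgroups of nilpotent groups; a relative normalizing lemma (helper1)
-/

set_option autoImplicit false
open Pointwise

namespace Cfsg.Agent.Lib.Helper1

universe u

/-- in a finite nilpotent group every subgroup is subnormal -/
theorem isSubnormal_of_isNilpotent {G : Type*} [Group G] [Finite G] [Group.IsNilpotent G] :
    ∀ (n : ℕ) (H : Subgroup G), Nat.card G - Nat.card H = n → H.IsSubnormal := by
  intro n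
  induction n using Nat.strong_induction_on with
  | _ n ih =>
  intro H hn
  by_cases hH : H = ⊤
  · rw [hH]; exact Subgroup.IsSubnormal.top
  have hlt : H < Subgroup.normalizer (H : Set G) :=
    Group.normalizerCondition_of_isNilpotent H (lt_top_iff_ne_top.mpr hH)
  have h1 := Cfsg.Agent.Lib.Lead.card_lt_of_lt hlt
  have h2 : Nat.card (Subgroup.normalizer (H : Set G)) ≤ Nat.card G := Subgroup.card_le_card_group _
  have h3 := ih (Nat.card G - Nat.card (Subgroup.normalizer (H : Set G))) (by omega) _ rfl
  exact Subgroup.IsSubnormal.step H _ Subgroup.le_normalizer h3 Subgroup.normal_in_normalizer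

theorem isSubnormal_of_isNilpotent' {G : Type*} [Group G] [Finite G] [Group.IsNilpotent G]
    (H : Subgroup G) : H.IsSubnormal := isSubnormal_of_isNilpotent _ H rfl

/-- Wielandt's normalizing lemma for a conjugation-closed family of subnormal subgroups -/
theorem exists_normalizing {G : Type u} [Group G] [Finite G] (S S₀ : Set (Subgroup G))
    (hS : ∀ U ∈ S, U.IsSubnormal) (hconj : ∀ U ∈ S, ∀ g : G, MulAut.conj g • U ∈ S)
    (h₀ : S₀ ⊂ S) :
    ∃ X ∈ S, X ∉ S₀ ∧ X ≤ Subgroup.normalizer ((sSup S₀ : Subgroup G) : Set G) := by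
  obtain ⟨V, hV⟩ : ∃ V, V = (sSup S₀ : Subgroup G) := ⟨_, rfl⟩
  rw [← hV]
  have hVs : V.IsSubnormal := by
    rw [hV]
    exact sSup_isSubnormal S₀ (fun U hU => hS U (h₀.subset hU))
  obtain ⟨X₁, hX₁S, hX₁⟩ := Set.exists_of_ssubset h₀
  obtain ⟨r, hr⟩ := exists_ncs_eq V hVs
  have key : ∀ k, ncs V k = V →
      ∃ X ∈ S, X ∉ S₀ ∧ X ≤ Subgroup.normalizer ((V : Subgroup G) : Set G) := by
    intro k
    induction k with
    | zero =>
      intro hk
      refine ⟨X₁, hX₁S, hX₁, ?_⟩
      intro x _
      rw [Subgroup.mem_normalizer_iff]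
      intro h
      rw [← hk, ncs_zero]
      simp
    | succ k ih =>
      intro hk
      by_cases hk' : ncs V k = V
      · exact ih hk'
      have hnorm : ncs V k ≤ Subgroup.normalizer ((V : Subgroup G) : Set G) := by
        have := ncs_le_normalizer V k
        rwa [hk] at this
      cases k with
      | zero =>
        refine ⟨X₁, hX₁S, hX₁, ?_⟩
        intro x _
        apply hnorm
        rw [ncs_zero]; trivial
      | succ j =>
        by_contra hno
        push Not at hno
        obtain ⟨R, hR⟩ : ∃ R : Subgroup G,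
            R = sSup {X | X ∈ S ∧ X ≤ ncs V (j + 1)} := ⟨_, rfl⟩
        have hgen : ncs V (j + 1) ≤ R := by
          rw [ncs_succ, Subgroup.closure_le]
          rintro x ⟨g, hg, v, hv, rfl⟩
          have h1 : V ≤ MulAut.conj g⁻¹ • R := by
            rw [hV]
            apply sSup_le
            intro Y hY y hy
            rw [Cfsg.Agent.Lib.Lead.mem_conj_smul, inv_inv]
            have h2 : MulAut.conj g • Y ∈ S := hconj Y (h₀.subset hY) g
            have h3 : MulAut.conj g • Y ≤ ncs V (j + 1) := by
              intro z hz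
              rw [Cfsg.Agent.Lib.Lead.mem_conj_smul] at hz
              rw [ncs_succ]
              apply Subgroup.subset_closure
              refine ⟨g, hg, g⁻¹ * z * g, ?_, by group⟩
              rw [hV]
              exact (le_sSup hY : Y ≤ sSup S₀) hz
            have h4 : MulAut.conj g • Y ≤ R := by
              rw [hR]; exact le_sSup ⟨h2, h3⟩
            exact h4 (Cfsg.Agent.Lib.Lead.conj_mem_conj_smul hy)
          have h5 := h1 hv
          rwa [Cfsg.Agent.Lib.Lead.mem_conj_smul, inv_inv] at h5
        have hRV : R ≤ V := by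
          rw [hR]
          apply sSup_le
          rintro X ⟨hXS, hXle⟩
          have hXS₀ : X ∈ S₀ := by
            by_contra hX
            exact hno X hXS hX (hXle.trans hnorm)
          rw [hV]; exact le_sSup hXS₀
        exact hk' (le_antisymm (hgen.trans hRV) (le_ncs V (j + 1)))
  exact key r hr

/-- relative version inside a subgroup `P` all of whose subgroups are subnormal -/
theorem exists_normalizing_rel {G : Type u} [Group G] [Finite G] (P : Subgroup G)
    (hP : ∀ U : Subgroup P, U.IsSubnormal) (S S₀ : Set (Subgroup G))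
    (hSP : ∀ X ∈ S, X ≤ P) (hconj : ∀ X ∈ S, ∀ a ∈ P, MulAut.conj a • X ∈ S) (h₀ : S₀ ⊂ S) :
    ∃ X ∈ S, X ∉ S₀ ∧ X ≤ Subgroup.normalizer ((sSup S₀ : Subgroup G) : Set G) := by
  obtain ⟨S', hS'⟩ : ∃ S' : Set (Subgroup P), S' = {U | U.map P.subtype ∈ S} := ⟨_, rfl⟩
  obtain ⟨S₀', hS₀'⟩ : ∃ S₀' : Set (Subgroup P), S₀' = {U | U.map P.subtype ∈ S₀} := ⟨_, rfl⟩
  have hconj' : ∀ U ∈ S', ∀ a : P, MulAut.conj a • U ∈ S' := by
    intro U hU a
    rw [hS'] at hU ⊢
    show (MulAut.conj a • U).map P.subtype ∈ S
    rw [Cfsg.Agent.Lib.Lead.map_conj_smul]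
    exact hconj _ hU _ a.2
  have h₀' : S₀' ⊂ S' := by
    refine ⟨?_, ?_⟩
    · intro U hU
      rw [hS₀'] at hU; rw [hS']
      exact h₀.subset hU
    · intro hsub
      obtain ⟨X, hXS, hX⟩ := Set.exists_of_ssubset h₀
      have h1 : (X.subgroupOf P).map P.subtype = X := Subgroup.map_subgroupOf_eq_of_le (hSP X hXS)
      have h2 : X.subgroupOf P ∈ S' := by
        rw [hS']; show (X.subgroupOf P).map P.subtype ∈ S
        rw [h1]; exact hXS
      have h3 := hsub h2
      rw [hS₀'] at h3
      have h4 : (X.subgroupOf P).map P.subtype ∈ S₀ := h3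
      rw [h1] at h4
      exact hX h4
  obtain ⟨U, hUS, hU₀, hUn⟩ := exists_normalizing S' S₀' (fun U _ => hP U) hconj' h₀'
  refine ⟨U.map P.subtype, ?_, ?_, ?_⟩
  · rw [hS'] at hUS; exact hUS
  · intro h; apply hU₀; rw [hS₀']; exact h
  · have hmap : (sSup S₀' : Subgroup P).map P.subtype = sSup S₀ := by
      apply le_antisymm
      · rw [Subgroup.map_le_iff_le_comap]
        apply sSup_le
        intro U' hU'
        rw [← Subgroup.map_le_iff_le_comap]
        rw [hS₀'] at hU'
        exact le_sSup hU'
      · apply sSup_le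
        intro X hX
        have h1 : (X.subgroupOf P).map P.subtype = X :=
          Subgroup.map_subgroupOf_eq_of_le (hSP X (h₀.subset hX))
        have h2 : X.subgroupOf P ∈ S₀' := by
          rw [hS₀']; show (X.subgroupOf P).map P.subtype ∈ S₀
          rw [h1]; exact hX
        rw [← h1]
        exact Subgroup.map_mono (le_sSup h2)
    rw [← hmap]
    exact (Subgroup.map_mono hUn).trans (Subgroup.le_normalizer_map P.subtype)

end Cfsg.Agent.Lib.Helper1
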