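import Mathlib
import Cfsg.Prelude.Def_SolvableStructure
import Cfsg.Agent.Lib.Helper1.NC

set_option autoImplicit false

namespace Cfsg.Agent.Lib.Helper1

/-- Chains of normal subgroups with cyclic steps, as an inductive predicate on the top term. -/
inductive SSChain {G : Type*} [Group G] : Subgroup G → Prop
  | bot : SSChain ⊥
  | step (N : Subgroup G) (g : G) : SSChain N → (N ⊔ Subgroup.zpowers g).Normal →
      SSChain (N ⊔ Subgroup.zpowers g)

theorem SSChain.normal {G : Type*} [Group G] {N : Subgroup G} (h : SSChain N) : N.Normal := by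
  cases h with
  | bot => exact Subgroup.normal_bot
  | step N g _ hn => exact hn

theorem ssChain_of_isSupersolvable {G : Type*} [Group G] (h : Cfsg.IsSupersolvable G) :
    SSChain (⊤ : Subgroup G) := by
  obtain ⟨n, H, h0, hlast, hnorm, hstep⟩ := h
  have key : ∀ (i : ℕ) (hi : i < n + 1), SSChain (H ⟨i, hi⟩) := by
    intro i
    induction i with
    | zero =>
      intro hi
      have : (⟨0, hi⟩ : Fin (n + 1)) = 0 := rfl
      rw [this, h0]
      exact SSChain.bot
    | succ i ih =>
      intro hi
      have hi' : i < n := by omega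
      obtain ⟨g, hg⟩ := hstep ⟨i, hi'⟩
      have e1 : (⟨i, hi'⟩ : Fin n).succ = ⟨i + 1, hi⟩ := rfl
      have e2 : (⟨i, hi'⟩ : Fin n).castSucc = ⟨i, by omega⟩ := rfl
      rw [e1, e2] at hg
      rw [hg]
      refine SSChain.step _ g (ih (by omega)) ?_
      rw [← hg]
      exact hnorm _
  have := key n (by omega)
  have e : (⟨n, by omega⟩ : Fin (n + 1)) = Fin.last n := rfl
  rw [e, hlast] at this
  exact this

theorem exists_chain_of_ssChain {G : Type*} [Group G] {N : Subgroup G} (h : SSChain N) :
    ∃ (n : ℕ) (H : Fin (n + 1) → Subgroup G),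
      H 0 = ⊥ ∧ H (Fin.last n) = N ∧ (∀ i, (H i).Normal) ∧
        ∀ i : Fin n, ∃ g : G, H i.succ = H i.castSucc ⊔ Subgroup.zpowers g := by
  induction h with
  | bot =>
    refine ⟨0, fun _ => ⊥, rfl, rfl, fun _ => Subgroup.normal_bot, fun i => i.elim0⟩
  | step N g hN hn ih =>
    obtain ⟨n, H, h0, hlast, hnorm, hstep⟩ := ih
    refine ⟨n + 1, Fin.snoc H (N ⊔ Subgroup.zpowers g), ?_, ?_, ?_, ?_⟩
    · have : (0 : Fin (n + 1 + 1)) = Fin.castSucc 0 := rfl
      rw [this, Fin.snoc_castSucc]
      exact h0
    · rw [Fin.snoc_last]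
    · intro i
      induction i using Fin.lastCases with
      | last => rw [Fin.snoc_last]; exact hn
      | cast j => rw [Fin.snoc_castSucc]; exact hnorm j
    · intro i
      induction i using Fin.lastCases with
      | last =>
        refine ⟨g, ?_⟩
        rw [Fin.succ_last, Fin.snoc_last, Fin.snoc_castSucc, hlast]
      | cast j =>
        obtain ⟨g', hg'⟩ := hstep j
        refine ⟨g', ?_⟩
        rw [Fin.succ_castSucc, Fin.snoc_castSucc, Fin.snoc_castSucc, hg']

theorem isSupersolvable_iff_ssChain {G : Type*} [Group G] :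
    Cfsg.IsSupersolvable G ↔ SSChain (⊤ : Subgroup G) :=
  ⟨ssChain_of_isSupersolvable, fun h => exists_chain_of_ssChain h⟩

/-- images under surjective homomorphisms -/
theorem SSChain.map {G G' : Type*} [Group G] [Group G'] (f : G →* G')
    (hf : Function.Surjective f) {N : Subgroup G} (h : SSChain N) : SSChain (N.map f) := by
  induction h with
  | bot => rw [Subgroup.map_bot]; exact SSChain.bot
  | step N g hN hn ih =>
    have e : (N ⊔ Subgroup.zpowers g).map f = N.map f ⊔ Subgroup.zpowers (f g) := by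
      rw [Subgroup.map_sup, MonoidHom.map_zpowers]
    rw [e]
    refine SSChain.step _ _ ih ?_
    rw [← e]
    exact Subgroup.Normal.map hn f hf

theorem isSupersolvable_of_surjective {G G' : Type*} [Group G] [Group G'] (f : G →* G')
    (hf : Function.Surjective f) (h : Cfsg.IsSupersolvable G) : Cfsg.IsSupersolvable G' := by
  rw [isSupersolvable_iff_ssChain] at h ⊢
  have := h.map f hf
  rwa [Subgroup.map_top_of_surjective f hf] at this

theorem isSupersolvable_quotient {G : Type*} [Group G] (N : Subgroup G) [N.Normal]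
    (h : Cfsg.IsSupersolvable G) : Cfsg.IsSupersolvable (G ⧸ N) :=
  isSupersolvable_of_surjective (QuotientGroup.mk' N) (QuotientGroup.mk'_surjective N) h

/-- restriction to a subgroup -/
theorem SSChain.subgroupOf {G : Type*} [Group G] (H : Subgroup G) {N : Subgroup G}
    (h : SSChain N) : SSChain (N.subgroupOf H) := by
  induction h with
  | bot => rw [Subgroup.bot_subgroupOf]; exact SSChain.bot
  | step N g hN hn ih =>
    have : N.Normal := hN.normal
    let φ : H →* G ⧸ N := (QuotientGroup.mk' N).comp H.subtype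
    have hker : φ.ker = N.subgroupOf H := by
      ext x
      simp only [φ, MonoidHom.mem_ker, MonoidHom.coe_comp, Function.comp_apply,
        Subgroup.coe_subtype, QuotientGroup.mk'_apply, QuotientGroup.eq_one_iff,
        Subgroup.mem_subgroupOf]
    have hle : ((N ⊔ Subgroup.zpowers g).subgroupOf H).map φ ≤
        Subgroup.zpowers ((QuotientGroup.mk' N) g) := by
      rintro _ ⟨x, hx, rfl⟩
      have hx' : (x : G) ∈ N ⊔ Subgroup.zpowers g := hx
      have : (QuotientGroup.mk' N) (x : G) ∈ (N ⊔ Subgroup.zpowers g).map (QuotientGroup.mk' N) :=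
        Subgroup.mem_map_of_mem _ hx'
      rw [Subgroup.map_sup, MonoidHom.map_zpowers] at this
      have hb : N.map (QuotientGroup.mk' N) = ⊥ := by
        rw [Subgroup.map_eq_bot_iff, QuotientGroup.ker_mk']
      rw [hb, bot_sup_eq] at this
      exact this
    have : IsCyclic (((N ⊔ Subgroup.zpowers g).subgroupOf H).map φ) :=
      Subgroup.isCyclic_of_le hle
    obtain ⟨y, hy⟩ := (Subgroup.isCyclic_iff_exists_zpowers_eq_top
      (H := ((N ⊔ Subgroup.zpowers g).subgroupOf H).map φ)).mp inferInstance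
    have hymem : y ∈ ((N ⊔ Subgroup.zpowers g).subgroupOf H).map φ := by
      rw [← hy]; exact Subgroup.mem_zpowers y
    obtain ⟨h, hh, rfl⟩ := hymem
    have e : (N ⊔ Subgroup.zpowers g).subgroupOf H = N.subgroupOf H ⊔ Subgroup.zpowers h := by
      apply le_antisymm
      · intro k hk
        have hk' : φ k ∈ Subgroup.zpowers (φ h) := by
          rw [hy]; exact Subgroup.mem_map_of_mem _ hk
        obtain ⟨m, hm⟩ := Subgroup.mem_zpowers_iff.mp hk'
        have hmem : (h ^ m)⁻¹ * k ∈ N.subgroupOf H := by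
          rw [← hker, MonoidHom.mem_ker, map_mul, map_inv, map_zpow, hm, inv_mul_cancel]
        have : k = h ^ m * ((h ^ m)⁻¹ * k) := by group
        rw [this]
        exact Subgroup.mul_mem _ (Subgroup.mem_sup_right (Subgroup.zpow_mem_zpowers h m))
          (Subgroup.mem_sup_left hmem)
      · refine sup_le ?_ ?_
        · intro k hk
          exact Subgroup.mem_sup_left (Subgroup.mem_subgroupOf.mp hk)
        · rw [Subgroup.zpowers_le]; exact hh
    rw [e]
    refine SSChain.step _ _ ih ?_
    rw [← e]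
    exact Subgroup.Normal.subgroupOf hn H

theorem isSupersolvable_subgroup {G : Type*} [Group G] (H : Subgroup G)
    (h : Cfsg.IsSupersolvable G) : Cfsg.IsSupersolvable H := by
  rw [isSupersolvable_iff_ssChain] at h ⊢
  have := h.subgroupOf H
  rwa [Subgroup.top_subgroupOf] at this

/-- pull back along the quotient by a cyclic normal subgroup -/
theorem SSChain.comap_mk {G : Type*} [Group G] (N : Subgroup G) [N.Normal] [IsCyclic N]
    {M : Subgroup (G ⧸ N)} (h : SSChain M) : SSChain (M.comap (QuotientGroup.mk' N)) := by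
  induction h with
  | bot =>
    have e : (⊥ : Subgroup (G ⧸ N)).comap (QuotientGroup.mk' N) = N := by
      rw [MonoidHom.comap_bot, QuotientGroup.ker_mk']
    obtain ⟨g, hg⟩ := (Subgroup.isCyclic_iff_exists_zpowers_eq_top (H := N)).mp inferInstance
    have e2 : N = ⊥ ⊔ Subgroup.zpowers g := by rw [bot_sup_eq, hg]
    rw [e]
    have := SSChain.step (⊥ : Subgroup G) g SSChain.bot (by rw [← e2]; infer_instance)
    rwa [← e2] at this
  | step M x hM hn ih =>
    obtain ⟨g, rfl⟩ := QuotientGroup.mk'_surjective N x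
    have e : (M ⊔ Subgroup.zpowers ((QuotientGroup.mk' N) g)).comap (QuotientGroup.mk' N) =
        M.comap (QuotientGroup.mk' N) ⊔ Subgroup.zpowers g := by
      rw [← Subgroup.comap_sup_eq _ _ _ (QuotientGroup.mk'_surjective N),
        ← MonoidHom.map_zpowers, Subgroup.comap_map_eq, QuotientGroup.ker_mk']
      have hNle : N ≤ M.comap (QuotientGroup.mk' N) := by
        intro n hn'
        rw [Subgroup.mem_comap]
        have : (QuotientGroup.mk' N) n = 1 := by
          rw [QuotientGroup.mk'_apply, QuotientGroup.eq_one_iff]; exact hn'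
        rw [this]; exact Subgroup.one_mem _
      rw [sup_comm (Subgroup.zpowers g) N, ← sup_assoc, sup_eq_left.mpr hNle]
    rw [e]
    refine SSChain.step _ _ ih ?_
    rw [← e]
    exact Subgroup.Normal.comap hn _

theorem isSupersolvable_of_quotient_cyclic {G : Type*} [Group G] (N : Subgroup G) [N.Normal]
    [IsCyclic N] (h : Cfsg.IsSupersolvable (G ⧸ N)) : Cfsg.IsSupersolvable G := by
  rw [isSupersolvable_iff_ssChain] at h ⊢
  have := h.comap_mk N
  rwa [Subgroup.comap_top] at this

theorem isSupersolvable_of_isCyclic {G : Type*} [Group G] [IsCyclic G] :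
    Cfsg.IsSupersolvable G := by
  rw [isSupersolvable_iff_ssChain]
  obtain ⟨g, hg⟩ := IsCyclic.exists_generator (α := G)
  have e : (⊤ : Subgroup G) = ⊥ ⊔ Subgroup.zpowers g := by
    rw [bot_sup_eq, eq_comm, Subgroup.eq_top_iff']
    exact hg
  have := SSChain.step (⊥ : Subgroup G) g SSChain.bot (by rw [← e]; infer_instance)
  rwa [← e] at this

theorem prod_bot_eq_map_inl {G H : Type*} [Group G] [Group H] (N : Subgroup G) :
    N.prod (⊥ : Subgroup H) = N.map (MonoidHom.inl G H) := by
  ext ⟨a, b⟩
  simp only [Subgroup.mem_prod, Subgroup.mem_bot, Subgroup.mem_map, MonoidHom.inl_apply,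
    Prod.mk.injEq]
  constructor
  · rintro ⟨ha, rfl⟩; exact ⟨a, ha, rfl, rfl⟩
  · rintro ⟨x, hx, rfl, rfl⟩; exact ⟨hx, rfl⟩

theorem bot_prod_eq_map_inr {G H : Type*} [Group G] [Group H] (M : Subgroup H) :
    (⊥ : Subgroup G).prod M = M.map (MonoidHom.inr G H) := by
  ext ⟨a, b⟩
  simp only [Subgroup.mem_prod, Subgroup.mem_bot, Subgroup.mem_map, MonoidHom.inr_apply,
    Prod.mk.injEq]
  constructor
  · rintro ⟨rfl, hb⟩; exact ⟨b, hb, rfl, rfl⟩
  · rintro ⟨x, hx, rfl, rfl⟩; exact ⟨rfl, hx⟩

/-- products -/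
theorem SSChain.prod_bot {G H : Type*} [Group G] [Group H] {N : Subgroup G} (h : SSChain N) :
    SSChain (N.prod (⊥ : Subgroup H)) := by
  induction h with
  | bot => rw [Subgroup.bot_prod_bot]; exact SSChain.bot
  | step N g hN hn ih =>
    have e : (N ⊔ Subgroup.zpowers g).prod (⊥ : Subgroup H) =
        N.prod (⊥ : Subgroup H) ⊔ Subgroup.zpowers ((g, 1) : G × H) := by
      rw [prod_bot_eq_map_inl, prod_bot_eq_map_inl, Subgroup.map_sup, MonoidHom.map_zpowers]
      rfl
    rw [e]
    refine SSChain.step _ _ ih ?_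
    rw [← e]
    have := hn
    exact Subgroup.prod_normal _ _

theorem SSChain.top_prod {G H : Type*} [Group G] [Group H]
    (hG : SSChain ((⊤ : Subgroup G).prod (⊥ : Subgroup H))) {M : Subgroup H} (h : SSChain M) :
    SSChain ((⊤ : Subgroup G).prod M) := by
  induction h with
  | bot => exact hG
  | step M x hM hn ih =>
    have e : (⊤ : Subgroup G).prod (M ⊔ Subgroup.zpowers x) =
        (⊤ : Subgroup G).prod M ⊔ Subgroup.zpowers ((1, x) : G × H) := by
      apply le_antisymm
      · rintro ⟨a, b⟩ ⟨-, hb⟩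
        have hb' : b ∈ M ⊔ Subgroup.zpowers x := hb
        have h1 : ((a, 1) : G × H) ∈ (⊤ : Subgroup G).prod M :=
          ⟨Subgroup.mem_top _, Subgroup.one_mem _⟩
        have h2 : ((1, b) : G × H) ∈ (M ⊔ Subgroup.zpowers x).map (MonoidHom.inr G H) :=
          ⟨b, hb', rfl⟩
        rw [Subgroup.map_sup, MonoidHom.map_zpowers, ← bot_prod_eq_map_inr] at h2
        have h3 : (⊥ : Subgroup G).prod M ⊔ Subgroup.zpowers ((MonoidHom.inr G H) x) ≤
            (⊤ : Subgroup G).prod M ⊔ Subgroup.zpowers ((1, x) : G × H) :=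
          sup_le_sup (Subgroup.prod_mono bot_le le_rfl) le_rfl
        have h4 : ((a, b) : G × H) = (a, 1) * (1, b) := by simp
        rw [h4]
        exact Subgroup.mul_mem _ (Subgroup.mem_sup_left h1) (h3 h2)
      · refine sup_le (Subgroup.prod_mono le_rfl le_sup_left) ?_
        rw [Subgroup.zpowers_le]
        exact ⟨Subgroup.mem_top _, Subgroup.mem_sup_right (Subgroup.mem_zpowers x)⟩
    rw [e]
    refine SSChain.step _ _ ih ?_
    rw [← e]
    have := hn
    exact Subgroup.prod_normal _ _

theorem isSupersolvable_prod {G H : Type*} [Group G] [Group H] (hG : Cfsg.IsSupersolvable G)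
    (hH : Cfsg.IsSupersolvable H) : Cfsg.IsSupersolvable (G × H) := by
  rw [isSupersolvable_iff_ssChain] at hG hH ⊢
  have := SSChain.top_prod (hG.prod_bot (H := H)) hH
  rwa [Subgroup.top_prod_top] at this

end Cfsg.Agent.Lib.Helper1
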