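import Mathlib
import Cfsg.Prelude.Def_SolvableStructure
import Cfsg.Agent.Lib.Helper1.NC
import Cfsg.Agent.Lib.Helper1.Supersolvable
import Cfsg.Agent.Lib.Lead.Basic
import Cfsg.Agent.Lib.Lead.Hall

set_option autoImplicit false

namespace Cfsg.Agent.Lib.Helper1

universe u

theorem zpowers_normal_of_conj_mem {G : Type*} [Group G] (c : G)
    (h : ∀ x : G, x * c * x⁻¹ ∈ Subgroup.zpowers c) : (Subgroup.zpowers c).Normal := by
  constructor
  intro y hy x
  obtain ⟨i, rfl⟩ := Subgroup.mem_zpowers_iff.mp hy
  rw [← conj_zpow]
  exact Subgroup.zpow_mem _ (h x) i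

theorem zpowers_pow_normal {G : Type*} [Group G] (g : G) (j : ℕ)
    (h : (Subgroup.zpowers g).Normal) : (Subgroup.zpowers (g ^ j)).Normal := by
  apply zpowers_normal_of_conj_mem
  intro x
  have h1 := h.conj_mem g (Subgroup.mem_zpowers g) x
  obtain ⟨k, hk⟩ := Subgroup.mem_zpowers_iff.mp h1
  have e : (g ^ k) ^ j = (g ^ j) ^ k := by
    rw [← zpow_natCast, ← zpow_mul, mul_comm, zpow_mul, zpow_natCast]
  rw [← conj_pow, ← hk, e]
  exact Subgroup.zpow_mem_zpowers _ k

theorem exists_normal_prime_of_zpowers_normal {G : Type*} [Group G] [Finite G] (g : G)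
    (h : (Subgroup.zpowers g).Normal) (hg : g ≠ 1) :
    ∃ C : Subgroup G, C.Normal ∧ (Nat.card C).Prime := by
  have hm : orderOf g ≠ 1 := by rwa [Ne, orderOf_eq_one_iff]
  obtain ⟨p, hp, hpd⟩ := Nat.exists_prime_and_dvd hm
  obtain ⟨k, hk⟩ := hpd
  have hkpos : k ≠ 0 := by
    rintro rfl
    rw [mul_zero] at hk
    exact (orderOf_pos g).ne' hk
  refine ⟨Subgroup.zpowers (g ^ k), zpowers_pow_normal g k h, ?_⟩
  rw [Nat.card_zpowers, orderOf_pow_of_dvd hkpos ⟨p, by rw [hk, mul_comm]⟩, hk,
    Nat.mul_div_cancel _ (Nat.pos_of_ne_zero hkpos)]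
  exact hp

theorem SSChain.exists_normal_prime {G : Type*} [Group G] [Finite G] {N : Subgroup G}
    (h : SSChain N) (hN : N ≠ ⊥) : ∃ C : Subgroup G, C.Normal ∧ (Nat.card C).Prime := by
  induction h with
  | bot => exact absurd rfl hN
  | step N g hN' hn ih =>
    by_cases hb : N = ⊥
    · subst hb
      rw [bot_sup_eq] at hn hN
      refine exists_normal_prime_of_zpowers_normal g hn ?_
      rintro rfl
      exact hN Subgroup.zpowers_one_eq_bot
    · exact ih hb

theorem exists_normal_prime_of_isSupersolvable {G : Type*} [Group G] [Finite G] [Nontrivial G]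
    (h : Cfsg.IsSupersolvable G) : ∃ C : Subgroup G, C.Normal ∧ (Nat.card C).Prime :=
  (ssChain_of_isSupersolvable h).exists_normal_prime top_ne_bot

/-- the derived subgroup of a supersolvable group is nilpotent -/
theorem SSChain.le_upperCentralSeries {G : Type*} [Group G] {N : Subgroup G} (h : SSChain N) :
    ∃ c : ℕ, N.subgroupOf (commutator G) ≤ Subgroup.upperCentralSeries (commutator G) c := by
  induction h with
  | bot => exact ⟨0, by rw [Subgroup.bot_subgroupOf]; exact bot_le⟩
  | step N g hN hn ih =>
    obtain ⟨c, hc⟩ := ih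
    have : N.Normal := hN.normal
    refine ⟨c + 1, ?_⟩
    intro x hx
    rw [Subgroup.mem_upperCentralSeries_succ_iff]
    intro y
    apply hc
    rw [commutatorElement_def]
    rw [Subgroup.mem_subgroupOf]
    have hx' : (x : G) ∈ N ⊔ Subgroup.zpowers g := hx
    have hCeq : Subgroup.zpowers ((QuotientGroup.mk' N) g) =
        (N ⊔ Subgroup.zpowers g).map (QuotientGroup.mk' N) := by
      rw [Subgroup.map_sup, MonoidHom.map_zpowers,
        (Subgroup.map_eq_bot_iff _).mpr (by rw [QuotientGroup.ker_mk']), bot_sup_eq]
    have hCn : (Subgroup.zpowers ((QuotientGroup.mk' N) g)).Normal := by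
      rw [hCeq]; exact Subgroup.Normal.map hn _ (QuotientGroup.mk'_surjective N)
    have hxC : (QuotientGroup.mk' N) (x : G) ∈ Subgroup.zpowers ((QuotientGroup.mk' N) g) := by
      rw [hCeq]; exact Subgroup.mem_map_of_mem _ hx'
    have hyc : (QuotientGroup.mk' N) (y : G) ∈ commutator (G ⧸ N) := by
      have hle : (commutator G).map (QuotientGroup.mk' N) ≤ commutator (G ⧸ N) := by
        rw [commutator_def, commutator_def, Subgroup.map_commutator]
        exact Subgroup.commutator_mono le_top le_top
      exact hle (Subgroup.mem_map_of_mem _ y.2)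
    have hcent := commutator_le_centralizer_of_cyclic
      (Subgroup.zpowers ((QuotientGroup.mk' N) g)) hyc
    rw [Subgroup.mem_centralizer_iff] at hcent
    have hcomm := hcent _ hxC
    have h1 : (QuotientGroup.mk' N) ((x : G) * y * (x : G)⁻¹ * (y : G)⁻¹) = 1 := by
      rw [map_mul, map_mul, map_mul, map_inv, map_inv, hcomm]
      group
    rw [QuotientGroup.mk'_apply, QuotientGroup.eq_one_iff] at h1
    simpa using h1

theorem isNilpotent_commutator_of_isSupersolvable {G : Type*} [Group G]
    (h : Cfsg.IsSupersolvable G) : Group.IsNilpotent (commutator G) := by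
  obtain ⟨c, hc⟩ := (ssChain_of_isSupersolvable h).le_upperCentralSeries
  rw [Subgroup.top_subgroupOf] at hc
  exact ⟨⟨c, top_le_iff.mp hc⟩⟩

/-- maximal subgroups have prime index -/
theorem index_prime_of_isCoatom_aux : ∀ (n : ℕ) (G : Type u) [Group G] [Finite G],
    Nat.card G ≤ n → Cfsg.IsSupersolvable G → ∀ M : Subgroup G, IsCoatom M → M.index.Prime := by
  intro n
  induction n with
  | zero =>
    intro G _ _ hn
    exact absurd hn (by have := Nat.card_pos (α := G); omega)
  | succ n ih =>
    intro G _ _ hn hG M hM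
    have : Nontrivial G := by
      by_contra hnt
      rw [not_nontrivial_iff_subsingleton] at hnt
      exact hM.1 (Subsingleton.elim _ _)
    obtain ⟨C, hCn, hCp⟩ := exists_normal_prime_of_isSupersolvable hG
    by_cases hCM : C ≤ M
    · have hcard := Subgroup.card_eq_card_quotient_mul_card_subgroup C
      have hlt : Nat.card (G ⧸ C) ≤ n := by
        have h2 := hCp.two_le
        have hpos := Nat.card_pos (α := G ⧸ C)
        nlinarith
      have hker : (QuotientGroup.mk' C).ker ≤ M := by rw [QuotientGroup.ker_mk']; exact hCM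
      have hsurj := QuotientGroup.mk'_surjective C
      have hco : IsCoatom (M.map (QuotientGroup.mk' C)) := by
        constructor
        · intro htop
          apply hM.1
          rw [← Subgroup.comap_map_eq_self hker, htop, Subgroup.comap_top]
        · intro K hK
          have h1 : M ≤ K.comap (QuotientGroup.mk' C) := by
            rw [← Subgroup.comap_map_eq_self hker]
            exact Subgroup.comap_mono hK.le
          have h2 : M ≠ K.comap (QuotientGroup.mk' C) := by
            intro heq
            apply hK.ne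
            rw [heq, Subgroup.map_comap_eq_self_of_surjective hsurj]
          have h3 := hM.2 _ (lt_of_le_of_ne h1 h2)
          rw [← Subgroup.map_comap_eq_self_of_surjective hsurj K, h3,
            Subgroup.map_top_of_surjective _ hsurj]
      have := ih (G ⧸ C) hlt (isSupersolvable_quotient C hG) _ hco
      rwa [Subgroup.index_map_eq M hsurj hker] at this
    · have hsup : C ⊔ M = ⊤ := by
        apply hM.2
        refine lt_of_le_of_ne le_sup_right ?_
        intro heq
        apply hCM
        rw [heq]
        exact le_sup_left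
      have hinf : C ⊓ M = ⊥ := by
        have hdvd : Nat.card ↥(C ⊓ M) ∣ Nat.card C := Subgroup.card_dvd_of_le inf_le_left
        rcases (Nat.dvd_prime hCp).mp hdvd with h1 | h1
        · exact Subgroup.eq_bot_of_card_eq _ h1
        · exfalso
          apply hCM
          have : C ⊓ M = C := Subgroup.eq_of_le_of_card_ge inf_le_left h1.ge
          rw [← this]
          exact inf_le_right
      have hc := Cfsg.Agent.Lib.Lead.card_sup_of_normal_of_disjoint C M hinf
      rw [hsup, Subgroup.card_top] at hc
      have hi := Subgroup.index_mul_card M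
      rw [hc] at hi
      have hMpos : 0 < Nat.card M := Nat.card_pos
      have : M.index = Nat.card C := Nat.eq_of_mul_eq_mul_right hMpos hi
      rw [this]
      exact hCp

theorem index_prime_of_isCoatom {G : Type*} [Group G] [Finite G]
    (hG : Cfsg.IsSupersolvable G) (M : Subgroup G) (hM : IsCoatom M) : M.index.Prime :=
  index_prime_of_isCoatom_aux (Nat.card G) G le_rfl hG M hM

end Cfsg.Agent.Lib.Helper1
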