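import Cfsg.Agent.Lib.Helper1.EG4

set_option autoImplicit false

namespace Cfsg.Agent.Lib.Helper1

open Cfsg.Agent.Lib.Helper3

universe u

section
variable {p : ℕ} [Fact p.Prime]

/-- Control of transfer in all smaller sections and control of the `O_p`-part (when the group
is constrained) give control of transfer. -/
theorem tc_of_small (𝓦 : Set (∀ (Q : Type u) [Group Q], Subgroup Q))
    (h𝓦 : ∀ W ∈ 𝓦, Cfsg.IsCharPFunctor.{u} p W) {G : Type u} [Group G] [Finite G]
    (hsmall : ∀ (Y : Type u) [Group Y] [Finite Y], IsSectionOf G Y → Nat.card Y < Nat.card G →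
      ∀ T : Sylow p Y, TC 𝓦 Y ⊤ (T : Subgroup Y))
    (hG : Subgroup.centralizer (Cfsg.pCore p G : Set G) ≤ Cfsg.pCore p G →
      ∀ T : Sylow p G, Cfsg.pCore p G ⊓ commutator G ≤ TD 𝓦 G ⊤ (T : Subgroup G))
    (T : Sylow p G) : TC 𝓦 G ⊤ (T : Subgroup G) := by
  refine tc_all 𝓦 h𝓦
    (fun X _ => IsSectionOf G X ∧ (Nat.card X < Nat.card G ∨ Nonempty (X ≃* G))) ?_ ?_ ?_ G
    ⟨isSectionOf_self G, Or.inr ⟨MulEquiv.refl G⟩⟩ T
  · rintro X _ _ ⟨hXs, hX⟩ K
    refine ⟨isSectionOf_subgroup hXs K, ?_⟩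
    by_cases hK : K = ⊤
    · subst hK
      rcases hX with h | ⟨⟨e⟩⟩
      · left; rw [Subgroup.card_top]; exact h
      · right; exact ⟨Subgroup.topEquiv.trans e⟩
    · left
      have h1 : Nat.card K < Nat.card X :=
        lt_of_le_of_ne (Subgroup.card_le_card_group K)
          (fun h1 => hK (Subgroup.eq_top_of_card_eq K h1))
      rcases hX with h | ⟨⟨e⟩⟩
      · omega
      · rw [Nat.card_congr e.toEquiv] at h1; exact h1
  · rintro X _ _ ⟨hXs, hX⟩ N _
    refine ⟨isSectionOf_quotient hXs N, ?_⟩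
    by_cases hN : N = ⊥
    · subst hN
      rcases hX with h | ⟨⟨e⟩⟩
      · left
        rw [Nat.card_congr (QuotientGroup.quotientBot (G := X)).toEquiv]; exact h
      · right; exact ⟨QuotientGroup.quotientBot.trans e⟩
    · left
      have h1 : Nat.card (X ⧸ N) < Nat.card X := by
        rw [Subgroup.card_eq_card_quotient_mul_card_subgroup N]
        have h1 : 1 < Nat.card N := N.one_lt_card_iff_ne_bot.mpr hN
        have h2 : 0 < Nat.card (X ⧸ N) := Nat.card_pos
        nlinarith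
      rcases hX with h | ⟨⟨e⟩⟩
      · omega
      · rw [Nat.card_congr e.toEquiv] at h1; exact h1
  · rintro X _ _ ⟨hXs, hX⟩ hcon _ T
    rcases hX with h | ⟨⟨e⟩⟩
    · refine le_trans (inf_le_inf (Cfsg.Agent.Lib.Helper4.pCore_le_sylow T) ?_) (hsmall X hXs h T)
      rw [commutator_def]
    · have h1 := hG (constrained_equiv e hcon) (T.mapSurjective (f := e.toMonoidHom) e.surjective)
      have h1' : Cfsg.pCore p G ⊓ commutator G ≤ TD 𝓦 G ⊤ ((T : Subgroup X).map e.toMonoidHom) := h1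
      have h2 := tq_equiv h𝓦 e.symm _ (T.isPGroup'.map _) h1'
      have e3 : ((T : Subgroup X).map e.toMonoidHom).map e.symm.toMonoidHom = (T : Subgroup X) := by
        rw [Subgroup.map_map]
        have : e.symm.toMonoidHom.comp e.toMonoidHom = MonoidHom.id X := by
          ext x; simp
        rw [this, Subgroup.map_id]
      rw [e3] at h2
      exact h2

/-- The hypothesis "control of transfer in every section other than `G`", for types. -/
theorem small_of_sections {G : Type u} [Group G] [Finite G]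
    (𝓦 : Set (∀ (Q : Type u) [Group Q], Subgroup Q))
    (h𝓦 : ∀ W ∈ 𝓦, Cfsg.IsCharPFunctor.{u} p W)
    (hsec : ∀ (K R : Subgroup G) [hR : (R.subgroupOf K).Normal], (K = ⊤ → R ≠ ⊥) →
      Cfsg.FamilyControlsTransferIn p
        ((fun W => Cfsg.inducedFunctor (G := (↥K ⧸ R.subgroupOf K)) W) '' 𝓦) ⊤)
    (Y : Type u) [Group Y] [Finite Y] (hY : IsSectionOf G Y) (hlt : Nat.card Y < Nat.card G)
    (T : Sylow p Y) : TC 𝓦 Y ⊤ (T : Subgroup Y) := by
  obtain ⟨K, R, hR, ⟨e⟩⟩ := hY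
  haveI := hR
  have hKR : K = ⊤ → R ≠ ⊥ := by
    intro hK hRb
    subst hK
    subst hRb
    have h1 : Nat.card Y = Nat.card G := by
      rw [Nat.card_congr e.toEquiv]
      have h2 := Subgroup.card_eq_card_quotient_mul_card_subgroup
        ((⊥ : Subgroup G).subgroupOf ⊤)
      rw [Subgroup.card_top] at h2
      have h3 : Nat.card ((⊥ : Subgroup G).subgroupOf ⊤) = 1 := by
        rw [Subgroup.bot_subgroupOf, Subgroup.card_bot]
      rw [h3, mul_one] at h2
      exact h2.symm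
    omega
  have h1 := hsec K R hKR
  have h2 := tc_of_famtr h𝓦 h1 (T.mapSurjective (f := e.toMonoidHom) e.surjective)
  have h2' : TC 𝓦 (↥K ⧸ R.subgroupOf K) ⊤ ((T : Subgroup Y).map e.toMonoidHom) := h2
  have h3 := tc_map h𝓦 e.symm.toMonoidHom e.symm.injective ⊤ _ (T.isPGroup'.map _) h2'
  have e3 : ((T : Subgroup Y).map e.toMonoidHom).map e.symm.toMonoidHom = (T : Subgroup Y) := by
    rw [Subgroup.map_map]
    have : e.symm.toMonoidHom.comp e.toMonoidHom = MonoidHom.id Y := by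
      ext x; simp
    rw [this, Subgroup.map_id]
  rw [e3, Subgroup.map_top_of_surjective _ e.symm.surjective] at h3
  exact h3

/-- An Engel element outside `O_p` gives control of the `O_p`-part of transfer, given control
of transfer in proper subgroups (family version). -/
theorem engel_constrained_fam {Y : Type u} [Group Y] [Finite Y]
    (𝓦 : Set (∀ (Q : Type u) [Group Q], Subgroup Q))
    (h𝓦 : ∀ W ∈ 𝓦, Cfsg.IsCharPFunctor.{u} p W) (T : Sylow p Y)
    (hsub : ∀ M : Subgroup Y, M ≠ ⊤ → ∀ T' : Sylow p ↥M, TC 𝓦 ↥M ⊤ (T' : Subgroup ↥M))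
    (g : Y) (hgT : g ∈ (T : Subgroup Y)) (hgQ : g ∉ Cfsg.pCore p Y)
    (hEng : ∀ U V : Subgroup Y, Cfsg.IsChiefFactor U V → U ≤ Cfsg.pCore p Y →
      Cfsg.iterCommutator U (Subgroup.zpowers g) (p - 1) ≤ V) :
    Cfsg.pCore p Y ⊓ commutator Y ≤ TD 𝓦 Y ⊤ (T : Subgroup Y) := by
  have hQT : Cfsg.pCore p Y ≤ (T : Subgroup Y) := Cfsg.Agent.Lib.Helper4.pCore_le_sylow T
  haveI hQn : (Cfsg.pCore p Y).Normal := Cfsg.pCore_normal p Y
  have hQp : IsPGroup p (Cfsg.pCore p Y) := Cfsg.Agent.Lib.Helper4.pCore_isPGroup p Y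
  obtain ⟨E₀, hE₀⟩ : ∃ E₀ : Set Y, E₀ = {e : Y | e ∈ (T : Subgroup Y) ∧
      ∀ U V : Subgroup Y, Cfsg.IsChiefFactor U V → U ≤ Cfsg.pCore p Y →
        Cfsg.iterCommutator U (Subgroup.zpowers e) (p - 1) ≤ V} := ⟨_, rfl⟩
  have hE₀S : E₀ ⊆ ((T : Subgroup Y) : Set Y) := by
    rw [hE₀]; intro e he; exact he.1
  have hwc : ∀ x : Y, ∀ e ∈ E₀, x⁻¹ * e * x ∈ (T : Subgroup Y) → x⁻¹ * e * x ∈ E₀ := by
    intro x e he hx
    rw [hE₀] at he ⊢
    refine ⟨hx, fun U V hch hUQ => ?_⟩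
    haveI := hch.2.1
    have h1 := iterCommutator_conj U e x⁻¹ (p - 1)
    rw [inv_inv] at h1
    rw [h1]
    have hV : V.map (MulAut.conj x⁻¹).toMonoidHom = V := by
      apply map_conj_eq_self_of_mem_normalizer
      rw [Subgroup.normalizer_eq_top_iff.mpr hch.2.2.1]; exact Subgroup.mem_top _
    rw [← hV]
    exact Subgroup.map_mono (he.2 U V hch hUQ)
  have hEng' : ∀ e ∈ E₀, ∀ U V : Subgroup Y, Cfsg.IsChiefFactor U V → U ≤ Cfsg.pCore p Y →
      Cfsg.iterCommutator U (Subgroup.zpowers e) (p - 1) ≤ V := by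
    intro e he
    rw [hE₀] at he
    exact he.2
  obtain ⟨M, hM⟩ : ∃ M : Subgroup Y,
      M = Subgroup.normalizer ((Subgroup.closure E₀ : Subgroup Y) : Set Y) := ⟨_, rfl⟩
  obtain ⟨hTM, hQM⟩ := engel_transfer T (Cfsg.pCore p Y) hQp hQT E₀ hE₀S hwc hEng' M hM
  have hMtop : M ≠ ⊤ := by
    intro htop
    rw [hM] at htop
    have hn : (Subgroup.closure E₀).Normal := Subgroup.normalizer_eq_top_iff.mp htop
    have hcl : Subgroup.closure E₀ ≤ (T : Subgroup Y) := (Subgroup.closure_le _).mpr hE₀S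
    have h1 := Cfsg.Agent.Lib.Helper4.le_pCore hn (T.isPGroup'.to_le hcl)
    apply hgQ
    apply h1
    apply Subgroup.subset_closure
    rw [hE₀]
    exact ⟨hgT, hEng⟩
  have h2 := tc_of_sub h𝓦 T M hTM (hsub M hMtop)
  exact le_trans (le_inf (inf_le_left.trans hQT) hQM) h2

end

end Cfsg.Agent.Lib.Helper1
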