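import Mathlib
import Cfsg.Prelude.Def_Transfer
import Cfsg.Agent.Lib.Helper1.Abel

set_option autoImplicit false
open Cfsg

namespace Cfsg.Agent.Lib.Helper1

theorem isElementaryAbelian_bot {G : Type*} [Group G] (p : ℕ) :
    IsElementaryAbelian p (⊥ : Subgroup G) := by
  refine ⟨isMulCommutative_of_comm ?_, ?_⟩
  · intro a ha b hb; rw [Subgroup.mem_bot] at ha hb; rw [ha, hb]
  · intro a ha; rw [Subgroup.mem_bot] at ha; rw [ha, one_pow]

theorem maxEA_nonempty {G : Type*} [Group G] [Finite G] (p : ℕ) :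
    (maxElementaryAbelianSubgroups p G).Nonempty := by
  obtain ⟨A, hA, hmax⟩ := Set.exists_max_image {B : Subgroup G | IsElementaryAbelian p B}
    (fun B => Nat.card B) (Set.toFinite _) ⟨⊥, isElementaryAbelian_bot p⟩
  exact ⟨A, hA, fun B hB => hmax B hB⟩

theorem pow_eq_one_of_mem_sup {G : Type*} [Group G] {A Z : Subgroup G}
    (hcomm : ∀ u ∈ A ⊔ Z, ∀ v ∈ A ⊔ Z, u * v = v * u) (n : ℕ) (hA : ∀ a ∈ A, a ^ n = 1)
    (hZ : ∀ z ∈ Z, z ^ n = 1) : ∀ u ∈ A ⊔ Z, u ^ n = 1 := by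
  intro u hu
  rw [Subgroup.sup_eq_closure] at hu
  induction hu using Subgroup.closure_induction with
  | mem x hx =>
    rcases hx with hx | hx
    · exact hA x hx
    · exact hZ x hx
  | one => exact one_pow n
  | mul x y hx hy ihx ihy =>
    have hx' : x ∈ A ⊔ Z := by rw [Subgroup.sup_eq_closure]; exact hx
    have hy' : y ∈ A ⊔ Z := by rw [Subgroup.sup_eq_closure]; exact hy
    have hc : Commute x y := hcomm x hx' y hy'
    rw [hc.mul_pow, ihx, ihy, one_mul]
  | inv x hx ihx => rw [inv_pow, ihx, inv_one]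

theorem mem_of_maxEA {G : Type*} [Group G] [Finite G] {p : ℕ} {A : Subgroup G}
    (hA : A ∈ maxElementaryAbelianSubgroups p G) (x : G) (hx : ∀ a ∈ A, a * x = x * a)
    (hxp : x ^ p = 1) : x ∈ A := by
  have hB := isMulCommutative_sup_zpowers hA.1.1 x hx
  have hBp : ∀ u ∈ A ⊔ Subgroup.zpowers x, u ^ p = 1 := by
    apply pow_eq_one_of_mem_sup (comm_of_isMulCommutative hB) p hA.1.2
    intro z hz
    obtain ⟨n, rfl⟩ := Subgroup.mem_zpowers_iff.mp hz
    rw [← zpow_natCast, ← zpow_mul, mul_comm, zpow_mul, zpow_natCast, hxp, one_zpow]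
  have hcard := hA.2 (A ⊔ Subgroup.zpowers x) ⟨hB, hBp⟩
  have heq : A = A ⊔ Subgroup.zpowers x := Subgroup.eq_of_le_of_card_ge le_sup_left hcard
  rw [heq]
  exact Subgroup.mem_sup_right (Subgroup.mem_zpowers x)

end Cfsg.Agent.Lib.Helper1
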