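import Mathlib
import Cfsg.Prelude.Def_PLocal
import Cfsg.Agent.Lib.Helper1.Thompson
import Cfsg.Agent.Lib.Helper1.Glauberman2
import Cfsg.Agent.Lib.Lead.Basic

/-!
# Thompson subgroup `J` (elementary abelian version): basics (helper1)
-/

set_option autoImplicit false
open Pointwise

namespace Cfsg.Agent.Lib.Helper1

variable {G : Type*} [Group G]

/-- `J(U)` inside `G` as the join of the images of the largest elementary abelian subgroups of `U` -/
theorem thompsonSubgroupOf_eq_sSup (p : ℕ) (U : Subgroup G) :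
    Cfsg.thompsonSubgroupOf p U = sSup (Set.image (fun A : Subgroup ↥U => A.map U.subtype)
      (Cfsg.maxElementaryAbelianSubgroups p ↥U)) := by
  unfold Cfsg.thompsonSubgroupOf Cfsg.thompsonSubgroup
  apply le_antisymm
  · rw [Subgroup.map_le_iff_le_comap]
    apply sSup_le
    intro A hA
    rw [← Subgroup.map_le_iff_le_comap]
    exact le_sSup ⟨A, hA, rfl⟩
  · apply sSup_le
    rintro _ ⟨A, hA, rfl⟩
    exact Subgroup.map_mono (le_sSup hA)

theorem mem_image_maxEA_iff_of_le (p : ℕ) (U : Subgroup G) {A₀ : Subgroup G}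
    (hA₀ : A₀ ∈ Cfsg.maxElementaryAbelianSubgroups p G) (hA₀U : A₀ ≤ U) (A : Subgroup G) :
    A ∈ Set.image (fun A : Subgroup ↥U => A.map U.subtype)
        (Cfsg.maxElementaryAbelianSubgroups p ↥U) ↔
      A ∈ Cfsg.maxElementaryAbelianSubgroups p G ∧ A ≤ U := by
  rw [mem_image_maxEA_iff]
  constructor
  · rintro ⟨hAU, hAea, hmax⟩
    refine ⟨⟨hAea, fun C hC => (hA₀.2 C hC).trans (hmax A₀ hA₀U hA₀.1)⟩, hAU⟩
  · rintro ⟨hA, hAU⟩
    exact ⟨hAU, hA.1, fun C _ hC => hA.2 C hC⟩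

theorem maxEA_conj_smul {p : ℕ} {A : Subgroup G}
    (hA : A ∈ Cfsg.maxElementaryAbelianSubgroups p G) (g : G) :
    MulAut.conj g • A ∈ Cfsg.maxElementaryAbelianSubgroups p G := by
  refine ⟨⟨isMulCommutative_of_comm ?_, ?_⟩, ?_⟩
  · intro x hx y hy
    rw [Cfsg.Agent.Lib.Lead.mem_conj_smul] at hx hy
    have h1 := comm_of_isMulCommutative hA.1.1 _ hx _ hy
    have h2 : g⁻¹ * (x * y) * g = g⁻¹ * (y * x) * g := by
      calc g⁻¹ * (x * y) * g = (g⁻¹ * x * g) * (g⁻¹ * y * g) := by group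
        _ = (g⁻¹ * y * g) * (g⁻¹ * x * g) := h1
        _ = g⁻¹ * (y * x) * g := by group
    exact mul_left_cancel (mul_right_cancel h2)
  · intro x hx
    rw [Cfsg.Agent.Lib.Lead.mem_conj_smul] at hx
    have h1 := hA.1.2 _ hx
    have h2 : (g⁻¹ * x * g) ^ p = g⁻¹ * x ^ p * g := by
      have e : g⁻¹ * x * g = g⁻¹ * x * g⁻¹⁻¹ := by group
      rw [e, conj_pow]; group
    rw [h2] at h1
    have h3 : x ^ p = g * (g⁻¹ * x ^ p * g) * g⁻¹ := by group
    rw [h3, h1]; group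
  · intro C hC
    rw [Cfsg.Agent.Lib.Lead.card_conj_smul]
    exact hA.2 C hC

/-- every Sylow `p`-subgroup contains an elementary abelian `p`-subgroup of largest order -/
theorem exists_maxEA_le_sylow [Finite G] {p : ℕ} [Fact p.Prime] (S : Sylow p G) :
    ∃ A₀ ∈ Cfsg.maxElementaryAbelianSubgroups p G, A₀ ≤ (S : Subgroup G) := by
  obtain ⟨A₁, hA₁⟩ := maxEA_nonempty (G := G) p
  obtain ⟨S₁, hS₁⟩ := (isPGroup_of_isElementaryAbelian hA₁.1).exists_le_sylow
  obtain ⟨g, hg⟩ := MulAction.exists_smul_eq G S₁ S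
  refine ⟨MulAut.conj g • A₁, maxEA_conj_smul hA₁ g, ?_⟩
  rw [← hg, Sylow.coe_subgroup_smul]
  intro x hx
  rw [Cfsg.Agent.Lib.Lead.mem_conj_smul] at hx ⊢
  exact hS₁ hx

theorem thompsonSubgroupOf_eq_of_le [Finite G] {p : ℕ} (U : Subgroup G)
    (hU : Cfsg.thompsonSubgroup p G ≤ U) :
    Cfsg.thompsonSubgroupOf p U = Cfsg.thompsonSubgroup p G := by
  obtain ⟨A₀, hA₀⟩ := maxEA_nonempty (G := G) p
  have hle : ∀ A ∈ Cfsg.maxElementaryAbelianSubgroups p G, A ≤ U :=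
    fun A hA => (le_sSup hA).trans hU
  rw [thompsonSubgroupOf_eq_sSup]
  have hset : Set.image (fun A : Subgroup ↥U => A.map U.subtype)
      (Cfsg.maxElementaryAbelianSubgroups p ↥U) = Cfsg.maxElementaryAbelianSubgroups p G := by
    ext A
    rw [mem_image_maxEA_iff_of_le p U hA₀ (hle A₀ hA₀)]
    exact ⟨fun h => h.1, fun h => ⟨h, hle A h⟩⟩
  rw [hset]
  rfl

theorem thompsonSubgroup_eq_iSup_sylow [Finite G] {p : ℕ} [Fact p.Prime] :
    Cfsg.thompsonSubgroup p G = ⨆ S : Sylow p G, Cfsg.thompsonSubgroupOf p (S : Subgroup G) := by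
  apply le_antisymm
  · apply sSup_le
    intro A hA
    obtain ⟨S, hS⟩ := (isPGroup_of_isElementaryAbelian hA.1).exists_le_sylow
    have h1 : A ∈ Set.image (fun A : Subgroup ↥(S : Subgroup G) => A.map (S : Subgroup G).subtype)
        (Cfsg.maxElementaryAbelianSubgroups p ↥(S : Subgroup G)) :=
      (mem_image_maxEA_iff_of_le p (S : Subgroup G) hA hS A).mpr ⟨hA, hS⟩
    refine le_trans ?_ (le_iSup (fun S : Sylow p G => Cfsg.thompsonSubgroupOf p (S : Subgroup G)) S)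
    rw [thompsonSubgroupOf_eq_sSup]
    exact le_sSup h1
  · apply iSup_le
    intro S
    rw [thompsonSubgroupOf_eq_sSup]
    apply sSup_le
    intro A hA
    obtain ⟨A₀, hA₀, hA₀S⟩ := exists_maxEA_le_sylow S
    exact le_sSup ((mem_image_maxEA_iff_of_le p (S : Subgroup G) hA₀ hA₀S A).mp hA).1

end Cfsg.Agent.Lib.Helper1
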