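import Mathlib
import Cfsg.Prelude.Def_PLocal
import Cfsg.Agent.Lib.Helper1.Thompson
import Cfsg.Agent.Lib.Helper1.Thompson3
import Cfsg.Agent.S0655

/-!
# The stable normal closure `W(S)`: basic facts (helper1)
-/

set_option autoImplicit false
open Pointwise

namespace Cfsg.Agent.Lib.Helper1

universe u

theorem isEA_map {S S' : Type*} [Group S] [Group S'] {p : ℕ} (η : S →* S') {A : Subgroup S}
    (hA : Cfsg.IsElementaryAbelian p A) : Cfsg.IsElementaryAbelian p (A.map η) := by
  refine ⟨isMulCommutative_of_comm ?_, ?_⟩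
  · rintro _ ⟨x, hx, rfl⟩ _ ⟨y, hy, rfl⟩
    rw [← map_mul, ← map_mul, comm_of_isMulCommutative hA.1 x hx y hy]
  · rintro _ ⟨x, hx, rfl⟩
    rw [← map_pow, hA.2 x hx, map_one]

theorem maxEA_map_equiv {S S' : Type*} [Group S] [Group S'] {p : ℕ} (η : S ≃* S')
    {A : Subgroup S} (hA : A ∈ Cfsg.maxElementaryAbelianSubgroups p S) :
    A.map η.toMonoidHom ∈ Cfsg.maxElementaryAbelianSubgroups p S' := by
  refine ⟨isEA_map _ hA.1, fun B hB => ?_⟩
  have h1 := hA.2 (B.map η.symm.toMonoidHom) (isEA_map _ hB)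
  rw [Subgroup.card_map_of_injective η.symm.injective] at h1
  rw [Subgroup.card_map_of_injective η.injective]
  exact h1

theorem thompsonSubgroup_map_equiv_le {S S' : Type*} [Group S] [Group S'] (p : ℕ) (η : S ≃* S') :
    (Cfsg.thompsonSubgroup p S).map η.toMonoidHom ≤ Cfsg.thompsonSubgroup p S' := by
  unfold Cfsg.thompsonSubgroup
  rw [Subgroup.map_le_iff_le_comap]
  apply sSup_le
  intro A hA
  rw [← Subgroup.map_le_iff_le_comap]
  exact le_sSup (maxEA_map_equiv η hA)

theorem thompsonSubgroup_map_equiv {S S' : Type*} [Group S] [Group S'] (p : ℕ) (η : S ≃* S') :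
    (Cfsg.thompsonSubgroup p S).map η.toMonoidHom = Cfsg.thompsonSubgroup p S' := by
  apply le_antisymm (thompsonSubgroup_map_equiv_le p η)
  have h := thompsonSubgroup_map_equiv_le p η.symm
  intro x hx
  have h2 := h (Subgroup.mem_map_of_mem _ hx)
  exact ⟨η.symm x, h2, by simp⟩

/-- the image of `Ω₁(Z(J(S)))` under an injective homomorphism -/
theorem oct_map_eq {S H : Type*} [Group S] [Group H] (p : ℕ) (τ : S →* H)
    (hinj : Function.Injective τ) :
    (Cfsg.omegaCenterThompson p S).map τ =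
      Cfsg.omegaOne p ((Cfsg.thompsonSubgroup p S).map τ ⊓
        Subgroup.centralizer (((Cfsg.thompsonSubgroup p S).map τ : Subgroup H) : Set H)) := by
  unfold Cfsg.omegaCenterThompson Cfsg.omegaOne
  rw [MonoidHom.map_closure]
  congr 1
  ext y
  constructor
  · rintro ⟨x, ⟨hx, hxp⟩, rfl⟩
    refine ⟨Subgroup.mem_inf.mpr ⟨Subgroup.mem_map_of_mem _ (Subgroup.mem_inf.mp hx).1, ?_⟩, ?_⟩
    · rw [Subgroup.mem_centralizer_iff]
      rintro _ ⟨j, hj, rfl⟩
      rw [← map_mul, ← map_mul, (Subgroup.mem_centralizer_iff.mp (Subgroup.mem_inf.mp hx).2) j hj]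
    · rw [← map_pow, hxp, map_one]
  · rintro ⟨hy, hyp⟩
    obtain ⟨x, hx, rfl⟩ := (Subgroup.mem_inf.mp hy).1
    refine ⟨x, ⟨Subgroup.mem_inf.mpr ⟨hx, ?_⟩, ?_⟩, rfl⟩
    · rw [Subgroup.mem_centralizer_iff]
      intro j hj
      apply hinj
      rw [map_mul, map_mul]
      exact (Subgroup.mem_centralizer_iff.mp (Subgroup.mem_inf.mp hy).2) _
        (Subgroup.mem_map_of_mem _ hj)
    · apply hinj
      rw [map_pow, hyp, map_one]

theorem omegaCenterThompson_map_equiv {S S' : Type*} [Group S] [Group S'] (p : ℕ) (η : S ≃* S') :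
    (Cfsg.omegaCenterThompson p S).map η.toMonoidHom = Cfsg.omegaCenterThompson p S' := by
  rw [oct_map_eq p η.toMonoidHom η.injective, thompsonSubgroup_map_equiv p η]
  rfl

theorem omegaOne_normal {H : Type*} [Group H] (p : ℕ) (M : Subgroup H) [hM : M.Normal] :
    (Cfsg.omegaOne p M).Normal := by
  constructor
  intro n hn g
  unfold Cfsg.omegaOne at hn ⊢
  induction hn using Subgroup.closure_induction with
  | mem x hx =>
    exact Subgroup.subset_closure ⟨hM.conj_mem x hx.1 g, by rw [conj_pow, hx.2]; simp⟩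
  | one => simp
  | mul a b _ _ iha ihb =>
    have : g * (a * b) * g⁻¹ = (g * a * g⁻¹) * (g * b * g⁻¹) := by group
    rw [this]; exact Subgroup.mul_mem _ iha ihb
  | inv a _ iha =>
    have : g * a⁻¹ * g⁻¹ = (g * a * g⁻¹)⁻¹ := by group
    rw [this]; exact Subgroup.inv_mem _ iha

theorem omegaCenter_le_oct {S : Type*} [Group S] [Finite S] {p : ℕ} [Fact p.Prime]
    (hS : IsPGroup p S) :
    Cfsg.omegaOne p (Subgroup.center S) ≤ Cfsg.omegaCenterThompson p S := by
  rw [← (Cfsg.Agent.S0655.result hS).1]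
  unfold Cfsg.omegaOne
  rw [Subgroup.closure_le]
  rintro x ⟨hx, hxp⟩
  rw [SetLike.mem_coe, Subgroup.mem_sInf]
  intro A hA
  exact mem_of_maxEA hA x (fun a _ => (Subgroup.mem_center_iff.mp hx a)) hxp

theorem oct_map_normal {S H : Type*} [Group S] [Group H] (p : ℕ) (τ : S →* H)
    (hinj : Function.Injective τ) (hJ : ((Cfsg.thompsonSubgroup p S).map τ).Normal) :
    ((Cfsg.omegaCenterThompson p S).map τ).Normal := by
  rw [oct_map_eq p τ hinj]
  exact omegaOne_normal p _

theorem snc_le_oct {S : Type u} [Group S] [Finite S] {p : ℕ} [Fact p.Prime] (hS : IsPGroup p S) :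
    Cfsg.stableNormalClosure p S ≤ Cfsg.omegaCenterThompson p S :=
  sInf_le ⟨omegaCenter_le_oct hS, fun H _ τ hτ => oct_map_normal p τ hτ.1 hτ.2.2.2.2.1⟩

theorem omegaCenter_le_snc (p : ℕ) (S : Type u) [Group S] :
    Cfsg.omegaOne p (Subgroup.center S) ≤ Cfsg.stableNormalClosure p S :=
  le_sInf (fun _ hW => hW.1)

theorem snc_le_of {S : Type u} [Group S] {p : ℕ} (X : Subgroup S)
    (h1 : Cfsg.omegaOne p (Subgroup.center S) ≤ X)
    (h2 : ∀ (H : Type u) [Group H] (τ : S →* H), Cfsg.IsStableEmbedding p τ → (X.map τ).Normal) :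
    Cfsg.stableNormalClosure p S ≤ X := sInf_le ⟨h1, h2⟩

theorem snc_map_normal {S H : Type u} [Group S] [Group H] [Finite S] {p : ℕ} [Fact p.Prime]
    (hS : IsPGroup p S) (τ : S →* H) (hτ : Cfsg.IsStableEmbedding p τ) :
    ((Cfsg.stableNormalClosure p S).map τ).Normal := by
  have hn := oct_map_normal p τ hτ.1 hτ.2.2.2.2.1
  constructor
  rintro _ ⟨w, hw, rfl⟩ g
  obtain ⟨w', hw', hw'e⟩ := hn.conj_mem _ (Subgroup.mem_map_of_mem τ (snc_le_oct hS hw)) g
  refine ⟨w', ?_, hw'e⟩
  unfold Cfsg.stableNormalClosure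
  rw [SetLike.mem_coe, Subgroup.mem_sInf]
  intro X hX
  obtain ⟨x', hx', hx'e⟩ := (hX.2 H τ hτ).conj_mem _
    (Subgroup.mem_map_of_mem τ ((sInf_le hX : Cfsg.stableNormalClosure p S ≤ X) hw)) g
  have : x' = w' := hτ.1 (hx'e.trans hw'e.symm)
  rw [← this]; exact hx'

theorem isStableEmbedding_comp_equiv {S S' H : Type u} [Group S] [Group S'] [Group H] {p : ℕ}
    (η : S ≃* S') (τ : S →* H) (hτ : Cfsg.IsStableEmbedding p τ) :
    Cfsg.IsStableEmbedding p (τ.comp η.symm.toMonoidHom) := by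
  obtain ⟨h1, h2, ⟨P, hP⟩, h4, h5, h6⟩ := hτ
  refine ⟨h1.comp η.symm.injective, h2, ⟨P, ?_⟩, h4, ?_, ?_⟩
  · rw [hP]
    ext y; constructor
    · rintro ⟨x, rfl⟩; exact ⟨η x, by simp⟩
    · rintro ⟨x, rfl⟩; exact ⟨η.symm x, rfl⟩
  · have : (Cfsg.thompsonSubgroup p S').map (τ.comp η.symm.toMonoidHom) =
        (Cfsg.thompsonSubgroup p S).map τ := by
      rw [← Subgroup.map_map, thompsonSubgroup_map_equiv p η.symm]
    rw [this]; exact h5
  · intro V hVn hV
    apply h6 V
    have : (Cfsg.omegaCenterThompson p S').map (τ.comp η.symm.toMonoidHom) =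
        (Cfsg.omegaCenterThompson p S).map τ := by
      rw [← Subgroup.map_map, omegaCenterThompson_map_equiv p η.symm]
    rw [← this]; exact hV

theorem snc_map_equiv_le {S S' : Type u} [Group S] [Group S'] [Finite S] {p : ℕ} [Fact p.Prime]
    (hS : IsPGroup p S) (η : S ≃* S') :
    (Cfsg.stableNormalClosure p S).map η.toMonoidHom ≤ Cfsg.stableNormalClosure p S' := by
  have hS' : IsPGroup p S' := hS.of_equiv η
  haveI : Finite S' := Finite.of_equiv S η.toEquiv
  have key : Cfsg.stableNormalClosure p S ≤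
      (Cfsg.stableNormalClosure p S').map η.symm.toMonoidHom := by
    apply snc_le_of
    · unfold Cfsg.omegaOne; rw [Subgroup.closure_le]
      rintro x ⟨hx, hxp⟩
      refine ⟨η x, ?_, by simp⟩
      apply omegaCenter_le_snc p S'
      apply Subgroup.subset_closure
      refine ⟨?_, by rw [← map_pow, hxp, map_one]⟩
      rw [Subgroup.mem_center_iff] at hx ⊢
      intro g
      have h2 := congrArg η (hx (η.symm g))
      simpa using h2
    · intro H _ τ hτ
      rw [Subgroup.map_map]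
      exact snc_map_normal hS' _ (isStableEmbedding_comp_equiv η τ hτ)
  rintro _ ⟨x, hx, rfl⟩
  obtain ⟨z, hz, hze⟩ := key hx
  have : η.toMonoidHom x = z := by rw [← hze]; simp
  rw [this]
  exact hz

theorem snc_map_equiv {S S' : Type u} [Group S] [Group S'] [Finite S] {p : ℕ} [Fact p.Prime]
    (hS : IsPGroup p S) (η : S ≃* S') :
    (Cfsg.stableNormalClosure p S).map η.toMonoidHom = Cfsg.stableNormalClosure p S' := by
  have hS' : IsPGroup p S' := hS.of_equiv η
  haveI : Finite S' := Finite.of_equiv S η.toEquiv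
  apply le_antisymm (snc_map_equiv_le hS η)
  intro y hy
  have h2 := snc_map_equiv_le hS' η.symm (Subgroup.mem_map_of_mem _ hy)
  exact ⟨η.symm y, h2, by simp⟩

theorem snc_ne_bot {S : Type u} [Group S] [Finite S] {p : ℕ} [Fact p.Prime]
    (hS : IsPGroup p S) [Nontrivial S] : Cfsg.stableNormalClosure p S ≠ ⊥ := by
  have hpp : p.Prime := Fact.out
  haveI := hS.center_nontrivial
  have hZp : IsPGroup p (Subgroup.center S) := hS.to_subgroup _
  obtain ⟨n, hn⟩ := IsPGroup.iff_card.mp hZp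
  have hdvd : p ∣ Nat.card (Subgroup.center S) := by
    rw [hn]
    apply dvd_pow_self
    rintro rfl
    rw [pow_zero] at hn
    have := (Subgroup.center S).one_lt_card_iff_ne_bot.mpr (Subgroup.nontrivial_iff_ne_bot _ |>.mp inferInstance)
    omega
  obtain ⟨z, hz⟩ := exists_prime_orderOf_dvd_card' p hdvd
  intro hbot
  have hmem : (z : S) ∈ Cfsg.stableNormalClosure p S := by
    apply omegaCenter_le_snc p S
    apply Subgroup.subset_closure
    refine ⟨z.2, ?_⟩
    have := pow_orderOf_eq_one z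
    rw [hz] at this
    have h3 := congrArg Subtype.val this
    simpa using h3
  rw [hbot, Subgroup.mem_bot] at hmem
  have : z = 1 := Subtype.ext hmem
  rw [this, orderOf_one] at hz
  exact hpp.one_lt.ne hz

end Cfsg.Agent.Lib.Helper1
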