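import Mathlib
import Cfsg.Prelude.Def_PLocal
import Cfsg.Agent.Lib.Helper1.WS1
import Cfsg.Agent.Lib.Helper4.Basic

/-!
# The stable normal closure `W(S)`: no quadratic elements (helper1)
-/

set_option autoImplicit false
open Pointwise
open scoped commutatorElement

namespace Cfsg.Agent.Lib.Helper1

universe u

theorem comm_zpowers_le_of_mod {H : Type*} [Group H] (V U : Subgroup H) [hVn : V.Normal]
    (hUV : U ≤ V) (s a : H) (h : s⁻¹ * a ∈ Subgroup.centralizer (V : Set H)) :
    ⁅U, Subgroup.zpowers s⁆ ≤ ⁅U, Subgroup.zpowers a⁆ := by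
  rw [Subgroup.commutator_le]
  intro u hu x hx
  obtain ⟨k, rfl⟩ := Subgroup.mem_zpowers_iff.mp hx
  have hq : (QuotientGroup.mk' (Subgroup.centralizer (V : Set H))) s =
      (QuotientGroup.mk' (Subgroup.centralizer (V : Set H))) a := by
    rw [QuotientGroup.mk'_apply, QuotientGroup.mk'_apply, QuotientGroup.eq]; exact h
  have hq2 : (QuotientGroup.mk' (Subgroup.centralizer (V : Set H))) (s ^ k) =
      (QuotientGroup.mk' (Subgroup.centralizer (V : Set H))) (a ^ k) := by
    rw [map_zpow, map_zpow, hq]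
  rw [QuotientGroup.mk'_apply, QuotientGroup.mk'_apply, QuotientGroup.eq] at hq2
  have hc := (Subgroup.mem_centralizer_iff.mp hq2) u⁻¹ (V.inv_mem (hUV hu))
  have he : ⁅u, s ^ k⁆ = ⁅u, a ^ k⁆ := by
    rw [commutatorElement_def, commutatorElement_def]
    have h1 : a ^ k = s ^ k * ((s ^ k)⁻¹ * a ^ k) := by group
    rw [h1]
    have h2 : u * (s ^ k * ((s ^ k)⁻¹ * a ^ k)) * u⁻¹ * (s ^ k * ((s ^ k)⁻¹ * a ^ k))⁻¹ =
        u * s ^ k * (((s ^ k)⁻¹ * a ^ k) * u⁻¹) * ((s ^ k)⁻¹ * a ^ k)⁻¹ * (s ^ k)⁻¹ := by group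
    rw [h2, ← hc]
    group
  rw [he]
  exact Subgroup.commutator_mem_commutator hu (Subgroup.zpow_mem _ (Subgroup.mem_zpowers a) k)

theorem comm_zpowers_eq_of_mod {H : Type*} [Group H] (V U : Subgroup H) [hVn : V.Normal]
    (hUV : U ≤ V) (s a : H) (h : s⁻¹ * a ∈ Subgroup.centralizer (V : Set H)) :
    ⁅U, Subgroup.zpowers s⁆ = ⁅U, Subgroup.zpowers a⁆ := by
  apply le_antisymm (comm_zpowers_le_of_mod V U hUV s a h)
  apply comm_zpowers_le_of_mod V U hUV a s
  have : a⁻¹ * s = (s⁻¹ * a)⁻¹ := by group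
  rw [this]
  exact Subgroup.inv_mem _ h

/-- quadratic action transported along an injective homomorphism -/
theorem quad_of_map {S H : Type*} [Group S] [Group H] (τ : S →* H) (hinj : Function.Injective τ)
    (Y : Subgroup S) (t : S)
    (h : ⁅⁅Y.map τ, Subgroup.zpowers (τ t)⁆, Subgroup.zpowers (τ t)⁆ = ⊥) :
    ⁅⁅Y, Subgroup.zpowers t⁆, Subgroup.zpowers t⁆ = ⊥ := by
  rw [← MonoidHom.map_zpowers, ← Subgroup.map_commutator, ← Subgroup.map_commutator] at h
  exact (Subgroup.map_eq_bot_iff_of_injective _ hinj).mp h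

theorem map_quad {S H : Type*} [Group S] [Group H] (τ : S →* H)
    (Y : Subgroup S) (t : S)
    (h : ⁅⁅Y, Subgroup.zpowers t⁆, Subgroup.zpowers t⁆ = ⊥) :
    ⁅⁅Y.map τ, Subgroup.zpowers (τ t)⁆, Subgroup.zpowers (τ t)⁆ = ⊥ := by
  rw [← MonoidHom.map_zpowers, ← Subgroup.map_commutator, ← Subgroup.map_commutator, h,
    Subgroup.map_bot]

set_option maxHeartbeats 1000000 in
/-- If no element of the Sylow subgroup `P` acts quadratically and nontrivially on `Y`, and the
action on the normal closure `V` of `Y` is `p`-stable, then every element acting quadratically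
on `V` centralizes `V`. -/
theorem quad_central {H : Type*} [Group H] [Finite H] {p : ℕ} [Fact p.Prime] (P : Sylow p H)
    (Y : Subgroup H) (V : Subgroup H) [hVn : V.Normal]
    (hV : V = Subgroup.normalClosure (Y : Set H))
    (hst : Cfsg.IsPStableOn p V)
    (hP : ∀ s ∈ (P : Subgroup H), ⁅⁅Y, Subgroup.zpowers s⁆, Subgroup.zpowers s⁆ = ⊥ →
      s ∈ Subgroup.centralizer (Y : Set H))
    (a : H) (ha : ⁅⁅V, Subgroup.zpowers a⁆, Subgroup.zpowers a⁆ = ⊥) :
    a ∈ Subgroup.centralizer (V : Set H) := by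
  have hYV : Y ≤ V := by rw [hV]; exact Subgroup.le_normalClosure
  -- step 1: every quadratic element centralizes Y
  have step : ∀ b : H, ⁅⁅V, Subgroup.zpowers b⁆, Subgroup.zpowers b⁆ = ⊥ →
      b ∈ Subgroup.centralizer (Y : Set H) := by
    intro b hb
    have h1 := hst b hb
    have hπs : Function.Surjective (QuotientGroup.mk' (Subgroup.centralizer (V : Set H))) :=
      QuotientGroup.mk'_surjective _
    have h2 : (QuotientGroup.mk' (Subgroup.centralizer (V : Set H))) b ∈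
        ((P.mapSurjective hπs : Sylow p _) : Subgroup _) :=
      Cfsg.Agent.Lib.Helper4.pCore_le_sylow _ h1
    rw [Sylow.coe_mapSurjective] at h2
    obtain ⟨s, hs, hsb⟩ := h2
    have hsb' : s⁻¹ * b ∈ Subgroup.centralizer (V : Set H) := by
      rw [QuotientGroup.mk'_apply, QuotientGroup.mk'_apply, QuotientGroup.eq] at hsb
      exact hsb
    have e1 : ⁅V, Subgroup.zpowers s⁆ = ⁅V, Subgroup.zpowers b⁆ :=
      comm_zpowers_eq_of_mod V V le_rfl s b hsb'
    have e2 : ⁅⁅V, Subgroup.zpowers b⁆, Subgroup.zpowers s⁆ =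
        ⁅⁅V, Subgroup.zpowers b⁆, Subgroup.zpowers b⁆ :=
      comm_zpowers_eq_of_mod V _ (Subgroup.commutator_le_left _ _) s b hsb'
    have e3 : ⁅⁅V, Subgroup.zpowers s⁆, Subgroup.zpowers s⁆ = ⊥ := by rw [e1, e2, hb]
    have e4 : ⁅⁅Y, Subgroup.zpowers s⁆, Subgroup.zpowers s⁆ = ⊥ := by
      rw [eq_bot_iff, ← e3]
      exact Subgroup.commutator_mono (Subgroup.commutator_mono hYV le_rfl) le_rfl
    have hsY := hP s hs e4
    have : b = s * (s⁻¹ * b) := by group
    rw [this]
    exact Subgroup.mul_mem _ hsY (Subgroup.centralizer_le hYV hsb')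
  -- step 2: conjugates
  have hconj : ∀ g : H, g⁻¹ * a * g ∈ Subgroup.centralizer (Y : Set H) := by
    intro g
    apply step
    have h1 : (⁅⁅V, Subgroup.zpowers a⁆, Subgroup.zpowers a⁆).map (MulAut.conj g⁻¹).toMonoidHom
        = ⊥ := by rw [ha, Subgroup.map_bot]
    rw [Subgroup.map_commutator, Subgroup.map_commutator, MonoidHom.map_zpowers] at h1
    have h2 : V.map (MulAut.conj g⁻¹).toMonoidHom = V := by
      have := (Subgroup.normalizer_eq_top_iff.mpr hVn)
      have h3 : g⁻¹ ∈ Subgroup.normalizer (V : Set H) := by rw [this]; trivial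
      exact Subgroup.mem_normalizer_iff_map_conj_eq.mp h3
    rw [h2] at h1
    have h4 : (MulAut.conj g⁻¹).toMonoidHom a = g⁻¹ * a * g := by
      simp [MulAut.conj_apply]
    rw [h4] at h1
    exact h1
  -- step 3
  have hle : V ≤ Subgroup.centralizer ({a} : Set H) := by
    rw [hV, Subgroup.normalClosure, Subgroup.closure_le]
    intro x hx
    rw [Group.mem_conjugatesOfSet_iff] at hx
    obtain ⟨y, hy, hyx⟩ := hx
    rw [isConj_iff] at hyx
    obtain ⟨c, rfl⟩ := hyx
    rw [SetLike.mem_coe, Subgroup.mem_centralizer_iff]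
    intro z hz
    rw [Set.mem_singleton_iff] at hz
    rw [hz]
    have h5 := (Subgroup.mem_centralizer_iff.mp (hconj c)) y hy
    -- h5 : y * (c⁻¹ * a * c) = c⁻¹ * a * c * y
    have h6 : a * (c * y * c⁻¹) = c * (c⁻¹ * a * c * y) * c⁻¹ := by group
    have h7 : c * y * c⁻¹ * a = c * (y * (c⁻¹ * a * c)) * c⁻¹ := by group
    rw [h6, h7, h5]
  rw [Subgroup.mem_centralizer_iff]
  intro v hv
  exact ((Subgroup.mem_centralizer_iff.mp (hle hv)) a rfl).symm

end Cfsg.Agent.Lib.Helper1
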