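import Mathlib
import Cfsg.Prelude.Def_PLocal
import Cfsg.Agent.Lib.Helper1.WS1
import Cfsg.Agent.Lib.Helper1.WS2

/-!
# The stable normal closure `W(S)`: no quadratic elements, II (helper1)
-/

set_option autoImplicit false
open Pointwise
open scoped commutatorElement

namespace Cfsg.Agent.Lib.Helper1

universe u

set_option maxHeartbeats 1000000 in
/-- No element of `S` acts quadratically and nontrivially on `W(S)`. -/
theorem snc_quad_central {S : Type u} [Group S] [Finite S] {p : ℕ} [Fact p.Prime]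
    (hS : IsPGroup p S) :
    ∀ t : S, ⁅⁅Cfsg.stableNormalClosure p S, Subgroup.zpowers t⁆, Subgroup.zpowers t⁆ = ⊥ →
      t ∈ Subgroup.centralizer (Cfsg.stableNormalClosure p S : Set S) := by
  obtain ⟨F, hF⟩ : ∃ F : Set (Subgroup S), F = {Y : Subgroup S |
      Cfsg.omegaOne p (Subgroup.center S) ≤ Y ∧ Y ≤ Cfsg.stableNormalClosure p S ∧ Y.Normal ∧
      ∀ t : S, ⁅⁅Y, Subgroup.zpowers t⁆, Subgroup.zpowers t⁆ = ⊥ →
        t ∈ Subgroup.centralizer (Y : Set S)} := ⟨_, rfl⟩
  have hF0 : Cfsg.omegaOne p (Subgroup.center S) ∈ F := by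
    rw [hF]
    refine ⟨le_rfl, omegaCenter_le_snc p S, omegaOne_normal p _, ?_⟩
    intro t _
    rw [Subgroup.mem_centralizer_iff]
    intro z hz
    have hzc : z ∈ Subgroup.center S := by
      have : Cfsg.omegaOne p (Subgroup.center S) ≤ Subgroup.center S := by
        unfold Cfsg.omegaOne; rw [Subgroup.closure_le]; intro x hx; exact hx.1
      exact this hz
    exact (Subgroup.mem_center_iff.mp hzc t).symm
  obtain ⟨Y, hY, hmax⟩ := Set.exists_max_image F (fun B => Nat.card B) (Set.toFinite _) ⟨_, hF0⟩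
  rw [hF] at hY
  obtain ⟨hY1, hY2, hY3, hY4⟩ := hY
  have hYW : Y = Cfsg.stableNormalClosure p S := by
    apply le_antisymm hY2
    apply snc_le_of Y hY1
    intro H _ τ hτ
    by_contra hnn
    obtain ⟨hinj, hfin, ⟨P, hP⟩, hc, hJ, hst⟩ := id hτ
    haveI := hfin
    haveI hWn := snc_map_normal hS τ hτ
    obtain ⟨V, hV⟩ : ∃ V : Subgroup H,
      V = Subgroup.normalClosure ((Y.map τ : Subgroup H) : Set H) := ⟨_, rfl⟩
    haveI hVn : V.Normal := by rw [hV]; exact Subgroup.normalClosure_normal
    have hVW : V ≤ (Cfsg.stableNormalClosure p S).map τ := by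
      rw [hV]; exact Subgroup.normalClosure_le_normal (Subgroup.map_mono hY2)
    have hVo : V ≤ (Cfsg.omegaCenterThompson p S).map τ :=
      hVW.trans (Subgroup.map_mono (snc_le_oct hS))
    have hstV := hst V hVo
    have hq := quad_central P (Y.map τ) V hV hstV (by
      intro s hs hqs
      rw [hP] at hs
      obtain ⟨t, rfl⟩ := hs
      have h1 := hY4 t (quad_of_map τ hinj Y t hqs)
      rw [Subgroup.mem_centralizer_iff]
      rintro _ ⟨y, hy, rfl⟩
      rw [← map_mul, ← map_mul, (Subgroup.mem_centralizer_iff.mp h1) y hy])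
    have hVr : V ≤ τ.range := hVW.trans (by rintro _ ⟨x, -, rfl⟩; exact ⟨x, rfl⟩)
    have hmapc : (V.comap τ).map τ = V := Subgroup.map_comap_eq_self hVr
    have hYY' : Y ≤ V.comap τ := by
      rw [← Subgroup.map_le_iff_le_comap, hV]; exact Subgroup.le_normalClosure
    have hmem : V.comap τ ∈ F := by
      rw [hF]
      refine ⟨hY1.trans hYY', ?_, hVn.comap τ, ?_⟩
      · intro x hx
        obtain ⟨w, hw, hwe⟩ := hVW (Subgroup.mem_comap.mp hx)
        rw [← hinj hwe]; exact hw
      · intro t ht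
        have h1 := map_quad τ (V.comap τ) t ht
        rw [hmapc] at h1
        have h2 := hq (τ t) h1
        rw [Subgroup.mem_centralizer_iff]
        intro y hy
        apply hinj
        rw [map_mul, map_mul]
        exact (Subgroup.mem_centralizer_iff.mp h2) (τ y) (Subgroup.mem_comap.mp hy)
    have hcard := hmax _ hmem
    have heq : Y = V.comap τ := Subgroup.eq_of_le_of_card_ge hYY' hcard
    apply hnn
    rw [heq, hmapc]; exact hVn
  rw [← hYW]; exact hY4

end Cfsg.Agent.Lib.Helper1
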