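import Mathlib
import Cfsg.Prelude.Def_PLocal
import Cfsg.Prelude.Def_ConjugacyFunctors
import Cfsg.Agent.Lib.Helper1.WS1
import Cfsg.Agent.Lib.Helper1.WS2
import Cfsg.Agent.Lib.Helper1.WS3
import Cfsg.Agent.Lib.Helper1.GT1
import Cfsg.Agent.Lib.Helper1.ZJ2
import Cfsg.Agent.Lib.Helper4.Basic
import Cfsg.Agent.S0029
import Cfsg.Agent.S0602
import Cfsg.Agent.S0607

/-!
# The stable normal closure `W(S)` is normal in action-`p`-stable groups (helper1)
-/

set_option autoImplicit false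
open Pointwise
open scoped commutatorElement

namespace Cfsg.Agent.Lib.Helper1

universe u

set_option maxHeartbeats 1000000 in
theorem sectionKernel_isPGroup {G : Type*} [Group G] [Finite G] {p : ℕ} [Fact p.Prime]
    (Q N : Subgroup G) [hQn : Q.Normal] [hNn : N.Normal] (hQ : IsPGroup p Q)
    (hc : Subgroup.centralizer (Q : Set G) ≤ Q)
    (hN : N = (frattini ↥Q).map Q.subtype) : IsPGroup p (Cfsg.sectionKernel Q N) := by
  have hpp : p.Prime := Fact.out
  have key : ∀ h ∈ Cfsg.sectionKernel Q N, (orderOf h).Coprime p → h = 1 := by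
    intro h hh hcop
    have h1 : Subgroup.zpowers h ≤ Subgroup.centralizer (Q : Set G) := by
      apply Cfsg.Agent.S0029.result (Subgroup.zpowers h) Q
      · rw [Subgroup.normalizer_eq_top_iff.mpr hQn]; exact le_top
      · rw [Nat.card_zpowers]
        have hΦ : IsPGroup p (frattini ↥Q) := hQ.to_subgroup _
        obtain ⟨n, hn⟩ := IsPGroup.iff_card.mp hΦ
        rw [hn]
        exact Nat.Coprime.pow_right _ hcop
      · intro a ha k hk
        rw [← hN]
        have haK : a ∈ Cfsg.sectionKernel Q N := (Subgroup.zpowers_le.mpr hh) ha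
        unfold Cfsg.sectionKernel at haK
        rw [Subgroup.mem_comap, Subgroup.mem_centralizer_iff] at haK
        have h2 := haK _ (Subgroup.mem_map_of_mem (QuotientGroup.mk' N) hk)
        have h3 : (QuotientGroup.mk' N) (a * k * a⁻¹ * k⁻¹) = 1 := by
          rw [map_mul, map_mul, map_mul, map_inv, map_inv, ← h2]; group
        exact (QuotientGroup.eq_one_iff _).mp h3
    have hhQ : h ∈ Q := hc (h1 (Subgroup.mem_zpowers h))
    obtain ⟨k, hk⟩ := hQ ⟨h, hhQ⟩
    have hk' : h ^ p ^ k = 1 := by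
      have := congrArg Subtype.val hk; simpa using this
    have hd : orderOf h ∣ p ^ k := orderOf_dvd_of_pow_eq_one hk'
    have h3 : orderOf h = 1 := Nat.Coprime.eq_one_of_dvd (Nat.Coprime.pow_right k hcop) hd
    exact orderOf_eq_one_iff.mp h3
  rintro ⟨g, hg⟩
  obtain ⟨e, m, hm, hnm⟩ := Nat.exists_eq_pow_mul_and_not_dvd (orderOf_pos g).ne' p hpp.ne_one
  refine ⟨e, ?_⟩
  have h4 : g ^ p ^ e = 1 := by
    apply key _ (Subgroup.pow_mem _ hg _)
    have h5 : (g ^ p ^ e) ^ m = 1 := by rw [← pow_mul, ← hnm, pow_orderOf_eq_one]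
    have h6 : orderOf (g ^ p ^ e) ∣ m := orderOf_dvd_of_pow_eq_one h5
    exact Nat.Coprime.coprime_dvd_left h6 ((Nat.Prime.coprime_iff_not_dvd hpp).mpr hm).symm
  exact Subtype.ext (by simpa using h4)

set_option maxHeartbeats 1000000 in
/-- an abelian normal subgroup of a Sylow `p`-subgroup lies in `O_p(G)` when `G` acts `p`-stably on
the Frattini quotient of `O_p(G)` and `C_G(O_p(G)) ≤ O_p(G)` -/
theorem abelian_normal_le_pCore {G : Type*} [Group G] [Finite G] {p : ℕ} [Fact p.Prime]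
    (hc : Subgroup.centralizer (Cfsg.pCore p G : Set G) ≤ Cfsg.pCore p G)
    (hst2 : Cfsg.IsPStableOnSection p (Cfsg.pCore p G)
      ((frattini ↥(Cfsg.pCore p G)).map (Cfsg.pCore p G).subtype))
    (S : Sylow p G) (A : Subgroup G)
    (hAn : (S : Subgroup G) ≤ Subgroup.normalizer (A : Set G))
    (hAc : ∀ x ∈ A, ∀ y ∈ A, x * y = y * x) : A ≤ Cfsg.pCore p G := by
  haveI hQn : (Cfsg.pCore p G).Normal := Cfsg.Agent.Lib.Helper4.pCore_normal p G
  have hQp : IsPGroup p (Cfsg.pCore p G) := Cfsg.Agent.Lib.Helper4.pCore_isPGroup p G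
  have hQS : Cfsg.pCore p G ≤ S := Cfsg.Agent.Lib.Helper4.pCore_le_sylow S
  intro a ha
  have hq : ⁅⁅Cfsg.pCore p G, Subgroup.zpowers a⁆, Subgroup.zpowers a⁆ ≤
      (frattini ↥(Cfsg.pCore p G)).map (Cfsg.pCore p G).subtype := by
    have h1 : ⁅Cfsg.pCore p G, Subgroup.zpowers a⁆ ≤ A := by
      rw [Subgroup.commutator_le]
      intro q hq z hz
      have hzA : z ∈ A := (Subgroup.zpowers_le.mpr ha) hz
      rw [commutatorElement_def]
      have hqn := hAn (hQS hq)
      have h2 : q * z * q⁻¹ ∈ A := (Subgroup.mem_normalizer_iff.mp hqn z).mp hzA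
      exact A.mul_mem h2 (A.inv_mem hzA)
    have h3 : ⁅A, Subgroup.zpowers a⁆ = ⊥ := by
      rw [Subgroup.commutator_eq_bot_iff_le_centralizer]
      intro x hx
      rw [Subgroup.mem_centralizer_iff]
      intro z hz
      exact hAc z ((Subgroup.zpowers_le.mpr ha) hz) x hx
    have h4 : ⁅⁅Cfsg.pCore p G, Subgroup.zpowers a⁆, Subgroup.zpowers a⁆ = ⊥ := by
      rw [eq_bot_iff, ← h3]; exact Subgroup.commutator_mono h1 le_rfl
    rw [h4]; exact bot_le
  obtain ⟨D, hDn, hKD, ⟨k, hk⟩, haD⟩ := hst2 a hq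
  have hKp := sectionKernel_isPGroup (Cfsg.pCore p G)
    ((frattini ↥(Cfsg.pCore p G)).map (Cfsg.pCore p G).subtype) hQp hc rfl
  have hDp : IsPGroup p D := by
    obtain ⟨n, hn⟩ := IsPGroup.iff_card.mp hKp
    apply IsPGroup.of_card (n := n + k)
    have h1 := Subgroup.card_mul_index ((Cfsg.sectionKernel (Cfsg.pCore p G)
      ((frattini ↥(Cfsg.pCore p G)).map (Cfsg.pCore p G).subtype)).subgroupOf D)
    have h2 : Nat.card ((Cfsg.sectionKernel (Cfsg.pCore p G)
      ((frattini ↥(Cfsg.pCore p G)).map (Cfsg.pCore p G).subtype)).subgroupOf D) =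
        Nat.card (Cfsg.sectionKernel (Cfsg.pCore p G)
          ((frattini ↥(Cfsg.pCore p G)).map (Cfsg.pCore p G).subtype)) :=
      Nat.card_congr (Subgroup.subgroupOfEquivOfLe hKD).toEquiv
    rw [h2, hn] at h1
    have h3 : ((Cfsg.sectionKernel (Cfsg.pCore p G)
      ((frattini ↥(Cfsg.pCore p G)).map (Cfsg.pCore p G).subtype)).subgroupOf D).index = p ^ k := hk
    rw [h3] at h1
    rw [← h1, pow_add]
  exact Cfsg.Agent.Lib.Helper4.le_pCore hDn hDp haD

set_option maxHeartbeats 1000000 in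
theorem normalClosure_isEA {G : Type*} [Group G] [Finite G] {p : ℕ} [Fact p.Prime] (S : Sylow p G)
    (Q : Subgroup G) [hQn : Q.Normal] (hQS : Q ≤ S) (W : Subgroup G) (hWQ : W ≤ Q)
    (hWn : (S : Subgroup G) ≤ Subgroup.normalizer (W : Set G))
    (hWc : ∀ x ∈ W, ∀ y ∈ W, x * y = y * x) (hWp : ∀ x ∈ W, x ^ p = 1)
    (hP : ∀ s ∈ (S : Subgroup G), ⁅⁅W, Subgroup.zpowers s⁆, Subgroup.zpowers s⁆ = ⊥ →
      s ∈ Subgroup.centralizer (W : Set G)) :
    Cfsg.IsElementaryAbelian p (Subgroup.normalClosure (W : Set G)) := by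
  have step1 : ∀ g : G, ∀ x ∈ W, g * x * g⁻¹ ∈ Subgroup.centralizer (W : Set G) := by
    intro g x hx
    have hxQ : g * x * g⁻¹ ∈ Q := hQn.conj_mem x (hWQ hx) g
    apply hP _ (hQS hxQ)
    obtain ⟨W', hW'⟩ : ∃ W' : Subgroup G, W' = W.map (MulAut.conj g).toMonoidHom := ⟨_, rfl⟩
    have hxW' : Subgroup.zpowers (g * x * g⁻¹) ≤ W' := by
      rw [Subgroup.zpowers_le, hW']; exact ⟨x, hx, by simp [MulAut.conj_apply]⟩
    have h1 : ⁅W, Subgroup.zpowers (g * x * g⁻¹)⁆ ≤ W' := by
      rw [Subgroup.commutator_le]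
      intro w hw z hz
      have hzW' := hxW' hz
      rw [commutatorElement_def]
      have h2 : w * z * w⁻¹ ∈ W' := by
        rw [hW'] at hzW' ⊢
        obtain ⟨y, hy, rfl⟩ := hzW'
        have hwQ : g⁻¹ * w * g ∈ Q := by
          have := hQn.conj_mem w (hWQ hw) g⁻¹; simpa using this
        have hn := hWn (hQS hwQ)
        have h3 := (Subgroup.mem_normalizer_iff.mp hn y).mp hy
        refine ⟨(g⁻¹ * w * g) * y * (g⁻¹ * w * g)⁻¹, h3, ?_⟩
        simp only [MulEquiv.coe_toMonoidHom, MulAut.conj_apply]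
        group
      exact W'.mul_mem h2 (W'.inv_mem hzW')
    have h4 : ⁅W', Subgroup.zpowers (g * x * g⁻¹)⁆ = ⊥ := by
      rw [Subgroup.commutator_eq_bot_iff_le_centralizer]
      intro u hu
      rw [Subgroup.mem_centralizer_iff]
      intro z hz
      have hzW' := hxW' hz
      rw [hW'] at hu hzW'
      obtain ⟨u', hu', rfl⟩ := hu
      obtain ⟨z', hz', rfl⟩ := hzW'
      rw [← map_mul, ← map_mul, hWc z' hz' u' hu']
    rw [eq_bot_iff, ← h4]
    exact Subgroup.commutator_mono h1 le_rfl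
  have step2 : ∀ a ∈ Group.conjugatesOfSet (W : Set G), ∀ b ∈ Group.conjugatesOfSet (W : Set G),
      a * b = b * a := by
    intro a ha b hb
    rw [Group.mem_conjugatesOfSet_iff] at ha hb
    obtain ⟨x, hx, hxa⟩ := ha
    obtain ⟨y, hy, hyb⟩ := hb
    rw [isConj_iff] at hxa hyb
    obtain ⟨c, rfl⟩ := hxa
    obtain ⟨d, rfl⟩ := hyb
    have h1 := (Subgroup.mem_centralizer_iff.mp (step1 (d⁻¹ * c) x hx)) y hy
    have e1 : c * x * c⁻¹ * (d * y * d⁻¹) =
        d * ((d⁻¹ * c * x * (d⁻¹ * c)⁻¹) * y) * d⁻¹ := by group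
    have e2 : d * y * d⁻¹ * (c * x * c⁻¹) =
        d * (y * (d⁻¹ * c * x * (d⁻¹ * c)⁻¹)) * d⁻¹ := by group
    rw [e1, e2, h1]
  have h1 : Subgroup.normalClosure (W : Set G) ≤
      Subgroup.centralizer (Group.conjugatesOfSet (W : Set G)) := by
    rw [Subgroup.normalClosure, Subgroup.closure_le]
    intro a ha
    rw [SetLike.mem_coe, Subgroup.mem_centralizer_iff]
    intro b hb
    exact step2 b hb a ha
  have h2 : Subgroup.closure (Group.conjugatesOfSet (W : Set G)) ≤
      Subgroup.centralizer (Subgroup.normalClosure (W : Set G) : Set G) := by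
    rw [Subgroup.closure_le]
    intro a ha
    rw [SetLike.mem_coe, Subgroup.mem_centralizer_iff]
    intro b hb
    exact ((Subgroup.mem_centralizer_iff.mp (h1 hb)) a ha).symm
  have hcomm : ∀ a ∈ Subgroup.normalClosure (W : Set G),
      ∀ b ∈ Subgroup.normalClosure (W : Set G), a * b = b * a := by
    intro a ha b hb
    exact ((Subgroup.mem_centralizer_iff.mp (h2 hb)) a ha)
  have hexp : ∀ v ∈ Subgroup.closure (Group.conjugatesOfSet (W : Set G)), v ^ p = 1 := by
    intro v hv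
    induction hv using Subgroup.closure_induction with
    | mem x hx =>
      rw [Group.mem_conjugatesOfSet_iff] at hx
      obtain ⟨y, hy, hyx⟩ := hx
      rw [isConj_iff] at hyx
      obtain ⟨c, rfl⟩ := hyx
      rw [conj_pow, hWp y hy]; simp
    | one => exact one_pow p
    | mul a b ha hb iha ihb =>
      have hab : Commute a b := hcomm a ha b hb
      rw [hab.mul_pow, iha, ihb, one_mul]
    | inv a _ iha => rw [inv_pow, iha, inv_one]
  exact ⟨isMulCommutative_of_comm hcomm, fun v hv => hexp v hv⟩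

set_option maxHeartbeats 1000000 in
theorem thompson_le_centralizer_of_quad {G : Type*} [Group G] [Finite G] {p : ℕ} [Fact p.Prime]
    (S : Sylow p G) (V : Subgroup G) [hVn : V.Normal] (hVS : V ≤ S)
    (hV : Cfsg.IsElementaryAbelian p V)
    (hq : ∀ a : G, ⁅⁅V, Subgroup.zpowers a⁆, Subgroup.zpowers a⁆ = ⊥ →
      a ∈ Subgroup.centralizer (V : Set G)) :
    Cfsg.thompsonSubgroupOf p (S : Subgroup G) ≤ Subgroup.centralizer (V : Set G) := by
  unfold Cfsg.thompsonSubgroupOf Cfsg.thompsonSubgroup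
  rw [Subgroup.map_le_iff_le_comap]
  apply sSup_le
  intro A hA
  haveI : (V.subgroupOf (S : Subgroup G)).Normal := hVn.subgroupOf _
  have hV' : Cfsg.IsElementaryAbelian p (V.subgroupOf (S : Subgroup G)) :=
    isElementaryAbelian_subgroupOf hV
  obtain ⟨h1, h2, h3⟩ := Cfsg.Agent.S0607.result (V.subgroupOf (S : Subgroup G)) hV' A hA
  obtain ⟨A₀, hA₀⟩ : ∃ A₀ : Subgroup ↥(S : Subgroup G),
    A₀ = ⁅V.subgroupOf (S : Subgroup G), A⁆ ⊔ (A ⊓ Subgroup.centralizer
      ((⁅V.subgroupOf (S : Subgroup G), A⁆ : Subgroup _) : Set _)) := ⟨_, rfl⟩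
  rw [← hA₀] at h1 h2 h3
  have hmapV : (V.subgroupOf (S : Subgroup G)).map (S : Subgroup G).subtype = V := by
    rw [Subgroup.subgroupOf_map_subtype, inf_of_le_left hVS]
  have hA₀c : ⁅V.subgroupOf (S : Subgroup G), A₀⁆ = ⊥ := by
    rw [Subgroup.commutator_eq_bot_iff_le_centralizer, Subgroup.le_centralizer_iff]
    intro a ha
    have hqa : ⁅⁅V, Subgroup.zpowers (a : G)⁆, Subgroup.zpowers (a : G)⁆ = ⊥ := by
      have hz : Subgroup.zpowers (a : G) ≤ A₀.map (S : Subgroup G).subtype := by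
        rw [Subgroup.zpowers_le]; exact ⟨a, ha, rfl⟩
      rw [eq_bot_iff]
      calc ⁅⁅V, Subgroup.zpowers (a : G)⁆, Subgroup.zpowers (a : G)⁆
          ≤ ⁅⁅V, A₀.map (S : Subgroup G).subtype⁆, A₀.map (S : Subgroup G).subtype⁆ :=
            Subgroup.commutator_mono (Subgroup.commutator_mono le_rfl hz) hz
        _ = (⁅⁅V.subgroupOf (S : Subgroup G), A₀⁆, A₀⁆).map (S : Subgroup G).subtype := by
            rw [Subgroup.map_commutator, Subgroup.map_commutator, hmapV]
        _ = ⊥ := by rw [h2, Subgroup.map_bot]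
    have h5 := hq a hqa
    rw [Subgroup.mem_centralizer_iff]
    intro v hv
    apply Subtype.ext
    have := (Subgroup.mem_centralizer_iff.mp h5) (v : G) (Subgroup.mem_subgroupOf.mp hv)
    simpa using this
  have hAc : ⁅V.subgroupOf (S : Subgroup G), A⁆ = ⊥ := by
    by_contra hne
    exact h3 hne hA₀c
  intro a ha
  rw [Subgroup.mem_comap, Subgroup.mem_centralizer_iff]
  intro v hv
  rw [Subgroup.commutator_eq_bot_iff_le_centralizer, Subgroup.le_centralizer_iff] at hAc
  have h6 := (Subgroup.mem_centralizer_iff.mp (hAc ha)) ⟨v, hVS hv⟩ (Subgroup.mem_subgroupOf.mpr hv)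
  have := congrArg Subtype.val h6
  simpa using this

theorem thompsonSubgroupOf_map_inj {G H : Type*} [Group G] [Group H] (p : ℕ) (f : G →* H)
    (hf : Function.Injective f) (U : Subgroup G) :
    Cfsg.thompsonSubgroupOf p (U.map f) = (Cfsg.thompsonSubgroupOf p U).map f := by
  unfold Cfsg.thompsonSubgroupOf
  rw [← thompsonSubgroup_map_equiv p (U.equivMapOfInjective f hf), Subgroup.map_map,
    Subgroup.map_map]
  congr 1

theorem thompsonSubgroupOf_le {G : Type*} [Group G] (p : ℕ) (U : Subgroup G) :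
    Cfsg.thompsonSubgroupOf p U ≤ U := by
  rintro _ ⟨x, -, rfl⟩; exact x.2

theorem thompsonSubgroupOf_eq_of_between {G : Type*} [Group G] [Finite G] {p : ℕ}
    (T S : Subgroup G) (hTS : T ≤ S) (hJ : Cfsg.thompsonSubgroupOf p S ≤ T) :
    Cfsg.thompsonSubgroupOf p T = Cfsg.thompsonSubgroupOf p S := by
  have h1 : Cfsg.thompsonSubgroup p ↥S ≤ T.subgroupOf S := by
    intro x hx
    rw [Subgroup.mem_subgroupOf]
    exact hJ (Subgroup.mem_map_of_mem _ hx)
  have h2 := Cfsg.Agent.Lib.Helper1.thompsonSubgroupOf_eq_of_le (T.subgroupOf S) h1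
  have h3 := thompsonSubgroupOf_map_inj p S.subtype S.subtype_injective (T.subgroupOf S)
  rw [Subgroup.subgroupOf_map_subtype, inf_of_le_left hTS, h2] at h3
  exact h3

theorem thompson_isCharPFunctor (p : ℕ) [Fact p.Prime] :
    Cfsg.IsCharPFunctor.{u} p (fun Q _ => Cfsg.thompsonSubgroup p Q) := by
  refine ⟨fun Q _ _ hQ hnt => ?_, fun Q R _ _ _ hQ φ => thompsonSubgroup_map_equiv p φ⟩
  apply (Cfsg.Agent.S0602.result (G := Q) (p := p)).2
  obtain ⟨n, hn⟩ := IsPGroup.iff_card.mp hQ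
  rw [hn]
  apply dvd_pow_self
  rintro rfl
  rw [pow_zero] at hn
  have := Finite.one_lt_card (α := Q)
  omega

end Cfsg.Agent.Lib.Helper1
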