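import Mathlib
import Cfsg.Prelude.Def_PLocal
import Cfsg.Prelude.Def_ConjugacyFunctors
import Cfsg.Agent.Lib.Helper1.WS4
import Cfsg.Agent.Lib.Helper6.Comm

/-!
# The stable normal closure `W(S)` is normal in action-`p`-stable groups, II (helper1)
-/

set_option autoImplicit false
open Pointwise
open scoped commutatorElement

namespace Cfsg.Agent.Lib.Helper1

universe u

set_option maxHeartbeats 1000000 in
theorem stableEmbedding_normalizer {G : Type u} [Group G] [Finite G] {p : ℕ} [Fact p.Prime]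
    (hc : Subgroup.centralizer (Cfsg.pCore p G : Set G) ≤ Cfsg.pCore p G) (S : Sylow p G)
    (N : Subgroup G)
    (hN : N = Subgroup.normalizer (Cfsg.thompsonSubgroupOf p (S : Subgroup G) : Set G))
    (hSN : (S : Subgroup G) ≤ N)
    (h3 : ∀ (V : Subgroup ↥N) [V.Normal],
      V.map N.subtype ≤
        (Cfsg.omegaCenterThompson p ↥(S : Subgroup G)).map (S : Subgroup G).subtype →
        Cfsg.IsPStableOn p V) :
    Cfsg.IsStableEmbedding p (Subgroup.inclusion hSN) := by
  refine ⟨Subgroup.inclusion_injective hSN, inferInstance, ⟨S.subtype hSN, ?_⟩, ?_, ?_, ?_⟩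
  · rw [Sylow.coe_subtype, Subgroup.inclusion_range]
  · haveI hQn := Cfsg.Agent.Lib.Helper4.pCore_normal p G
    have hQp := Cfsg.Agent.Lib.Helper4.pCore_isPGroup p G
    have hQS := Cfsg.Agent.Lib.Helper4.pCore_le_sylow S
    have hQle : (Cfsg.pCore p G).subgroupOf N ≤ Cfsg.pCore p ↥N := by
      apply Cfsg.Agent.Lib.Helper4.le_pCore (hQn.subgroupOf N)
      exact hQp.comap_subtype
    intro x hx
    apply hQle
    rw [Subgroup.mem_subgroupOf]
    apply hc
    rw [Subgroup.mem_centralizer_iff]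
    intro q hq
    have hqN : q ∈ N := hSN (hQS hq)
    have := (Subgroup.mem_centralizer_iff.mp hx) ⟨q, hqN⟩ (hQle (Subgroup.mem_subgroupOf.mpr hq))
    have h5 := congrArg Subtype.val this
    simpa using h5
  · have he : (Cfsg.thompsonSubgroup p ↥(S : Subgroup G)).map (Subgroup.inclusion hSN) =
        (Cfsg.thompsonSubgroupOf p (S : Subgroup G)).subgroupOf N := by
      ext x
      rw [Subgroup.mem_subgroupOf]
      unfold Cfsg.thompsonSubgroupOf
      constructor
      · rintro ⟨j, hj, rfl⟩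
        exact ⟨j, hj, rfl⟩
      · rintro ⟨j, hj, hje⟩
        exact ⟨j, hj, Subtype.ext hje⟩
    rw [he]
    subst hN
    exact Subgroup.normal_in_normalizer
  · intro V hVn hV
    apply h3 V
    calc V.map N.subtype ≤ ((Cfsg.omegaCenterThompson p ↥(S : Subgroup G)).map
          (Subgroup.inclusion hSN)).map N.subtype := Subgroup.map_mono hV
      _ = _ := by rw [Subgroup.map_map, Subgroup.subtype_comp_inclusion]

set_option maxHeartbeats 2000000 in
/-- In an action-`p`-stable group with `C_G(O_p(G)) ≤ O_p(G)`, `W(S)` is normal. -/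
theorem snc_normal_of_actionPStable {G : Type u} [Group G] [Finite G] {p : ℕ} [Fact p.Prime]
    (hst : Cfsg.IsActionPStable p G)
    (hc : Subgroup.centralizer (Cfsg.pCore p G : Set G) ≤ Cfsg.pCore p G) (S : Sylow p G) :
    ((Cfsg.stableNormalClosure p ↥(S : Subgroup G)).map (S : Subgroup G).subtype).Normal := by
  obtain ⟨hst1, hst2, hst3⟩ := hst
  haveI hQn := Cfsg.Agent.Lib.Helper4.pCore_normal p G
  have hQp := Cfsg.Agent.Lib.Helper4.pCore_isPGroup p G
  have hQS := Cfsg.Agent.Lib.Helper4.pCore_le_sylow S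
  have hSp : IsPGroup p ↥(S : Subgroup G) := S.isPGroup'
  obtain ⟨W, hW⟩ : ∃ W : Subgroup G,
    W = (Cfsg.stableNormalClosure p ↥(S : Subgroup G)).map (S : Subgroup G).subtype := ⟨_, rfl⟩
  rw [← hW]
  have hWS : W ≤ S := by rw [hW]; rintro _ ⟨x, -, rfl⟩; exact x.2
  have hchar : (Cfsg.stableNormalClosure p ↥(S : Subgroup G)).Characteristic := by
    rw [Subgroup.characteristic_iff_map_le]; intro ϕ; exact snc_map_equiv_le hSp ϕ
  haveI hnS : (Cfsg.stableNormalClosure p ↥(S : Subgroup G)).Normal :=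
    Subgroup.normal_of_characteristic _
  have hWn : (S : Subgroup G) ≤ Subgroup.normalizer (W : Set G) := by
    intro s hs
    apply Cfsg.Agent.Lib.Helper6.mem_normalizer_of_conj_mem
    rw [hW]
    rintro _ ⟨w, hw, rfl⟩
    exact ⟨⟨s, hs⟩ * w * ⟨s, hs⟩⁻¹, hnS.conj_mem w hw ⟨s, hs⟩, rfl⟩
  obtain ⟨A, hA⟩ := maxEA_nonempty (G := ↥(S : Subgroup G)) p
  have hW₀A : Cfsg.stableNormalClosure p ↥(S : Subgroup G) ≤ A := by
    intro w hw
    have h1 := snc_le_oct hSp hw
    rw [← (Cfsg.Agent.S0655.result hSp).1, Subgroup.mem_sInf] at h1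
    exact h1 A hA
  have hWc : ∀ x ∈ W, ∀ y ∈ W, x * y = y * x := by
    rw [hW]
    rintro _ ⟨x, hx, rfl⟩ _ ⟨y, hy, rfl⟩
    exact congrArg Subtype.val (comm_of_isMulCommutative hA.1.1 x (hW₀A hx) y (hW₀A hy))
  have hWp : ∀ x ∈ W, x ^ p = 1 := by
    rw [hW]
    rintro _ ⟨x, hx, rfl⟩
    have := congrArg Subtype.val (hA.1.2 x (hW₀A hx))
    simpa using this
  have hWQ : W ≤ Cfsg.pCore p G := abelian_normal_le_pCore hc hst2 S W hWn hWc
  have hP : ∀ s ∈ (S : Subgroup G), ⁅⁅W, Subgroup.zpowers s⁆, Subgroup.zpowers s⁆ = ⊥ →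
      s ∈ Subgroup.centralizer (W : Set G) := by
    intro s hs hq
    rw [hW] at hq
    have h1 := snc_quad_central hSp ⟨s, hs⟩
      (quad_of_map (S : Subgroup G).subtype (Subgroup.subtype_injective _) _ ⟨s, hs⟩ hq)
    rw [hW, Subgroup.mem_centralizer_iff]
    rintro _ ⟨w, hw, rfl⟩
    exact congrArg Subtype.val ((Subgroup.mem_centralizer_iff.mp h1) w hw)
  obtain ⟨V, hV⟩ : ∃ V : Subgroup G, V = Subgroup.normalClosure (W : Set G) := ⟨_, rfl⟩
  haveI hVn : V.Normal := by rw [hV]; exact Subgroup.normalClosure_normal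
  have hVea : Cfsg.IsElementaryAbelian p V := by
    rw [hV]; exact normalClosure_isEA S (Cfsg.pCore p G) hQS W hWQ hWn hWc hWp hP
  have hVQ : V ≤ Cfsg.pCore p G := by rw [hV]; exact Subgroup.normalClosure_le_normal hWQ
  have hWV : W ≤ V := by rw [hV]; exact Subgroup.le_normalClosure
  have hq := quad_central S W V hV (hst1 V hVea) hP
  have hJ := thompson_le_centralizer_of_quad S V (hVQ.trans hQS) hVea hq
  have hfr := frattini_inf S (Subgroup.centralizer (V : Set G))
  obtain ⟨N, hN⟩ : ∃ N : Subgroup G,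
    N = Subgroup.normalizer (Cfsg.thompsonSubgroupOf p (S : Subgroup G) : Set G) := ⟨_, rfl⟩
  have hTN : Subgroup.normalizer
      (((S : Subgroup G) ⊓ Subgroup.centralizer (V : Set G) : Subgroup G) : Set G) ≤ N := by
    have e1 := thompsonSubgroupOf_eq_of_between (p := p)
      ((S : Subgroup G) ⊓ Subgroup.centralizer (V : Set G)) S inf_le_left
      (le_inf (thompsonSubgroupOf_le p _) hJ)
    have hTp : IsPGroup p ↥((S : Subgroup G) ⊓ Subgroup.centralizer (V : Set G)) :=
      S.isPGroup'.to_le inf_le_left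
    have e2 := indW_normalizer (fun Q _ => Cfsg.thompsonSubgroup p Q) (thompson_isCharPFunctor p)
      ((S : Subgroup G) ⊓ Subgroup.centralizer (V : Set G)) hTp
    rw [hN, ← e1]; exact e2
  have hSN : (S : Subgroup G) ≤ N := by
    rw [hN]
    exact Subgroup.le_normalizer.trans (indW_normalizer (fun Q _ => Cfsg.thompsonSubgroup p Q)
      (thompson_isCharPFunctor p) (S : Subgroup G) hSp)
  have hstab := stableEmbedding_normalizer hc S N hN hSN (by subst hN; exact hst3 S)
  have hWnN := snc_map_normal hSp (Subgroup.inclusion hSN) hstab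
  have hNW : N ≤ Subgroup.normalizer (W : Set G) := by
    intro n hn
    apply Cfsg.Agent.Lib.Helper6.mem_normalizer_of_conj_mem
    rw [hW]
    rintro _ ⟨w, hw, rfl⟩
    obtain ⟨w', hw', hw'e⟩ := hWnN.conj_mem _
      (Subgroup.mem_map_of_mem (Subgroup.inclusion hSN) hw) ⟨n, hn⟩
    refine ⟨w', hw', ?_⟩
    have := congrArg Subtype.val hw'e
    simpa using this
  have hCW : Subgroup.centralizer (V : Set G) ≤ Subgroup.normalizer (W : Set G) := by
    intro c hc'
    apply Cfsg.Agent.Lib.Helper6.mem_normalizer_of_conj_mem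
    intro w hw
    have := (Subgroup.mem_centralizer_iff.mp hc') w (hWV hw)
    have e : c * w * c⁻¹ = w := by rw [← this]; group
    rw [e]; exact hw
  rw [← Subgroup.normalizer_eq_top_iff, eq_top_iff, ← hfr]
  exact sup_le (hTN.trans hNW) hCW

end Cfsg.Agent.Lib.Helper1
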