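import Mathlib
import Cfsg.Prelude.Def_PLocal
import Cfsg.Prelude.Def_ConjugacyFunctors
import Cfsg.Agent.Lib.Helper1.WS5
import Cfsg.Agent.Lib.Helper1.GT8
import Cfsg.Agent.Lib.Helper1.GT9

/-!
# Action-`p`-stability in the minimal situation of the Thompson-type reduction (helper1)
-/

set_option autoImplicit false
open Pointwise
open scoped commutatorElement

namespace Cfsg.Agent.Lib.Helper1

universe u

theorem coatom_map_mk_ws {L : Type*} [Group L] {K L₀ : Subgroup L} [K.Normal]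
    (hL₀ : IsCoatom L₀) (hK : K ≤ L₀) : IsCoatom (L₀.map (QuotientGroup.mk' K)) := by
  have hcm : (L₀.map (QuotientGroup.mk' K)).comap (QuotientGroup.mk' K) = L₀ := by
    rw [Subgroup.comap_map_eq, QuotientGroup.ker_mk', sup_of_le_left hK]
  constructor
  · intro h
    apply hL₀.1
    rw [← hcm, h, Subgroup.comap_top]
  · intro B hB
    have h1 : L₀ < B.comap (QuotientGroup.mk' K) := by
      rw [← hcm]
      exact (Subgroup.comap_lt_comap_of_surjective (QuotientGroup.mk'_surjective K)).mpr hB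
    have h2 := hL₀.2 _ h1
    rw [← Subgroup.map_comap_eq_self_of_surjective (QuotientGroup.mk'_surjective K) B, h2,
      Subgroup.map_top_of_surjective _ (QuotientGroup.mk'_surjective K)]

set_option maxHeartbeats 1000000 in
theorem min_pstable_section {X : Type*} [Group X] [Finite X] {p : ℕ} [Fact p.Prime] (hp2 : p ≠ 2)
    (hbar : Cfsg.HasNormalPComplement p (X ⧸ Cfsg.pCore p X))
    (T : Sylow p X) (hT : IsCoatom (T : Subgroup X))
    (N : Subgroup X) [hNn : N.Normal] (hNQ : N ≤ Cfsg.pCore p X) :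
    Cfsg.IsPStableOnSection p (Cfsg.pCore p X) N := by
  have hπs : Function.Surjective (QuotientGroup.mk' N) := QuotientGroup.mk'_surjective N
  haveI hQn := Cfsg.Agent.Lib.Helper4.pCore_normal p X
  have hQp := Cfsg.Agent.Lib.Helper4.pCore_isPGroup p X
  have hQT := Cfsg.Agent.Lib.Helper4.pCore_le_sylow T
  have hle : (Cfsg.pCore p X).map (QuotientGroup.mk' N) ≤ Cfsg.pCore p (X ⧸ N) :=
    pCore_map_le p _ hπs
  haveI : (Cfsg.pCore p (X ⧸ N)).Normal := Cfsg.Agent.Lib.Helper4.pCore_normal p _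
  have hbar' : Cfsg.HasNormalPComplement p ((X ⧸ N) ⧸ Cfsg.pCore p (X ⧸ N)) := by
    apply npc_of_surjective (QuotientGroup.map (Cfsg.pCore p X) (Cfsg.pCore p (X ⧸ N))
      (QuotientGroup.mk' N) (by rw [← Subgroup.map_le_iff_le_comap]; exact hle)) ?_ hbar
    intro y
    obtain ⟨y', rfl⟩ := QuotientGroup.mk_surjective y
    obtain ⟨x, rfl⟩ := hπs y'
    exact ⟨(x : X ⧸ Cfsg.pCore p X), rfl⟩
  have hT' : IsCoatom ((T.mapSurjective hπs : Sylow p (X ⧸ N)) : Subgroup (X ⧸ N)) := by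
    rw [Sylow.coe_mapSurjective]
    exact coatom_map_mk_ws hT (hNQ.trans hQT)
  haveI hQbn : ((Cfsg.pCore p X).map (QuotientGroup.mk' N)).Normal := hQn.map _ hπs
  have hst := min_pstable hp2 hbar' _ hT' ((Cfsg.pCore p X).map (QuotientGroup.mk' N))
    (hQp.map _)
  intro a hq
  have hq' : ⁅⁅(Cfsg.pCore p X).map (QuotientGroup.mk' N),
      Subgroup.zpowers ((QuotientGroup.mk' N) a)⁆,
      Subgroup.zpowers ((QuotientGroup.mk' N) a)⁆ = ⊥ := by
    rw [← MonoidHom.map_zpowers, ← Subgroup.map_commutator, ← Subgroup.map_commutator, eq_bot_iff]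
    intro y hy
    obtain ⟨x, hx, rfl⟩ := hy
    rw [Subgroup.mem_bot]
    exact (QuotientGroup.eq_one_iff x).mpr (hq hx)
  have h1 := hst _ hq'
  obtain ⟨φ, hφ⟩ : ∃ φ : X →* (X ⧸ N) ⧸ Subgroup.centralizer
      (((Cfsg.pCore p X).map (QuotientGroup.mk' N) : Subgroup (X ⧸ N)) : Set (X ⧸ N)),
      φ = (QuotientGroup.mk' _).comp (QuotientGroup.mk' N) := ⟨_, rfl⟩
  have hφs : Function.Surjective φ := by
    rw [hφ]; exact (QuotientGroup.mk'_surjective _).comp hπs
  have hker : Cfsg.sectionKernel (Cfsg.pCore p X) N = (⊥ : Subgroup _).comap φ := by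
    rw [hφ, ← Subgroup.comap_comap, MonoidHom.comap_bot, QuotientGroup.ker_mk']
    rfl
  refine ⟨(Cfsg.pCore p _).comap φ, (Cfsg.Agent.Lib.Helper4.pCore_normal p _).comap φ, ?_, ?_, ?_⟩
  · rw [hker]; exact Subgroup.comap_mono bot_le
  · rw [hker, Subgroup.relIndex_comap, Subgroup.relIndex_bot_left,
      Subgroup.map_comap_eq_self_of_surjective hφs]
    exact IsPGroup.iff_card.mp (Cfsg.Agent.Lib.Helper4.pCore_isPGroup p _)
  · rw [Subgroup.mem_comap, hφ]; exact h1

theorem pstable_of_isPGroup {Y : Type*} [Group Y] [Finite Y] {p : ℕ} [Fact p.Prime]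
    (hY : IsPGroup p Y) (V : Subgroup Y) [V.Normal] : Cfsg.IsPStableOn p V := by
  intro a _
  have h1 : IsPGroup p (Y ⧸ Subgroup.centralizer (V : Set Y)) := hY.to_quotient _
  have h2 : (⊤ : Subgroup (Y ⧸ Subgroup.centralizer (V : Set Y))) ≤
      Cfsg.pCore p (Y ⧸ Subgroup.centralizer (V : Set Y)) := by
    have hn : (⊤ : Subgroup (Y ⧸ Subgroup.centralizer (V : Set Y))).Normal := inferInstance
    apply Cfsg.Agent.Lib.Helper4.le_pCore hn
    exact h1.to_subgroup _
  exact h2 (Subgroup.mem_top _)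

theorem min_pstable_transport {X Y : Type*} [Group X] [Group Y] [Finite X] [Finite Y] {p : ℕ}
    [Fact p.Prime] (hp2 : p ≠ 2) (e : Y ≃* X)
    (hbar : Cfsg.HasNormalPComplement p (X ⧸ Cfsg.pCore p X))
    (T : Sylow p X) (hT : IsCoatom (T : Subgroup X))
    (V : Subgroup Y) [V.Normal] (hV : IsPGroup p V) : Cfsg.IsPStableOn p V := by
  have hpc := pCore_map_equiv p e.symm
  have hbarY : Cfsg.HasNormalPComplement p (Y ⧸ Cfsg.pCore p Y) :=
    npc_of_mulEquiv (QuotientGroup.congr (Cfsg.pCore p X) (Cfsg.pCore p Y) e.symm hpc) hbar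
  have hTY : IsCoatom
      ((T.mapSurjective (f := e.symm.toMonoidHom) e.symm.surjective : Sylow p Y) : Subgroup Y) := by
    have : ((T.mapSurjective (f := e.symm.toMonoidHom) e.symm.surjective : Sylow p Y) :
        Subgroup Y) = e.symm.mapSubgroup (T : Subgroup X) := rfl
    rw [this, OrderIso.isCoatom_iff]; exact hT
  exact min_pstable hp2 hbarY _ hTY V hV

theorem min_pstable_subgroup {X : Type*} [Group X] [Finite X] {p : ℕ} [Fact p.Prime] (hp2 : p ≠ 2)
    (hbar : Cfsg.HasNormalPComplement p (X ⧸ Cfsg.pCore p X))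
    (T : Sylow p X) (hT : IsCoatom (T : Subgroup X))
    (S' : Sylow p X) (M : Subgroup X) (hM : (S' : Subgroup X) ≤ M)
    (V : Subgroup ↥M) [V.Normal] (hV : IsPGroup p V) : Cfsg.IsPStableOn p V := by
  have hS' : IsCoatom (S' : Subgroup X) := by
    obtain ⟨g, hg⟩ := MulAction.exists_smul_eq X T S'
    rw [← hg, Sylow.coe_subgroup_smul]
    exact (OrderIso.isCoatom_iff ((MulAut.conj g).mapSubgroup) _).mpr hT
  rcases eq_or_lt_of_le hM with h | h
  · have hMp : IsPGroup p ↥M := by rw [← h]; exact S'.isPGroup'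
    exact pstable_of_isPGroup hMp V
  · have hMtop : M = ⊤ := hS'.2 M h
    subst hMtop
    exact min_pstable_transport hp2 Subgroup.topEquiv hbar T hT V hV

theorem snc_isCharPFunctor (p : ℕ) [Fact p.Prime] :
    Cfsg.IsCharPFunctor.{u} p (fun Q _ => Cfsg.stableNormalClosure p Q) :=
  ⟨fun Q _ _ hQ hnt => @snc_ne_bot Q _ _ p _ hQ hnt, fun _ _ _ _ _ hQ φ => snc_map_equiv hQ φ⟩

set_option maxHeartbeats 1000000 in
theorem min_actionPStable {X : Type u} [Group X] [Finite X] {p : ℕ} [Fact p.Prime] (hp2 : p ≠ 2)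
    (hbar : Cfsg.HasNormalPComplement p (X ⧸ Cfsg.pCore p X))
    (T : Sylow p X) (hT : IsCoatom (T : Subgroup X)) : Cfsg.IsActionPStable p X := by
  refine ⟨fun V _ hV => min_pstable hp2 hbar T hT V (isPGroup_of_isElementaryAbelian hV), ?_, ?_⟩
  · apply min_pstable_section hp2 hbar T hT
    rintro _ ⟨x, -, rfl⟩; exact x.2
  · intro S' V _ hV
    have hSp : IsPGroup p ↥(S' : Subgroup X) := S'.isPGroup'
    have hSN : (S' : Subgroup X) ≤
        Subgroup.normalizer (Cfsg.thompsonSubgroupOf p (S' : Subgroup X) : Set X) :=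
      Subgroup.le_normalizer.trans (indW_normalizer (fun Q _ => Cfsg.thompsonSubgroup p Q)
        (thompson_isCharPFunctor p) (S' : Subgroup X) hSp)
    apply min_pstable_subgroup hp2 hbar T hT S' _ hSN V
    rintro ⟨v, hv⟩
    have h1 : ((v : ↥(Subgroup.normalizer
        (Cfsg.thompsonSubgroupOf p (S' : Subgroup X) : Set X))) : X) ∈ (S' : Subgroup X) := by
      have := hV (Subgroup.mem_map_of_mem _ hv)
      obtain ⟨y, -, hy⟩ := this
      have hy' : (v : X) = (y : X) := hy.symm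
      rw [hy']; exact y.2
    obtain ⟨k, hk⟩ := hSp ⟨_, h1⟩
    refine ⟨k, ?_⟩
    apply Subtype.ext; apply Subtype.ext
    have := congrArg Subtype.val hk
    simpa using this

end Cfsg.Agent.Lib.Helper1
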