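import Mathlib
import Cfsg.Agent.Lib.Helper1.GR3
import Cfsg.Agent.Lib.Helper1.WS6
import Cfsg.Agent.Lib.Helper6.OmegaCent

/-!
# Thompson's normal p-complement theorem, `N(J(P))` and `C(Z(P))` form (helper1)
-/

set_option autoImplicit false
open Pointwise
open scoped commutatorElement

namespace Cfsg.Agent.Lib.Helper1

universe u

/-- the two local subgroups: `N_G(J(R))` and `C_G(Z(R))` -/
def thM (p : ℕ) : Bool → ∀ (G : Type u) [Group G], Subgroup G → Subgroup G
  | true => fun _ _ R => Subgroup.normalizer (Cfsg.thompsonSubgroupOf p R : Set _)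
  | false => fun _ _ R => Subgroup.centralizer ((R ⊓ Subgroup.centralizer (R : Set _) : Subgroup _) : Set _)

def thZ (p : ℕ) : Bool → ∀ (G : Type u) [Group G], Subgroup G → Subgroup G
  | true => fun _ _ R => Cfsg.thompsonSubgroupOf p R
  | false => fun _ _ R => R ⊓ Subgroup.centralizer (R : Set _)

theorem center_ne_bot_of_pgroup {G : Type*} [Group G] [Finite G] {p : ℕ} [Fact p.Prime]
    (R : Subgroup G) (hR : IsPGroup p R) (hne : R ≠ ⊥) :
    R ⊓ Subgroup.centralizer (R : Set G) ≠ ⊥ := by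
  haveI : Nontrivial ↥R := (Subgroup.nontrivial_iff_ne_bot R).mpr hne
  haveI := hR.center_nontrivial
  obtain ⟨z, hz⟩ := exists_ne (1 : ↥(Subgroup.center ↥R))
  intro hbot
  have hmem : ((z : ↥R) : G) ∈ R ⊓ Subgroup.centralizer (R : Set G) := by
    refine Subgroup.mem_inf.mpr ⟨(z : ↥R).2, ?_⟩
    rw [Subgroup.mem_centralizer_iff]
    intro r hr
    have := Subgroup.mem_center_iff.mp z.2 ⟨r, hr⟩
    exact congrArg Subtype.val this
  rw [hbot, Subgroup.mem_bot] at hmem
  apply hz
  apply Subtype.ext; apply Subtype.ext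
  exact hmem

theorem normalizer_le_normalizer_center {G : Type*} [Group G] [Finite G] (R : Subgroup G) :
    Subgroup.normalizer (R : Set G) ≤
      Subgroup.normalizer ((R ⊓ Subgroup.centralizer (R : Set G) : Subgroup G) : Set G) := by
  intro g hg
  apply Cfsg.Agent.Lib.Helper6.mem_normalizer_of_conj_mem
  intro x hx
  have hxR := (Subgroup.mem_inf.mp hx).1
  have hxC := Subgroup.mem_centralizer_iff.mp (Subgroup.mem_inf.mp hx).2
  refine Subgroup.mem_inf.mpr ⟨(Subgroup.mem_normalizer_iff.mp hg x).mp hxR, ?_⟩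
  rw [Subgroup.mem_centralizer_iff]
  intro r hr
  have hr' : g⁻¹ * r * g ∈ R := by
    have h1 : g⁻¹ ∈ Subgroup.normalizer (R : Set G) := Subgroup.inv_mem _ hg
    have := (Subgroup.mem_normalizer_iff.mp h1 r).mp hr
    simpa using this
  have h2 := hxC _ hr'
  have e1 : r * (g * x * g⁻¹) = g * ((g⁻¹ * r * g) * x) * g⁻¹ := by group
  have e2 : g * x * g⁻¹ * r = g * (x * (g⁻¹ * r * g)) * g⁻¹ := by group
  rw [e1, e2, h2]

theorem pel_mem_pprime_eq_one {G : Type*} [Group G] [Finite G] {p : ℕ} [Fact p.Prime]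
    (O : Subgroup G) (hO : (Nat.card O).Coprime p) (P : Subgroup G) (hP : IsPGroup p P)
    (x : G) (hxP : x ∈ P) (hxO : x ∈ O) : x = 1 := by
  obtain ⟨k, hk⟩ := hP ⟨x, hxP⟩
  have h1 : x ^ (p ^ k) = 1 := pow_eq_one_of_subtype hxP hk
  have h2 : orderOf x ∣ p ^ k := orderOf_dvd_of_pow_eq_one h1
  have h3 : orderOf x ∣ Nat.card ↥O := by
    have := orderOf_dvd_natCard (⟨x, hxO⟩ : ↥O)
    rwa [Subgroup.orderOf_mk] at this
  have h4 : orderOf x = 1 := Nat.eq_one_of_dvd_coprimes (Nat.Coprime.pow_right k hO) h3 h2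
  exact orderOf_eq_one_iff.mp h4

set_option maxHeartbeats 1000000 in
theorem thLocAx (p : ℕ) [Fact p.Prime] : LocAx.{u} p (thM p) (thZ p) where
  ne_bot := by
    intro i G _ _ R hR hne
    cases i
    · exact center_ne_bot_of_pgroup R hR hne
    · exact indW_ne_bot (fun Q _ => Cfsg.thompsonSubgroup p Q) (thompson_isCharPFunctor p) R hR hne
  le := by
    intro i G _ R
    cases i
    · exact inf_le_left
    · exact thompsonSubgroupOf_le p R
  norm := by
    intro i G _ _ R hR
    cases i
    · exact normalizer_le_normalizer_center R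
    · exact indW_normalizer (fun Q _ => Cfsg.thompsonSubgroup p Q) (thompson_isCharPFunctor p) R hR
  sub := by
    intro i G _ _ R
    cases i
    · exact Subgroup.centralizer_le_normalizer _
    · exact le_rfl
  inj := by
    intro i G H _ _ _ _ f hf R hR
    cases i
    · rintro _ ⟨c, hc, rfl⟩
      have hc' := Subgroup.mem_centralizer_iff.mp hc
      show f c ∈ Subgroup.centralizer _
      rw [Subgroup.mem_centralizer_iff]
      intro y hy
      obtain ⟨r, hr, rfl⟩ := (Subgroup.mem_inf.mp hy).1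
      have hrC : r ∈ Subgroup.centralizer (R : Set G) := by
        rw [Subgroup.mem_centralizer_iff]
        intro s hs
        apply hf
        rw [map_mul, map_mul]
        exact (Subgroup.mem_centralizer_iff.mp (Subgroup.mem_inf.mp hy).2) _ ⟨s, hs, rfl⟩
      rw [← map_mul, ← map_mul, hc' r (Subgroup.mem_inf.mpr ⟨hr, hrC⟩)]
    · show (Subgroup.normalizer (Cfsg.thompsonSubgroupOf p R : Set G)).map f ≤
        Subgroup.normalizer (Cfsg.thompsonSubgroupOf p (R.map f) : Set H)
      rw [thompsonSubgroupOf_map_inj p f hf R]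
      exact Subgroup.le_normalizer_map f
  quot := by
    intro i G _ _ O _ hO S
    have hinj : ∀ x ∈ (S : Subgroup G), (QuotientGroup.mk' O) x = 1 → x = 1 := by
      intro x hx hx1
      exact pel_mem_pprime_eq_one O hO S S.isPGroup' x hx ((QuotientGroup.eq_one_iff x).mp hx1)
    cases i
    · show Subgroup.centralizer _ ≤ (Subgroup.centralizer _).map _
      obtain ⟨Zs, hZs⟩ : ∃ Zs : Subgroup G,
        Zs = (S : Subgroup G) ⊓ Subgroup.centralizer ((S : Subgroup G) : Set G) := ⟨_, rfl⟩
      rw [← hZs]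
      have hZsS : Zs ≤ S := by rw [hZs]; exact inf_le_left
      have hZsp : IsPGroup p Zs := S.isPGroup'.to_le hZsS
      have hle : Zs.map (QuotientGroup.mk' O) ≤ (S : Subgroup G).map (QuotientGroup.mk' O) ⊓
          Subgroup.centralizer (((S : Subgroup G).map (QuotientGroup.mk' O) : Subgroup _) : Set _) := by
        rintro _ ⟨z, hz, rfl⟩
        rw [hZs] at hz
        refine Subgroup.mem_inf.mpr ⟨⟨z, (Subgroup.mem_inf.mp hz).1, rfl⟩, ?_⟩
        rw [Subgroup.mem_centralizer_iff]
        rintro _ ⟨s, hs, rfl⟩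
        rw [← map_mul, ← map_mul,
          (Subgroup.mem_centralizer_iff.mp (Subgroup.mem_inf.mp hz).2) s hs]
      intro gb hgb
      have hgb' : gb ∈ Subgroup.centralizer ((Zs.map (QuotientGroup.mk' O) : Subgroup _) : Set _) :=
        Subgroup.centralizer_le hle hgb
      have hgbN := normalizer_map_pprime O hO Zs hZsp (Subgroup.centralizer_le_normalizer _ hgb')
      obtain ⟨n, hn, rfl⟩ := hgbN
      refine ⟨n, ?_, rfl⟩
      rw [SetLike.mem_coe, Subgroup.mem_centralizer_iff]
      intro z hz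
      have h1 : n * z * n⁻¹ ∈ Zs := (Subgroup.mem_normalizer_iff.mp hn z).mp hz
      have h2 : n * z * n⁻¹ * z⁻¹ ∈ Zs := Zs.mul_mem h1 (Zs.inv_mem hz)
      have h3 : (QuotientGroup.mk' O) (n * z * n⁻¹ * z⁻¹) = 1 := by
        have := (Subgroup.mem_centralizer_iff.mp hgb') _ ⟨z, hz, rfl⟩
        rw [map_mul, map_mul, map_mul, map_inv, map_inv, ← this]; group
      have h4 := pel_mem_pprime_eq_one O hO Zs hZsp _ h2 ((QuotientGroup.eq_one_iff _).mp h3)
      calc z * n = (n * z * n⁻¹ * z⁻¹)⁻¹ * (n * z) := by group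
        _ = n * z := by rw [h4, inv_one, one_mul]
    · show Subgroup.normalizer ((Cfsg.thompsonSubgroupOf p
          ((S : Subgroup G).map (QuotientGroup.mk' O)) : Subgroup (G ⧸ O)) : Set (G ⧸ O)) ≤
        (Subgroup.normalizer (Cfsg.thompsonSubgroupOf p (S : Subgroup G) : Set G)).map
          (QuotientGroup.mk' O)
      have h5 : Cfsg.thompsonSubgroupOf p ((S : Subgroup G).map (QuotientGroup.mk' O)) =
          (Cfsg.thompsonSubgroupOf p (S : Subgroup G)).map (QuotientGroup.mk' O) :=
        indW_map (fun Q _ => Cfsg.thompsonSubgroup p Q) (thompson_isCharPFunctor p)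
          (QuotientGroup.mk' O) _ S.isPGroup' hinj
      rw [h5]
      exact normalizer_map_pprime O hO _ (S.isPGroup'.to_le (thompsonSubgroupOf_le p _))

end Cfsg.Agent.Lib.Helper1
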