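import Mathlib
import Cfsg.Agent.Lib.Helper1.TH1

/-!
# Thompson's normal p-complement theorem: the minimal configuration (helper1)
-/

set_option autoImplicit false
open Pointwise
open scoped commutatorElement

namespace Cfsg.Agent.Lib.Helper1

universe u

theorem closure_isEA {G : Type*} [Group G] {p : ℕ} (s : Set G)
    (hcomm : ∀ a ∈ s, ∀ b ∈ s, a * b = b * a) (hp : ∀ a ∈ s, a ^ p = 1) :
    Cfsg.IsElementaryAbelian p (Subgroup.closure s) := by
  have h1 : Subgroup.closure s ≤ Subgroup.centralizer s := by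
    rw [Subgroup.closure_le]
    intro a ha
    rw [SetLike.mem_coe, Subgroup.mem_centralizer_iff]
    intro b hb
    exact hcomm b hb a ha
  have h2 : Subgroup.closure s ≤ Subgroup.centralizer (Subgroup.closure s : Set G) := by
    rw [Subgroup.closure_le]
    intro a ha
    rw [SetLike.mem_coe, Subgroup.mem_centralizer_iff]
    intro b hb
    exact ((Subgroup.mem_centralizer_iff.mp (h1 hb)) a ha).symm
  have hc : ∀ a ∈ Subgroup.closure s, ∀ b ∈ Subgroup.closure s, a * b = b * a := by
    intro a ha b hb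
    exact ((Subgroup.mem_centralizer_iff.mp (h2 hb)) a ha)
  have hexp : ∀ v ∈ Subgroup.closure s, v ^ p = 1 := by
    intro v hv
    induction hv using Subgroup.closure_induction with
    | mem x hx => exact hp x hx
    | one => exact one_pow p
    | mul a b ha hb iha ihb =>
      have hab : Commute a b := hc a ha b hb
      rw [hab.mul_pow, iha, ihb, one_mul]
    | inv a _ iha => rw [inv_pow, iha, inv_one]
  exact ⟨isMulCommutative_of_comm hc, hexp⟩

set_option maxHeartbeats 2000000 in
theorem th_hloc {X : Type u} [Group X] [Finite X] {p : ℕ} [Fact p.Prime] (hp2 : p ≠ 2)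
    (hc : Subgroup.centralizer (Cfsg.pCore p X : Set X) ≤ Cfsg.pCore p X)
    (hbar : Cfsg.HasNormalPComplement p (X ⧸ Cfsg.pCore p X))
    (T : Sylow p X) (hT : IsCoatom (T : Subgroup X))
    (h : ∀ i, Cfsg.HasNormalPComplement p ↥(thM p i X (T : Subgroup X))) :
    Cfsg.HasNormalPComplement p X := by
  have hpp : p.Prime := Fact.out
  haveI hQn : (Cfsg.pCore p X).Normal := Cfsg.Agent.Lib.Helper4.pCore_normal p X
  have hQp := Cfsg.Agent.Lib.Helper4.pCore_isPGroup p X
  have hQT := Cfsg.Agent.Lib.Helper4.pCore_le_sylow T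
  have hTp : IsPGroup p ↥(T : Subgroup X) := T.isPGroup'
  have h1 : Cfsg.HasNormalPComplement p
      ↥(Subgroup.normalizer (Cfsg.thompsonSubgroupOf p (T : Subgroup X) : Set X)) := h true
  have h2 : Cfsg.HasNormalPComplement p ↥(Subgroup.centralizer
      (((T : Subgroup X) ⊓ Subgroup.centralizer ((T : Subgroup X) : Set X) : Subgroup X) :
        Set X)) := h false
  by_cases hJ : Subgroup.normalizer (Cfsg.thompsonSubgroupOf p (T : Subgroup X) : Set X) = ⊤
  · exact npc_of_top (npc_of_eq hJ h1)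
  obtain ⟨ZQ, hZQ⟩ : ∃ ZQ : Subgroup X,
    ZQ = Cfsg.pCore p X ⊓ Subgroup.centralizer (Cfsg.pCore p X : Set X) := ⟨_, rfl⟩
  haveI hZQn : ZQ.Normal := by rw [hZQ]; infer_instance
  have hZQp : IsPGroup p ZQ := hQp.to_le (by rw [hZQ]; exact inf_le_left)
  have hZQc : ∀ a ∈ ZQ, ∀ b ∈ ZQ, a * b = b * a := by
    intro a ha b hb
    rw [hZQ] at ha hb
    exact ((Subgroup.mem_centralizer_iff.mp (Subgroup.mem_inf.mp hb).2) a
      (Subgroup.mem_inf.mp ha).1)
  obtain ⟨V, hV⟩ : ∃ V : Subgroup X, V = Cfsg.omegaOne p ZQ := ⟨_, rfl⟩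
  haveI hVn : V.Normal := by rw [hV]; exact omegaOne_normal p ZQ
  have hVZQ : V ≤ ZQ := by
    rw [hV]; unfold Cfsg.omegaOne; rw [Subgroup.closure_le]; intro x hx; exact hx.1
  have hVea : Cfsg.IsElementaryAbelian p V := by
    rw [hV]; unfold Cfsg.omegaOne
    exact closure_isEA _ (fun a ha b hb => hZQc a ha.1 b hb.1) (fun a ha => ha.2)
  have hVp : IsPGroup p V := isPGroup_of_isElementaryAbelian hVea
  have hVQ : V ≤ Cfsg.pCore p X := hVZQ.trans (by rw [hZQ]; exact inf_le_left)
  have hQC : Cfsg.pCore p X ≤ Subgroup.centralizer (V : Set X) := by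
    intro q hq
    rw [Subgroup.mem_centralizer_iff]
    intro v hv
    have := hVZQ hv
    rw [hZQ] at this
    exact ((Subgroup.mem_centralizer_iff.mp (Subgroup.mem_inf.mp this).2) q hq).symm
  have hTC : (T : Subgroup X) ⊔ Subgroup.centralizer (V : Set X) = ⊤ := by
    rcases hT.le_iff.mp (le_sup_left : (T : Subgroup X) ≤
        (T : Subgroup X) ⊔ Subgroup.centralizer (V : Set X)) with h3 | h3
    · exact h3
    · exfalso
      apply hJ
      have hCT : Subgroup.centralizer (V : Set X) ≤ (T : Subgroup X) := by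
        rw [← h3]; exact le_sup_right
      have hCQ : Subgroup.centralizer (V : Set X) ≤ Cfsg.pCore p X :=
        Cfsg.Agent.Lib.Helper4.le_pCore inferInstance (hTp.to_le hCT)
      have hst := min_pstable hp2 hbar T hT V hVp
      have hq : ∀ a : X, ⁅⁅V, Subgroup.zpowers a⁆, Subgroup.zpowers a⁆ = ⊥ →
          a ∈ Subgroup.centralizer (V : Set X) := by
        intro a ha
        have h4 := hst a ha
        obtain ⟨D, hD⟩ : ∃ D : Subgroup X,
          D = (Cfsg.pCore p (X ⧸ Subgroup.centralizer (V : Set X))).comap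
            (QuotientGroup.mk' (Subgroup.centralizer (V : Set X))) := ⟨_, rfl⟩
        have hDn : D.Normal := by
          rw [hD]; exact (Cfsg.Agent.Lib.Helper4.pCore_normal p _).comap _
        have hDp : IsPGroup p D := by
          rintro ⟨d, hd⟩
          rw [hD, Subgroup.mem_comap] at hd
          obtain ⟨k, hk⟩ := (Cfsg.Agent.Lib.Helper4.pCore_isPGroup p
            (X ⧸ Subgroup.centralizer (V : Set X))) ⟨_, hd⟩
          have hk' : ((QuotientGroup.mk' (Subgroup.centralizer (V : Set X))) d) ^ (p ^ k) = 1 :=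
            pow_eq_one_of_subtype hd hk
          rw [← map_pow] at hk'
          have hdC : d ^ (p ^ k) ∈ Subgroup.centralizer (V : Set X) :=
            (QuotientGroup.eq_one_iff _).mp hk'
          obtain ⟨k2, hk2⟩ := hQp ⟨_, hCQ hdC⟩
          have hk2' : (d ^ (p ^ k)) ^ (p ^ k2) = 1 := pow_eq_one_of_subtype (hCQ hdC) hk2
          refine ⟨k + k2, ?_⟩
          apply Subtype.ext
          show d ^ (p ^ (k + k2)) = 1
          rw [pow_add, pow_mul]; exact hk2'
        have hDQ : D ≤ Cfsg.pCore p X := Cfsg.Agent.Lib.Helper4.le_pCore hDn hDp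
        apply hQC
        apply hDQ
        rw [hD, Subgroup.mem_comap]; exact h4
      have hJC := thompson_le_centralizer_of_quad T V (hVQ.trans hQT) hVea hq
      have hJQ : Cfsg.thompsonSubgroupOf p (T : Subgroup X) ≤ Cfsg.pCore p X := hJC.trans hCQ
      have e1 := thompsonSubgroupOf_eq_of_between (p := p) (Cfsg.pCore p X) T hQT hJQ
      have e2 := indW_normalizer (fun Q _ => Cfsg.thompsonSubgroup p Q)
        (thompson_isCharPFunctor p) (Cfsg.pCore p X) hQp
      rw [← e1, eq_top_iff, ← Subgroup.normalizer_eq_top_iff.mpr hQn]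
      exact e2
  have hTM : (T : Subgroup X) ≤ Subgroup.centralizer
      (((T : Subgroup X) ⊓ Subgroup.centralizer ((T : Subgroup X) : Set X) : Subgroup X) :
        Set X) := by
    intro t ht
    rw [Subgroup.mem_centralizer_iff]
    intro z hz
    exact ((Subgroup.mem_centralizer_iff.mp (Subgroup.mem_inf.mp hz).2) t ht).symm
  rcases hT.le_iff.mp hTM with h3 | h3
  · exact npc_of_top (npc_of_eq h3 h2)
  · apply npc_of_isPGroup
    intro x
    obtain ⟨e, m, hm, hnm⟩ := Nat.exists_eq_pow_mul_and_not_dvd (orderOf_pos x).ne' p hpp.ne_one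
    refine ⟨e, ?_⟩
    obtain ⟨x', hx'⟩ : ∃ x', x' = x ^ p ^ e := ⟨_, rfl⟩
    rw [← hx']
    have hx'm : x' ^ m = 1 := by rw [hx', ← pow_mul, ← hnm, pow_orderOf_eq_one]
    have hmp : Nat.Coprime m p := ((Nat.Prime.coprime_iff_not_dvd hpp).mpr hm).symm
    have hcop : (orderOf x').Coprime p :=
      Nat.Coprime.coprime_dvd_left (orderOf_dvd_of_pow_eq_one hx'm) hmp
    have hx'C : x' ∈ Subgroup.centralizer (V : Set X) := by
      have hmem : x' ∈ (T : Subgroup X) ⊔ Subgroup.centralizer (V : Set X) := by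
        rw [hTC]; trivial
      obtain ⟨t, ht, c, hc', htc⟩ := Subgroup.mem_sup_of_normal_right.mp hmem
      obtain ⟨k, hk⟩ := hTp ⟨t, ht⟩
      have hk' : t ^ (p ^ k) = 1 := pow_eq_one_of_subtype ht hk
      have h5 : (QuotientGroup.mk' (Subgroup.centralizer (V : Set X))) x' =
          (QuotientGroup.mk' (Subgroup.centralizer (V : Set X))) t := by
        have hc1 : (QuotientGroup.mk' (Subgroup.centralizer (V : Set X))) c = 1 :=
          (QuotientGroup.eq_one_iff c).mpr hc'
        rw [← htc, map_mul, hc1, mul_one]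
      have h6 : ((QuotientGroup.mk' (Subgroup.centralizer (V : Set X))) x') ^ (p ^ k) = 1 := by
        rw [h5, ← map_pow, hk', map_one]
      have h7 : ((QuotientGroup.mk' (Subgroup.centralizer (V : Set X))) x') ^ m = 1 := by
        rw [← map_pow, hx'm, map_one]
      have h8 : orderOf ((QuotientGroup.mk' (Subgroup.centralizer (V : Set X))) x') = 1 :=
        Nat.eq_one_of_dvd_coprimes (Nat.Coprime.pow_right k hmp)
          (orderOf_dvd_of_pow_eq_one h7) (orderOf_dvd_of_pow_eq_one h6)
      exact (QuotientGroup.eq_one_iff _).mp (orderOf_eq_one_iff.mp h8)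
    have hx'Z : Subgroup.zpowers x' ≤ Subgroup.centralizer (ZQ : Set X) := by
      apply Cfsg.Agent.Lib.Helper6.centralizes_of_centralizes_omega (Subgroup.zpowers x') ZQ ?_
        hZQp ?_ ?_
      · rw [Nat.card_zpowers]; exact hcop
      · rw [Subgroup.normalizer_eq_top_iff.mpr hZQn]; exact le_top
      · intro y hy hyp a ha
        rcases hyp with hyp | ⟨h2', -⟩
        · have hyV : y ∈ V := by rw [hV]; exact Subgroup.subset_closure ⟨hy, hyp⟩
          have haC : a ∈ Subgroup.centralizer (V : Set X) := (Subgroup.zpowers_le.mpr hx'C) ha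
          have := (Subgroup.mem_centralizer_iff.mp haC) y hyV
          rw [← this]; group
        · exact absurd h2' hp2
    have hZT : (T : Subgroup X) ⊓ Subgroup.centralizer ((T : Subgroup X) : Set X) ≤ ZQ := by
      intro z hz
      have hzC : z ∈ Subgroup.centralizer (Cfsg.pCore p X : Set X) :=
        Subgroup.centralizer_le hQT (Subgroup.mem_inf.mp hz).2
      rw [hZQ]; exact Subgroup.mem_inf.mpr ⟨hc hzC, hzC⟩
    have hx'M : x' ∈ Subgroup.centralizer
        (((T : Subgroup X) ⊓ Subgroup.centralizer ((T : Subgroup X) : Set X) : Subgroup X) :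
          Set X) :=
      Subgroup.centralizer_le hZT (hx'Z (Subgroup.mem_zpowers x'))
    rw [h3] at hx'M
    obtain ⟨k, hk⟩ := hTp ⟨x', hx'M⟩
    have hk' : x' ^ (p ^ k) = 1 := pow_eq_one_of_subtype hx'M hk
    have h9 : orderOf x' = 1 :=
      Nat.Coprime.eq_one_of_dvd (Nat.Coprime.pow_right k hcop) (orderOf_dvd_of_pow_eq_one hk')
    exact orderOf_eq_one_iff.mp h9

end Cfsg.Agent.Lib.Helper1
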