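import Mathlib
import Cfsg.Prelude.Def_Local
import Cfsg.Agent.Lib.Helper1.ZJ6

/-!
# `N_G(P)/C_G(P)` versus `N(P̄)/C(P̄)` modulo `O_{p'}(G)` (helper1)
-/

set_option autoImplicit false
open Pointwise
open scoped commutatorElement

namespace Cfsg.Agent.Lib.Helper1

variable {G : Type*} [Group G]

theorem pCore_le_pPrimePCore [Finite G] (p : ℕ) : Cfsg.pCore p G ≤ Cfsg.pPrimePCore p G := by
  unfold Cfsg.pPrimePCore
  rw [← Subgroup.map_le_iff_le_comap]
  exact pCore_map_le p _ (QuotientGroup.mk'_surjective _)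

set_option maxHeartbeats 1000000 in
/-- membership in `O_p(N_G(P)/C_G(P))` can be tested modulo `O_{p'}(G)` when `O_{p'}(G) P` is
normal -/
theorem stable_transfer [Finite G] {p : ℕ} [Fact p.Prime] {Gb : Type*} [Group Gb] (π : G →* Gb)
    (hπs : Function.Surjective π) (hπk : π.ker = Cfsg.pPrimeCore p G)
    (P : Subgroup G) (hP : IsPGroup p P)
    (hn : (P.map π).Normal) (a : G)
    (ha : a ∈ Subgroup.normalizer (P : Set G))
    (ha' : π a ∈ Subgroup.normalizer ((P.map π : Subgroup _) : Set _)) :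
    (QuotientGroup.mk' ((Subgroup.centralizer (P : Set G)).subgroupOf
        (Subgroup.normalizer (P : Set G))) ⟨a, ha⟩ ∈ Cfsg.pCore p _) ↔
    (QuotientGroup.mk' ((Subgroup.centralizer
        ((P.map π : Subgroup _) : Set _)).subgroupOf
        (Subgroup.normalizer ((P.map π : Subgroup _) :
          Set _))) ⟨π a, ha'⟩ ∈ Cfsg.pCore p _) := by
  haveI : Finite Gb := Finite.of_surjective π hπs
  have hcop := Cfsg.Agent.Lib.Helper4.pPrimeCore_coprime p G
  have hPO : P ⊓ Cfsg.pPrimeCore p G = ⊥ := by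
    apply disjoint_iff.mp
    apply Subgroup.disjoint_of_coprime_natCard
    obtain ⟨n, hn'⟩ := IsPGroup.iff_card.mp hP
    rw [hn']
    exact Nat.Coprime.pow_left n hcop.symm
  have hNO : Cfsg.pPrimeCore p G ⊔ Subgroup.normalizer (P : Set G) = ⊤ := by
    apply sup_normalizer_eq_top_of_map_normal (Cfsg.pPrimeCore p G) hcop P hP
    have hX : (P ⊔ Cfsg.pPrimeCore p G).Normal := by
      rw [← hπk, ← Subgroup.comap_map_eq]; exact hn.comap π
    have h1 : P.map (QuotientGroup.mk' (Cfsg.pPrimeCore p G))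
        = (P ⊔ Cfsg.pPrimeCore p G).map (QuotientGroup.mk' (Cfsg.pPrimeCore p G)) := by
      rw [Subgroup.map_sup]
      have : (Cfsg.pPrimeCore p G).map (QuotientGroup.mk' (Cfsg.pPrimeCore p G)) = ⊥ := by
        rw [Subgroup.map_eq_bot_iff, QuotientGroup.ker_mk']
      rw [this, sup_bot_eq]
    rw [h1]
    exact hX.map _ (QuotientGroup.mk'_surjective _)
  have hNb : ∀ n : ↥(Subgroup.normalizer (P : Set G)),
      π (n : G) ∈ Subgroup.normalizer ((P.map π : Subgroup _) : Set _) := by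
    intro n
    rw [Subgroup.normalizer_eq_top_iff.mpr hn]
    trivial
  obtain ⟨φ₀, hφ₀⟩ : ∃ φ₀ : ↥(Subgroup.normalizer (P : Set G)) →*
      ↥(Subgroup.normalizer ((P.map π : Subgroup _) : Set _)), ∀ n, ((φ₀ n : ↥(Subgroup.normalizer ((P.map π : Subgroup Gb) : Set Gb))) : Gb) = π (n : G) :=
    ⟨(π.comp (Subgroup.subtype _)).codRestrict _ hNb, fun n => rfl⟩
  obtain ⟨ψ, hψ⟩ : ∃ ψ : ↥(Subgroup.normalizer (P : Set G)) →*
      ↥(Subgroup.normalizer ((P.map π : Subgroup Gb) : Set Gb)) ⧸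
        (Subgroup.centralizer ((P.map π : Subgroup Gb) : Set Gb)).subgroupOf
          (Subgroup.normalizer ((P.map π : Subgroup Gb) : Set Gb)),
      ∀ n, ψ n = QuotientGroup.mk' ((Subgroup.centralizer ((P.map π : Subgroup Gb) : Set Gb)).subgroupOf
          (Subgroup.normalizer ((P.map π : Subgroup Gb) : Set Gb))) (φ₀ n) := by
    refine ⟨(QuotientGroup.mk' ((Subgroup.centralizer ((P.map π : Subgroup Gb) : Set Gb)).subgroupOf
          (Subgroup.normalizer ((P.map π : Subgroup Gb) : Set Gb)))).comp φ₀, ?_⟩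
    intro n
    rfl
  have hker : (Subgroup.centralizer (P : Set G)).subgroupOf (Subgroup.normalizer (P : Set G))
      ≤ ψ.ker := by
    intro n hn'
    rw [Subgroup.mem_subgroupOf] at hn'
    rw [MonoidHom.mem_ker, hψ, QuotientGroup.mk'_apply, QuotientGroup.eq_one_iff,
      Subgroup.mem_subgroupOf, hφ₀, Subgroup.mem_centralizer_iff]
    rintro _ ⟨x, hx, rfl⟩
    rw [← map_mul, ← map_mul, Subgroup.mem_centralizer_iff.mp hn' x hx]
  have hker' : ∀ n : ↥(Subgroup.normalizer (P : Set G)), ψ n = 1 →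
      n ∈ (Subgroup.centralizer (P : Set G)).subgroupOf (Subgroup.normalizer (P : Set G)) := by
    intro n hn'
    rw [hψ, QuotientGroup.mk'_apply, QuotientGroup.eq_one_iff, Subgroup.mem_subgroupOf, hφ₀,
      Subgroup.mem_centralizer_iff] at hn'
    rw [Subgroup.mem_subgroupOf, Subgroup.mem_centralizer_iff]
    intro x hx
    have h1 := hn' (π x) (Subgroup.mem_map_of_mem π hx)
    have h2 : (n : G) * x * (n : G)⁻¹ * x⁻¹ ∈ P ⊓ Cfsg.pPrimeCore p G := by
      refine Subgroup.mem_inf.mpr ⟨?_, ?_⟩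
      · exact P.mul_mem ((Subgroup.mem_normalizer_iff.mp n.2 x).mp hx) (P.inv_mem hx)
      · rw [← hπk, MonoidHom.mem_ker, map_mul, map_mul, map_mul, map_inv, map_inv, ← h1]
        group
    rw [hPO, Subgroup.mem_bot] at h2
    have h3 : x * (n : G) = ((n : G) * x * (n : G)⁻¹ * x⁻¹)⁻¹ * ((n : G) * x) := by group
    rw [h3, h2, inv_one, one_mul]
  have hsurj : Function.Surjective (QuotientGroup.lift _ ψ hker) := by
    intro y
    obtain ⟨⟨gb, hgb⟩, rfl⟩ := QuotientGroup.mk_surjective y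
    obtain ⟨g, rfl⟩ := hπs gb
    have hg : g ∈ Cfsg.pPrimeCore p G ⊔ Subgroup.normalizer (P : Set G) := by
      rw [hNO]; trivial
    obtain ⟨o, ho, n, hn', rfl⟩ := Subgroup.mem_sup_of_normal_left.mp hg
    refine ⟨QuotientGroup.mk ⟨n, hn'⟩, ?_⟩
    rw [QuotientGroup.lift_mk, hψ]
    have e : φ₀ ⟨n, hn'⟩ = ⟨π (o * n), hgb⟩ := by
      apply Subtype.ext
      rw [hφ₀]
      show π n = π (o * n)
      have : π o = 1 := by
        rw [← MonoidHom.mem_ker, hπk]; exact ho
      rw [map_mul, this, one_mul]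
    rw [e]
    rfl
  have hinj : Function.Injective (QuotientGroup.lift _ ψ hker) := by
    rw [injective_iff_map_eq_one]
    intro y hy
    obtain ⟨n, rfl⟩ := QuotientGroup.mk_surjective y
    rw [QuotientGroup.lift_mk] at hy
    exact (QuotientGroup.eq_one_iff n).mpr (hker' n hy)
  have hval : QuotientGroup.lift _ ψ hker (QuotientGroup.mk' _ ⟨a, ha⟩)
      = QuotientGroup.mk' _ ⟨π a, ha'⟩ := by
    rw [QuotientGroup.mk'_apply, QuotientGroup.lift_mk, hψ]
    have e : φ₀ ⟨a, ha⟩ = ⟨π a, ha'⟩ := Subtype.ext (hφ₀ _)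
    rw [e]
  constructor
  · intro h
    rw [← hval]
    exact pCore_map_le p _ hsurj ⟨_, h, rfl⟩
  · intro h
    have hKn : ((Cfsg.pCore p _).comap (QuotientGroup.lift _ ψ hker)).Normal :=
      (Cfsg.Agent.Lib.Helper4.pCore_normal p _).comap _
    have hKp : IsPGroup p ((Cfsg.pCore p _).comap (QuotientGroup.lift _ ψ hker)) :=
      (Cfsg.Agent.Lib.Helper4.pCore_isPGroup p _).comap_of_injective _ hinj
    apply Cfsg.Agent.Lib.Helper4.le_pCore hKn hKp
    rw [Subgroup.mem_comap, hval]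
    exact h

end Cfsg.Agent.Lib.Helper1
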